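import Cfsg.Agent.Cit.Nil.RTwoM.L1.SwapW

/-!
# S1309, (6b), `r = 2`: C-swaps: (3.2), (3.3), (3.4)

`blueprints/R18-6b-r1-helper545.md` for `K u := R_u` (`ROne/SwapN.lean`, helper194). `ha : ANT Om` (helper596's `ANT`).
For a C-swap `(u, v)`, `w = wt u v`, `N = NC w u = NC w v`:

* `swap_an`, `swap_mem`, `swap_NC`, `swap_ncab`, `swap_act`, `swap_act'`, `swap_cent`, `swap_Inn` : (3.2);
* `swap_in`, `swap_in'` (on `R_u`, `R_v`), `swap_mb`, `swap_mb'` (on members);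
* `swap_uniq` : (3.3);
* `dg_mem`, `dg_conj`, `dg_conj'` : (3.4).
-/

set_option autoImplicit false
set_option linter.style.haveILetI false
set_option linter.unusedSectionVars false

namespace Cfsg.Agent.Cit.Nil.RTwoM

open Subgroup Cfsg Cfsg.Agent.Cit
open L1 (Zs S2 ZS ANs)
open ROne (NC NCab wt dg self_mem_NC conj_mem_NC cj_NC mem_NC_conj NC_norm NC_le_of_norm NC_le_NC NC_conj comm_of_gens
  comm_inv K_le_cent K_norm)

variable {G : Type*} [Group G] {Om : Set (Subgroup G)} {K L M : Subgroup G} {z t u v g x y s n m k l a b : G}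

namespace WM

variable [Finite G] (h : WM Om) (ha : ANT Om)

include h ha

theorem ant_TT (S : Sylow 2 G) (hs : s ∈ ROne.TT (Zs Om) (RZ Om) (S : Subgroup G)) (hs1 : s ≠ 1) : ANs Om s :=
  L1.an_of_tt h ha S hs hs1

theorem an_Z (hz : z ∈ Zs Om) : ANs Om z := by
  obtain ⟨S, hS⟩ := h.wg.exists_sylow hz
  exact h.ant_TT ha S (subset_closure hS) (h.wg.ne z hz)

theorem an_cp (hz : z ∈ Zs Om) (hu : u ∈ Zs Om) (hc : ROne.CP (RZ Om) z u) : ANs Om (z * u) := by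
  obtain ⟨S, h1, h2⟩ := h.wg.exists_sylow_of_cp hz hu hc
  exact h.ant_TT ha S (mul_mem (subset_closure h1) (subset_closure h2)) (h.wg.cp_mul_ne hu hc)

section swap

variable (hu : u ∈ Zs Om) (hv : v ∈ Zs Om) (hs : ROne.CSw (RZ Om) u v)

include hu hv hs

theorem swap_an : ANs Om (wt u v) := by
  obtain ⟨S, -, -, h1⟩ := h.ws.wt_mem_TT hu hv hs
  exact h.ant_TT ha S h1 (h.ws.wt_ne hu hv hs)

/-- **(3.2)** : `v ∈ N` -/
theorem swap_mem : v ∈ NC (wt u v) u := by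
  rcases h.nc_in_or (h.swap_an ha hu hv hs) (h.ws.mem_ZC_u hu hv hs) (h.ws.mem_ZC_v hu hv hs) with h1 | h1
  · exact h1
  · exact absurd (h1 u self_mem_NC v (h.wg.mem v hv)) (h.ws.csw_not_comm hu hv hs)

theorem swap_mem' : u ∈ NC (wt u v) v := by
  have h1 := h.swap_mem ha hv hu (h.ws.csw_symm hu hv hs)
  rwa [h.ws.wt_symm hu hv hs] at h1

/-- **(3.2)** : `N = ⟨v ^ H⟩` -/
theorem swap_NC : NC (wt u v) u = NC (wt u v) v :=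
  le_antisymm (NC_le_NC (h.swap_mem' ha hu hv hs)) (NC_le_NC (h.swap_mem ha hu hv hs))

omit ha in
theorem conj_u_ne : v * u * v⁻¹ ≠ u := fun h1 => hs.1 h1.symm

theorem swap_ncab : ¬ NCab (wt u v) u := fun hc =>
  h.ws.csw_not_comm hu hv hs (hc u self_mem_NC v (h.swap_mem ha hu hv hs))

/-- **(3.2)** : `[u, N] = ⟨w⟩` -/
theorem swap_act (hn : n ∈ NC (wt u v) u) : n * u * n⁻¹ = u ∨ n * u * n⁻¹ = u * wt u v := by
  by_cases h1 : n * u * n⁻¹ = u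
  · exact Or.inl h1
  right
  rw [h.nc_uniq (h.swap_an ha hu hv hs) (h.ws.mem_ZC_u hu hv hs) hn (h.swap_mem ha hu hv hs) h1
    (h.conj_u_ne hu hv hs), h.wg.conj_u hu hv hs]

/-- **(3.2)** : `[v, N] = ⟨w⟩` -/
theorem swap_act' (hn : n ∈ NC (wt u v) u) : n * v * n⁻¹ = v ∨ n * v * n⁻¹ = v * wt u v := by
  have h1 := h.swap_act ha hv hu (h.ws.csw_symm hu hv hs) (n := n) (by
    rw [h.ws.wt_symm hu hv hs, ← h.swap_NC ha hu hv hs]; exact hn)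
  rwa [h.ws.wt_symm hu hv hs] at h1

/-- **(3.2)** : `R_u` centralises `Z(N)` -/
theorem swap_cent (hn : n ∈ NC (wt u v) u) (hc : ∀ m ∈ NC (wt u v) u, n * m = m * n) : ROne.Cen (RZ Om) n u :=
  h.nc_centre' (h.swap_an ha hu hv hs) (h.ws.mem_ZC_u hu hv hs) (h.swap_ncab ha hu hv hs) hn hc

/-- **(3.2)** : `R_v` centralises `Z(N)` -/
theorem swap_cent' (hn : n ∈ NC (wt u v) u) (hc : ∀ m ∈ NC (wt u v) u, n * m = m * n) : ROne.Cen (RZ Om) n v := by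
  have h1 := h.swap_NC ha hu hv hs
  refine h.swap_cent ha hv hu (h.ws.csw_symm hu hv hs) (n := n) ?_ fun m hm => ?_
  · rw [h.ws.wt_symm hu hv hs, ← h1]; exact hn
  · rw [h.ws.wt_symm hu hv hs, ← h1] at hm
    exact hc m hm

/-- (2.3) : `n ∈ C_N(x)`, `x ∈ Z(w)`, acts on the members over `x` as an inner automorphism -/
theorem swap_inner (hx : x ∈ ZS Om (wt u v)) (hM : Mem Om x M) (hn : n ∈ NC (wt u v) u) (hnx : n * x = x * n)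
    (hk : k ∈ M) : n * k * n⁻¹ = k ∨ n * k * n⁻¹ = k * x :=
  h.nc_mem (h.swap_an ha hu hv hs) (h.ws.mem_ZC_u hu hv hs) (h.swap_ncab ha hu hv hs) hx hM hn hnx k hk

theorem swap_Inn (hn : n ∈ NC (wt u v) u) (hnu : n * u = u * n) : Inn Om u n :=
  h.nc_Inn (h.swap_an ha hu hv hs) (h.ws.mem_ZC_u hu hv hs) (h.swap_ncab ha hu hv hs) (h.ws.mem_ZC_u hu hv hs) hn hnu

theorem swap_Inn' (hn : n ∈ NC (wt u v) u) (hnv : n * v = v * n) : Inn Om v n :=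
  h.nc_Inn (h.swap_an ha hu hv hs) (h.ws.mem_ZC_u hu hv hs) (h.swap_ncab ha hu hv hs) (h.ws.mem_ZC_v hu hv hs) hn hnv

/-- (2.3) for a member over `u` -/
theorem swap_mb (hM : Mem Om u M) (hn : n ∈ NC (wt u v) u) (hnu : n * u = u * n) (hk : k ∈ M) :
    n * k * n⁻¹ = k ∨ n * k * n⁻¹ = k * u :=
  h.swap_inner ha hu hv hs (h.ws.mem_ZC_u hu hv hs) hM hn hnu hk

/-- (2.3) for a member over `v` -/
theorem swap_mb' (hM : Mem Om v M) (hn : n ∈ NC (wt u v) u) (hnv : n * v = v * n) (hk : k ∈ M) :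
    n * k * n⁻¹ = k ∨ n * k * n⁻¹ = k * v :=
  h.swap_inner ha hu hv hs (h.ws.mem_ZC_v hu hv hs) hM hn hnv hk

/-- (2.3) for `u` -/
theorem swap_in (hn : n ∈ NC (wt u v) u) (hnu : n * u = u * n) (hk : k ∈ RZ Om u) :
    n * k * n⁻¹ = k ∨ n * k * n⁻¹ = k * u :=
  h.nc_inn (h.swap_an ha hu hv hs) (h.ws.mem_ZC_u hu hv hs) (h.swap_ncab ha hu hv hs) hn hnu k hk

/-- (2.3) for `v` -/
theorem swap_in' (hn : n ∈ NC (wt u v) u) (hnv : n * v = v * n) (hk : k ∈ RZ Om v) :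
    n * k * n⁻¹ = k ∨ n * k * n⁻¹ = k * v :=
  h.nc_inn' (h.swap_an ha hu hv hs) (h.ws.mem_ZC_u hu hv hs) (h.swap_ncab ha hu hv hs) (h.ws.mem_ZC_v hu hv hs) hn
    hnv k hk

/-- a member over `u` meets `N` in `⟨u⟩` -/
theorem swap_inf (hM : Mem Om u M) (hx : x ∈ M) (hxN : x ∈ NC (wt u v) u) : x = 1 ∨ x = u :=
  h.nc_inf (h.swap_an ha hu hv hs) (h.ws.mem_ZC_u hu hv hs) hM hx hxN

/-- a member over `v` meets `N` in `⟨v⟩` -/
theorem swap_inf' (hM : Mem Om v M) (hx : x ∈ M) (hxN : x ∈ NC (wt u v) u) : x = 1 ∨ x = v := by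
  refine h.nc_inf (h.swap_an ha hu hv hs) (h.ws.mem_ZC_v hu hv hs) hM hx ?_
  rwa [← h.swap_NC ha hu hv hs]

/-- an element of `Z(w)` lies in `N` or `R_x` centralises `N` -/
theorem swap_or (hx : x ∈ Zs Om) (hc : ROne.Cen (RZ Om) (wt u v) x) :
    x ∈ NC (wt u v) u ∨ ∀ n ∈ NC (wt u v) u, ROne.Cen (RZ Om) n x :=
  h.nc_in_or (h.swap_an ha hu hv hs) (h.ws.mem_ZC_u hu hv hs) ⟨hx, hc⟩

theorem wt_mem : wt u v ∈ NC (wt u v) u := by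
  have h2 : wt u v = u * (v * u * v⁻¹) := rfl
  have h3 : v * u * v⁻¹ ∈ NC (wt u v) u :=
    mul_mem (mul_mem (h.swap_mem ha hu hv hs) self_mem_NC) (inv_mem (h.swap_mem ha hu hv hs))
  have h4 := mul_mem (self_mem_NC (s := wt u v) (y := u)) h3
  exact h4

/-- `[a, b]` is central in `N` -/
theorem swap_comm (haN : a ∈ NC (wt u v) u) (hbN : b ∈ NC (wt u v) u) :
    ∀ n ∈ NC (wt u v) u, (a * b * a⁻¹ * b⁻¹) * n = n * (a * b * a⁻¹ * b⁻¹) :=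
  h.nc_comm (h.swap_an ha hu hv hs) (h.ws.mem_ZC_u hu hv hs) (h.swap_ncab ha hu hv hs) haN hbN

/-- `a²` is central in `N` -/
theorem swap_sq (haN : a ∈ NC (wt u v) u) : ∀ n ∈ NC (wt u v) u, (a * a) * n = n * (a * a) :=
  h.nc_sq_comm (h.swap_an ha hu hv hs) (h.ws.mem_ZC_u hu hv hs) (h.swap_ncab ha hu hv hs) haN

/-! ### (3.4) -/

theorem K_norm_u (hk : k ∈ RZ Om u) (hn : n ∈ NC (wt u v) u) : k * n * k⁻¹ ∈ NC (wt u v) u :=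
  mem_NC_conj (h.ws.wt_cen_u hu hv hs k hk).symm hn

theorem K_norm_v (hk : k ∈ RZ Om v) (hn : n ∈ NC (wt u v) u) : k * n * k⁻¹ ∈ NC (wt u v) u :=
  mem_NC_conj (h.ws.wt_cen_v hu hv hs k hk).symm hn

/-- `d_k ∈ N` for `k` of order 4 -/
theorem dg_mem (hk : k ∈ RZ Om u) (hkk : k * k = u) : dg v k ∈ NC (wt u v) u := by
  have h1 := h.ws.conj_k_v hu hv hs hk hkk
  have h2 := h.K_norm_u ha hu hv hs hk (h.swap_mem ha hu hv hs)
  rw [h1] at h2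
  have h3 : dg v k = v⁻¹ * (v * dg v k * u) * u⁻¹ := by group
  rw [h3]
  exact mul_mem (mul_mem (inv_mem (h.swap_mem ha hu hv hs)) h2) (inv_mem self_mem_NC)

/-- `n ∈ C_N(u)` acts on `R_u'` as on `R_u` -/
theorem conj_vkv (hn : n ∈ NC (wt u v) u) (hk : k ∈ RZ Om u) :
    n * (v * k * v⁻¹) * n⁻¹ = v * (n * k * n⁻¹) * v⁻¹ := by
  have hN := h.swap_mem ha hu hv hs
  -- `c = n⁻¹ v⁻¹ n v` is central in `N`
  have h1 := h.swap_comm ha hu hv hs (inv_mem hn) (inv_mem hN)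
  have h2 : n⁻¹ * v⁻¹ * n⁻¹⁻¹ * v⁻¹⁻¹ ∈ NC (wt u v) u :=
    mul_mem (mul_mem (mul_mem (inv_mem hn) (inv_mem hN)) (inv_mem (inv_mem hn))) (inv_mem (inv_mem hN))
  have h3 := h.swap_cent ha hu hv hs h2 h1 k hk
  have h4 : v⁻¹ * n * v = n * (n⁻¹ * v⁻¹ * n⁻¹⁻¹ * v⁻¹⁻¹) := by group
  calc n * (v * k * v⁻¹) * n⁻¹ = v * ((v⁻¹ * n * v) * k * (v⁻¹ * n * v)⁻¹) * v⁻¹ := by group
    _ = v * (n * ((n⁻¹ * v⁻¹ * n⁻¹⁻¹ * v⁻¹⁻¹) * k) * (n * (n⁻¹ * v⁻¹ * n⁻¹⁻¹ * v⁻¹⁻¹))⁻¹) * v⁻¹ := by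
        rw [h4]; group
    _ = v * (n * (k * (n⁻¹ * v⁻¹ * n⁻¹⁻¹ * v⁻¹⁻¹)) * (n * (n⁻¹ * v⁻¹ * n⁻¹⁻¹ * v⁻¹⁻¹))⁻¹) * v⁻¹ := by rw [h3]
    _ = v * (n * k * n⁻¹) * v⁻¹ := by group

/-- **(3.4)** : `n ∈ N` centralising `k` centralises `d_k` -/
theorem dg_conj (hn : n ∈ NC (wt u v) u) (hk : k ∈ RZ Om u) (hc : n * k * n⁻¹ = k) : n * dg v k * n⁻¹ = dg v k := by
  have h1 := h.conj_vkv ha hu hv hs hn hk
  unfold dg
  calc n * (k * (v * k * v⁻¹)) * n⁻¹ = (n * k * n⁻¹) * (n * (v * k * v⁻¹) * n⁻¹) := by group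
    _ = k * (v * k * v⁻¹) := by rw [h1, hc]

/-- **(3.4)** : `k ^ n = k u` gives `d_k ^ n = d_k w` -/
theorem dg_conj' (hn : n ∈ NC (wt u v) u) (hk : k ∈ RZ Om u) (hc : n * k * n⁻¹ = k * u) :
    n * dg v k * n⁻¹ = dg v k * wt u v := by
  have h1 := h.conj_vkv ha hu hv hs hn hk
  have h2 := hs.2 u (h.wg.mem u hu) (v * k * v⁻¹) (h.wg.conj_mem_K hu v hk)
  unfold dg wt
  calc n * (k * (v * k * v⁻¹)) * n⁻¹ = (n * k * n⁻¹) * (n * (v * k * v⁻¹) * n⁻¹) := by group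
    _ = k * (u * (v * k * v⁻¹)) * (v * u * v⁻¹) := by rw [h1, hc]; group
    _ = k * (v * k * v⁻¹) * (u * (v * u * v⁻¹)) := by rw [h2]; group

end swap

omit ha in
/-- **(3.3)** -/
theorem swap_uniq (hAN : ANs Om s) {v' : G} (hu : u ∈ Zs Om) (hv : v ∈ Zs Om) (hv' : v' ∈ Zs Om)
    (hs : ROne.CSw (RZ Om) u v) (hs' : ROne.CSw (RZ Om) u v') (h1 : ROne.Cen (RZ Om) s u)
    (h2 : ROne.Cen (RZ Om) s v) (h3 : ROne.Cen (RZ Om) s v') : wt u v = wt u v' :=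
  (S2.mk h hAN ⟨hu, h1⟩).wt_unique ⟨hv, h2⟩ ⟨hv', h3⟩ (fun h4 => h.ws.csw_not_comm hu hv hs h4.symm)
    (fun h4 => h.ws.csw_not_comm hu hv' hs' h4.symm)

omit ha in
/-- **(3.3)**, first entry -/
theorem swap_uniq' (hAN : ANs Om s) {u' : G} (hu : u ∈ Zs Om) (hu' : u' ∈ Zs Om) (hv : v ∈ Zs Om)
    (hs : ROne.CSw (RZ Om) u v) (hs' : ROne.CSw (RZ Om) u' v) (h1 : ROne.Cen (RZ Om) s u)
    (h2 : ROne.Cen (RZ Om) s u') (h3 : ROne.Cen (RZ Om) s v) : wt u v = wt u' v := by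
  have h4 := h.swap_uniq hAN hv hu hu' (h.ws.csw_symm hu hv hs) (h.ws.csw_symm hu' hv hs') h3 h1 h2
  rwa [h.ws.wt_symm hu hv hs, h.ws.wt_symm hu' hv hs'] at h4

end WM

end Cfsg.Agent.Cit.Nil.RTwoM
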