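import Cfsg.Agent.Cit.Nil.RTwoM.L1.ClaimM
import Cfsg.Agent.Cit.Nil.RTwoM.L1.SwapN

/-!
# S1309, (6b), `r = 2`: CLAIM S

`WM.claim_s` : `(u, v)` a C-swap, `M` ANY member over `u`, `N` ANY member over `v`: every homomorphism
`⟨M, N⟩ → ±1` is trivial on `M` (and on `N` : `claim_s'`; hence on `M ⊔ N` : `claim_s_top`).
-/

set_option autoImplicit false
set_option linter.style.haveILetI false
set_option linter.unusedSectionVars false

namespace Cfsg.Agent.Cit.Nil.RTwoM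

open Subgroup Cfsg Cfsg.Agent.Cit
open L1 (Zs S2 ZS ANs sel sel_u sel_v SD)
open ROne (NC NCab wt dg)

variable {G : Type*} [Group G] {Om : Set (Subgroup G)} {u v x k l : G} {M N : Subgroup G}

namespace WM

variable [Finite G] (h : WM Om) (ha : ANT Om) (hM : Mem Om u M) (hN : Mem Om v N)
  (hs : ROne.CSw (RZ Om) u v)

include h ha hM hN hs

theorem sd_half (hl : l ∈ N) (hll : l * l = v) (hk : k ∈ M) :
    (dg u l * k * (dg u l)⁻¹ = k ∨ dg u l * k * (dg u l)⁻¹ = k * u) ∧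
    (dg u l * k * (dg u l)⁻¹ = k → dg u l * dg v k * (dg u l)⁻¹ = dg v k) ∧
    (dg u l * k * (dg u l)⁻¹ = k * u → dg u l * dg v k * (dg u l)⁻¹ = dg v k * wt u v) := by
  have hu : u ∈ Zs Om := hM.inZ
  have hv : v ∈ Zs Om := hN.inZ
  have hs' := h.ws.csw_symm hu hv hs
  have hn : dg u l ∈ NC (wt u v) u := by
    have h1 := h.dg_mem ha hv hu hs' (hN.le_RZ hl) hll
    rwa [h.ws.wt_symm hu hv hs, ← h.swap_NC ha hu hv hs] at h1
  have hc : dg u l * u = u * dg u l := h.ws.dg_comm_v hv hu hs' (hN.le_RZ hl)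
  exact ⟨h.swap_mb ha hu hv hs hM hn hc hk, h.dg_conj ha hu hv hs hn (hM.le_RZ hk),
    h.dg_conj' ha hu hv hs hn (hM.le_RZ hk)⟩

theorem sd_of_swap : SD (sel M N u) u v := by
  have hu : u ∈ Zs Om := hM.inZ
  have hv : v ∈ Zs Om := hN.inZ
  have hs' := h.ws.csw_symm hu hv hs
  have hne : v ≠ u := (h.ws.csw_ne hu hv hs).symm
  have e1 : sel M N u u = M := sel_u M N u
  have e2 : sel M N u v = N := sel_v M N hne
  have hw := h.ws.wt_symm hu hv hs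
  refine ⟨L1.qa_of_mem h hM e1, L1.qa_of_mem h hN e2, ?_, ?_, ?_, ?_, h.ws.wt_ne hu hv hs, ?_, ?_, ?_, ?_, ?_, ?_⟩
  · rw [e1]
    exact fun a haM b hbM => hs.2 a (hM.le_RZ haM) _ (h.wg.conj_mem_K hu v (hM.le_RZ hbM))
  · rw [e2]
    exact fun a haM b hbM => hs'.2 a (hN.le_RZ haM) _ (h.wg.conj_mem_K hv u (hN.le_RZ hbM))
  · intro k hk
    rw [e1] at hk
    exact h.ws.wt_cen_u hu hv hs k (hM.le_RZ hk)
  · intro k hk
    rw [e2] at hk
    exact h.ws.wt_cen_v hu hv hs k (hN.le_RZ hk)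
  · rw [e1, e2]
    exact fun l hl hll k hk => (h.sd_half ha hM hN hs hl hll hk).1
  · rw [e1, e2]
    exact fun k hk hkk l hl => (h.sd_half ha hN hM hs' hk hkk hl).1
  · rw [e1, e2]
    exact fun l hl hll k hk => (h.sd_half ha hM hN hs hl hll hk).2.1
  · rw [e1, e2]
    exact fun l hl hll k hk => (h.sd_half ha hM hN hs hl hll hk).2.2
  · rw [e1, e2]
    exact fun k hk hkk l hl => (h.sd_half ha hN hM hs' hk hkk hl).2.1
  · rw [e1, e2, ← hw]
    exact fun k hk hkk l hl => (h.sd_half ha hN hM hs' hk hkk hl).2.2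

/-- **CLAIM S** -/
theorem claim_s (f : ↥(M ⊔ N) →* ℤˣ) (hx : x ∈ M) : f ⟨x, mem_sup_left hx⟩ = 1 :=
  L1.claim_of_sd h hM hN (h.ws.csw_ne hM.inZ hN.inZ hs).symm (h.sd_of_swap ha hM hN hs) f hx

/-- **CLAIM S** for `N` -/
theorem claim_s' (f : ↥(M ⊔ N) →* ℤˣ) (hx : x ∈ N) : f ⟨x, mem_sup_right hx⟩ = 1 := by
  have gen : ∀ (X : Subgroup G) (_ : N ⊔ M = X) (hNX : N ≤ X) (f : ↥X →* ℤˣ), f ⟨x, hNX hx⟩ = 1 := by
    rintro _ rfl hNX f
    exact h.claim_s ha hN hM (h.ws.csw_symm hM.inZ hN.inZ hs) f hx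
  exact gen _ (sup_comm _ _) le_sup_right f

/-- **CLAIM S** : `⟨M, N⟩` has no subgroup of index 2 -/
theorem claim_s_top (f : ↥(M ⊔ N) →* ℤˣ) (y : ↥(M ⊔ N)) : f y = 1 := by
  have h1 : M ⊔ N ≤ f.ker.map (M ⊔ N).subtype := by
    refine sup_le ?_ ?_
    · intro x hx
      exact ⟨⟨x, mem_sup_left hx⟩, h.claim_s ha hM hN hs f hx, rfl⟩
    · intro x hx
      exact ⟨⟨x, mem_sup_right hx⟩, h.claim_s' ha hM hN hs f hx, rfl⟩
  obtain ⟨z, hz, hzy⟩ := h1 y.2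
  have h2 : z = y := Subtype.ext hzy
  rw [← h2]
  exact hz

end WM

end Cfsg.Agent.Cit.Nil.RTwoM
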