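import Cfsg.Agent.Cit.Nil.RTwoM.L1.SwapN
import Cfsg.Agent.Cit.Nil.ROne.EndG0

/-!
# S1309, (6b), `r = 2`: LAMBDA1: the end (section 10 of helper545's text)

* `WM.two_four`, `WM.two_five` : two fields of `GD`;
* `WM.one_cls` : `ROne.OneCls` from `OneCl`;
* `WM.end_swap` : C-swaps exist, `F*(G) = G0` simple, `GD`, `WOne`: contradiction.
-/

set_option autoImplicit false
set_option linter.style.haveILetI false
set_option linter.unusedSectionVars false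

namespace Cfsg.Agent.Cit.Nil.RTwoM

open Subgroup Cfsg Cfsg.Agent.Cit
open L1 (Zs S2 ZS ANs GD WOne Tor)
open ROne (NC NCab wt dg self_mem_NC conj_mem_NC NC_two CP Cen CSw OneCls FSimp CS)

variable {G : Type*} [Group G] [Finite G] {Om : Set (Subgroup G)} {K L M G0 : Subgroup G} {z t u v g x y s n : G}

/-- a 2-subgroup of a group with a commutative Sylow 2-subgroup is commutative -/
theorem comm_of_sylow {G0 : Type*} [Group G0] [Finite G0] (T : Sylow 2 G0) (hT : IsMulCommutative (T : Subgroup G0))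
    {P : Subgroup G0} (hP : IsPGroup 2 P) {a b : G0} (ha : a ∈ P) (hb : b ∈ P) : a * b = b * a := by
  haveI : Fact (Nat.Prime 2) := ⟨Nat.prime_two⟩
  obtain ⟨T', hT'⟩ := hP.exists_le_sylow
  obtain ⟨r, hr⟩ := MulAction.exists_smul_eq G0 T T'
  have h4 : ∀ x ∈ (T' : Subgroup G0), r⁻¹ * x * r ∈ (T : Subgroup G0) := by
    intro x hx
    rw [← hr] at hx
    have h5 : x ∈ cj r (T : Subgroup G0) := hx
    exact mem_cj.1 h5
  have h5 := congrArg Subtype.val (hT.is_comm.comm ⟨_, h4 _ (hT' ha)⟩ ⟨_, h4 _ (hT' hb)⟩)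
  have h7 : r⁻¹ * a * r * (r⁻¹ * b * r) = r⁻¹ * b * r * (r⁻¹ * a * r) := h5
  calc a * b = r * (r⁻¹ * a * r * (r⁻¹ * b * r)) * r⁻¹ := by group
    _ = r * (r⁻¹ * b * r * (r⁻¹ * a * r)) * r⁻¹ := by rw [h7]
    _ = b * a := by group

namespace WM

theorem one_cls (hone : OneCl Om) : OneCls (Zs Om) := fun u hu v hv => hone u v hu hv

variable (h : WM Om) (ha : ANT Om)

include h ha

theorem an_tor (hs : Tor (Zs Om) (RZ Om) s) : ANs Om s := by
  obtain ⟨hs1, S, hS⟩ := hs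
  exact h.ant_TT ha S hS hs1

/-- (2.4) for `GD` -/
theorem two_four : ∀ s, Tor (Zs Om) (RZ Om) s → ∀ y ∈ Zs Om, ∀ x ∈ Zs Om, Cen (RZ Om) s y → Cen (RZ Om) s x →
    x ∈ NC s y ∨ ∀ n ∈ NC s y, Cen (RZ Om) n x :=
  fun _ hs _ hy _ hx h1 h2 => h.nc_in_or (h.an_tor ha hs) ⟨hy, h1⟩ ⟨hx, h2⟩

/-- (2.5) for `GD` -/
theorem two_five : ∀ s, Tor (Zs Om) (RZ Om) s → ∀ y ∈ Zs Om, Cen (RZ Om) s y → ∀ n ∈ NC s y,
    n * y * n⁻¹ = y ∨ CP (RZ Om) y (n * y * n⁻¹) := by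
  intro s hs y hy h1 n hn
  by_cases h2 : n * y * n⁻¹ = y
  · exact Or.inl h2
  · exact Or.inr (h.nc_csw (h.an_tor ha hs) ⟨hy, h1⟩ hn h2)

/-- **(10.1), (10.2), C-swaps exist** -/
theorem end_swap (hone : OneCl Om) (gd : GD (Zs Om) (RZ Om)) {E : G → Subgroup G} (o : WOne (Zs Om) (RZ Om) E)
    (f : FSimp G0) (hZ : ∀ z, InZ Om z → z ∈ G0) (gold : Cit.ROne.Gold G0) (hu : u ∈ Zs Om) (hv : v ∈ Zs Om)
    (hs : CSw (RZ Om) u v) : False := by
  haveI : Fact (Nat.Prime 2) := ⟨Nat.prime_two⟩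
  have w := h.wg
  obtain ⟨S, hzS⟩ := w.exists_sylow hu
  obtain ⟨A, hA, hAT, hsc, -⟩ := o.exists_closed gd (one_cls hone) h.dat S hzS
  have hAc : ∀ x ∈ A, ∀ y ∈ A, x * y = y * x := fun x hx y hy => w.TT_comm S.isPGroup' (hAT hx) (hAT hy)
  have hAG : A ≤ G0 := hAT.trans ((closure_le _).2 fun x hx => hZ x hx.1)
  obtain ⟨T, hT⟩ := ROne.exists_sylow_subgroupOf f.nor S
  -- `A` in `G0`
  have hA' : A.subgroupOf G0 ≠ ⊥ := by
    intro h1
    apply hA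
    rw [← map_subgroupOf_eq_of_le hAG, h1, Subgroup.map_bot]
  have hc' : ∀ x ∈ A.subgroupOf G0, ∀ y ∈ A.subgroupOf G0, x * y = y * x := fun x hx y hy =>
    Subtype.ext (hAc x hx y hy)
  have hsc' : IsStronglyClosed (A.subgroupOf G0) (T : Subgroup G0) := by
    refine ⟨?_, fun x hx g hg => ?_⟩
    · rw [hT]
      exact comap_mono hsc.1
    · rw [hT] at hg
      exact hsc.2 x hx g hg
  have huG := hZ u hu
  have hvG := hZ v hv
  have hncomm : u * v ≠ v * u := h.ws.csw_not_comm hu hv hs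
  rcases gold T _ hA' ⟨⟨fun a b => Subtype.ext (hc' a a.2 b b.2)⟩⟩ hsc' with h1 | ⟨H, hH⟩
  · -- commutative Sylow subgroups
    have hP : IsPGroup 2 ((NC (wt u v) u).subgroupOf G0) :=
      (NC_two (h.swap_an ha hu hv hs) (h.ws.mem_ZC_u hu hv hs)).comap_subtype
    have h2 := comm_of_sylow T h1 hP (a := ⟨u, huG⟩) (b := ⟨v, hvG⟩) (mem_subgroupOf.2 self_mem_NC)
      (mem_subgroupOf.2 (h.swap_mem ha hu hv hs))
    exact hncomm (congrArg Subtype.val h2)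
  · -- strongly embedded
    have hwG : wt u v ∈ G0 := mul_mem huG (mul_mem (mul_mem hvG huG) (inv_mem hvG))
    have h2 := Cfsg.Agent.TwoFusion.StronglyEmbeddedBasic.isConj_of_involutions hH (⟨u, huG⟩ : G0) ⟨wt u v, hwG⟩
      (by rw [← Subgroup.orderOf_coe]; exact orderOf_eq_prime (by rw [pow_two]; exact w.sq u hu) (w.ne u hu))
      (by
        rw [← Subgroup.orderOf_coe]
        exact orderOf_eq_prime (by rw [pow_two]; exact w.wt_sq hu hv hs) (h.ws.wt_ne hu hv hs))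
    obtain ⟨g, hg⟩ := isConj_iff.1 h2
    have h3 : (g : G) * u * (g : G)⁻¹ = wt u v := congrArg Subtype.val hg
    exact gd.five_eight u hu v hv hs (h3 ▸ w.conjZ u hu g)

end WM

end Cfsg.Agent.Cit.Nil.RTwoM
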