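import Cfsg.Agent.Cit.Nil.RTwoM.L1.NoTS
import Cfsg.Agent.Cit.Nil.RTwoM.L1.ClaimS
import Cfsg.Agent.Cit.Nil.RTwoM.L1.End
import Cfsg.Agent.Cit.Nil.RTwoM.LZero

/-!
# S1309, (6b), (C3), `r = 2`, any `m`: **LAMBDA1 is empty**

`WM.lambda1` : `F*(G) = G0` simple, one class, AN(s) for `s ∈ T_S#`: there are no C-swaps (`L0 Om`).
-/

set_option autoImplicit false
set_option linter.unusedSectionVars false

namespace Cfsg.Agent.Cit.Nil.RTwoM

open Subgroup Cfsg Cfsg.Agent.Cit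
open L1 (Zs)

variable {G : Type*} [Group G] [Finite G] {Om : Set (Subgroup G)} {G0 : Subgroup G}

namespace WM

variable (h : WM Om) (ha : ANT Om)

include h ha

/-- **CLAIM S** -/
theorem cS : L1.ClS Om := fun _ _ _ _ hM hN hs f _ hx => h.claim_s ha hM hN hs f hx

theorem lone (hone : OneCl Om) (hsw : ¬ L0 Om) : L1.LOne Om where
  w := h
  an := ha
  one := one_cls hone
  cS := h.cS ha
  sw := by
    unfold L0 at hsw
    push Not at hsw
    obtain ⟨u, v, hu, hv, hc⟩ := hsw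
    exact ⟨u, hu, v, hv, (L1.cp_iff h hu (hu.conj h v)).2 hc⟩

/-- **LAMBDA1 is empty** -/
theorem lambda1 (hone : OneCl Om) (f : ROne.FSimp G0) (hZ : ∀ z, InZ Om z → z ∈ G0) (gold : Cit.ROne.Gold G0) :
    L0 Om := by
  by_contra hsw
  have c := h.lone ha hone hsw
  obtain ⟨u, hu, v, hv, hs⟩ := c.sw
  exact h.end_swap ha hone c.gd c.wone f hZ gold hu hv hs

end WM

end Cfsg.Agent.Cit.Nil.RTwoM
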