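import Cfsg.Agent.Cit.Nil.RTwoM.L1.WG
import Cfsg.Agent.Cit.Nil.ROne.Swap

/-!
# S1309, (6b), any `r`: C-swaps (section 3 of helper545's text), `K z = R_z`

`WS Z K` : `WG Z K` and (3.1) : `w(u, v)` centralises `K v` for a C-swap `(u, v)`.

The lemmas of `ROne/Swap.lean` (helper194) for `WS`.
-/

set_option autoImplicit false
set_option linter.style.haveILetI false
set_option linter.unusedSectionVars false

namespace Cfsg.Agent.Cit.Nil.RTwoM.L1

open Subgroup Cfsg Cfsg.Agent.Cit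
open ROne (CP Cen NP CSw wt ZC NC cl Tw CS TT AN mem_cl dg)

variable {G : Type*} [Group G]

namespace WG

variable {Z : Set G} {K : G → Subgroup G} {z u v g x y k l : G} (h : WG Z K)

include h

section csw

variable (hu : u ∈ Z) (hv : v ∈ Z) (hs : CSw K u v)

include hu hv hs

theorem csw_comm : u * (v * u * v⁻¹) = (v * u * v⁻¹) * u := h.comm_of_cp hu (h.conjZ u hu v) hs

theorem csw_conj_self : v * (v * u * v⁻¹) * v⁻¹ = u := by
  have h1 := h.sq v hv
  calc v * (v * u * v⁻¹) * v⁻¹ = (v * v) * u * (v * v)⁻¹ := by group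
    _ = u := by rw [h1]; group

theorem wt_sq : wt u v * wt u v = 1 := by
  have h1 := h.csw_comm hu hv hs
  have h2 := h.sq u hu
  have h3 := h.sq _ (h.conjZ u hu v)
  unfold wt
  calc u * (v * u * v⁻¹) * (u * (v * u * v⁻¹)) = u * ((v * u * v⁻¹) * u) * (v * u * v⁻¹) := by group
    _ = u * (u * (v * u * v⁻¹)) * (v * u * v⁻¹) := by rw [h1]
    _ = (u * u) * ((v * u * v⁻¹) * (v * u * v⁻¹)) := by group
    _ = 1 := by rw [h2, h3, one_mul]

theorem wt_ne : wt u v ≠ 1 := h.cp_mul_ne (h.conjZ u hu v) hs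

theorem wt_comm_u : wt u v * u = u * wt u v := by
  have h1 := h.csw_comm hu hv hs
  unfold wt
  rw [mul_assoc, ← h1]

/-- `v u v⁻¹ = u w` -/
theorem conj_u : v * u * v⁻¹ = u * wt u v := by
  unfold wt
  rw [← mul_assoc, h.sq u hu, one_mul]

/-- `w` commutes with `v` -/
theorem wt_comm_v : wt u v * v = v * wt u v := by
  have h1 := h.csw_comm hu hv hs
  have h2 := h.csw_conj_self hu hv hs
  have h3 : v * wt u v * v⁻¹ = wt u v := by
    unfold wt
    calc v * (u * (v * u * v⁻¹)) * v⁻¹ = (v * u * v⁻¹) * (v * (v * u * v⁻¹) * v⁻¹) := by group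
      _ = u * (v * u * v⁻¹) := by rw [h2, h1]
  rw [mul_inv_eq_iff_eq_mul] at h3
  exact h3.symm

/-- `u v u⁻¹ = v w` -/
theorem conj_v : u * v * u⁻¹ = v * wt u v := by
  have h1 := h.conj_u hu hv hs
  have h2 := h.inv hu
  have h3 := h.inv hv
  have h4 := h.csw_comm hu hv hs
  have h5 := h.wt_sq hu hv hs
  -- `w = u v u v`, `w⁻¹ = v u v u = w`
  have h6 : wt u v = u * v * u * v := by unfold wt; rw [h3]; group
  have h7 : (wt u v)⁻¹ = wt u v := inv_eq_of_mul_eq_one_right h5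
  calc u * v * u⁻¹ = v * (v * u * v * u) := by
        rw [h2]
        have := h.sq v hv
        calc u * v * u = (v * v) * (u * v * u) := by rw [this, one_mul]
          _ = v * (v * u * v * u) := by group
    _ = v * (wt u v)⁻¹ := by
        rw [h6]
        congr 1
        rw [mul_inv_rev, mul_inv_rev, mul_inv_rev, h2, h3]; group
    _ = v * wt u v := by rw [h7]

/-- the diagonal elements are centralised by `v` -/
theorem dg_comm_v (hk : k ∈ K u) : dg v k * v = v * dg v k := by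
  have h1 := hs.2 k hk (v * k * v⁻¹) (h.conj_mem_K hu v hk)
  have h2 := h.sq v hv
  have h3 : v * dg v k * v⁻¹ = dg v k := by
    unfold dg
    calc v * (k * (v * k * v⁻¹)) * v⁻¹ = (v * k * v⁻¹) * ((v * v) * k * (v * v)⁻¹) := by group
      _ = (v * k * v⁻¹) * k := by rw [h2]; group
      _ = k * (v * k * v⁻¹) := h1.symm
  rw [mul_inv_eq_iff_eq_mul] at h3
  exact h3.symm

theorem dg_mul (hk : k ∈ K u) (hl : l ∈ K u) : dg v (k * l) = dg v k * dg v l := by
  have h1 := hs.2 l hl (v * k * v⁻¹) (h.conj_mem_K hu v hk)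
  unfold dg
  calc k * l * (v * (k * l) * v⁻¹) = k * (l * (v * k * v⁻¹)) * (v * l * v⁻¹) := by group
    _ = k * ((v * k * v⁻¹) * l) * (v * l * v⁻¹) := by rw [h1]
    _ = _ := by group

theorem dg_u : dg v u = wt u v := rfl

omit h hu hv hs in
theorem dg_one : dg v (1 : G) = 1 := by unfold dg; group

theorem dg_sq (hk : k ∈ K u) (hkk : k * k = u) : dg v k * dg v k = wt u v := by
  rw [← h.dg_mul hu hv hs hk hk, hkk]
  rfl

end csw

end WG

/-- the world with (3.1) -/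
structure WS (Z : Set G) (K : G → Subgroup G) : Prop extends WG Z K where
  wt_cen' : ∀ u ∈ Z, ∀ v ∈ Z, CSw K u v → Cen K (wt u v) v

namespace WS

variable {Z : Set G} {K : G → Subgroup G} {z u v g x y k l : G} (h : WS Z K)

include h

section csw

variable (hu : u ∈ Z) (hv : v ∈ Z) (hs : CSw K u v)

include hu hv hs

/-- **(3.1)** : `w` centralises `K v` -/
theorem wt_cen_v : Cen K (wt u v) v := h.wt_cen' u hu v hv hs

/-- **(3.1)** : `(v, u)` is a C-swap -/
theorem csw_symm : CSw K v u := by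
  unfold CSw
  have h1 := h.conj_v hu hv hs
  have h2 : u * v * u⁻¹ ∈ Z := h.conjZ v hv u
  refine h.csymm hv h2 ?_ ?_
  · intro h3
    rw [h1] at h3
    exact h.wt_ne hu hv hs (mul_eq_left.1 h3.symm)
  · rw [h1]
    exact ROne.Cen.mul (fun k hk => (h.cent hv hk).symm) (h.wt_cen_v hu hv hs)

theorem wt_symm : wt v u = wt u v := by
  have h1 := h.conj_v hu hv hs
  unfold wt
  rw [h1, ← mul_assoc, h.sq v hv, one_mul]
  rfl

/-- **(3.1)** : `w` centralises `K u` -/
theorem wt_cen_u : Cen K (wt u v) u := by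
  have h1 := h.wt_cen_v hv hu (h.csw_symm hu hv hs)
  rwa [h.wt_symm hu hv hs] at h1

/-- `w` centralises `K u'` -/
theorem wt_cen_u' : Cen K (wt u v) (v * u * v⁻¹) := by
  have h1 := h.cen_conj hu v (h.wt_cen_u hu hv hs)
  rwa [← h.wt_comm_v hu hv hs, mul_inv_cancel_right] at h1

theorem wt_cen_v' : Cen K (wt u v) (u * v * u⁻¹) := by
  have h1 := h.cen_conj hv u (h.wt_cen_v hu hv hs)
  rwa [← h.wt_comm_u hu hv hs, mul_inv_cancel_right] at h1

/-- `v` does not commute with `u` -/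
theorem csw_not_comm : u * v ≠ v * u := by
  intro h1
  apply hs.1
  rw [← h1, mul_inv_cancel_right]

theorem csw_ne : u ≠ v := fun h1 => h.csw_not_comm hu hv hs (by rw [h1])

/-- `w ∈ T_S` for a Sylow subgroup `S` -/
theorem wt_mem_TT [Finite G] : ∃ S : Sylow 2 G, u ∈ CS Z K S ∧ v * u * v⁻¹ ∈ CS Z K S ∧ wt u v ∈ TT Z K S := by
  obtain ⟨S, h1, h2⟩ := h.exists_sylow_of_cp hu (h.conjZ u hu v) hs
  exact ⟨S, h1, h2, mul_mem (subset_closure h1) (subset_closure h2)⟩

theorem mem_ZC_u : u ∈ ZC Z K (wt u v) := ⟨hu, h.wt_cen_u hu hv hs⟩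

theorem mem_ZC_v : v ∈ ZC Z K (wt u v) := ⟨hv, h.wt_cen_v hu hv hs⟩

/-! ### Formulas (3.4) -/

/-- `d_k` commutes with `u` -/
theorem dg_comm_u (hk : k ∈ K u) : dg v k * u = u * dg v k := by
  have h1 := h.cent hu hk
  have h2 := hs.2 u (h.mem u hu) (v * k * v⁻¹) (h.conj_mem_K hu v hk)
  unfold dg
  rw [mul_assoc, ← h2, ← mul_assoc, h1, mul_assoc]

/-- `d_k` commutes with `w` -/
theorem dg_comm_wt (hk : k ∈ K u) : dg v k * wt u v = wt u v * dg v k := by
  have h1 := h.wt_cen_u hu hv hs k hk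
  have h2 := h.wt_cen_u' hu hv hs (v * k * v⁻¹) (h.conj_mem_K hu v hk)
  unfold dg
  rw [mul_assoc, ← h2, ← mul_assoc, ← h1, mul_assoc]

theorem dg_comm_u' (hk : k ∈ K u) : dg v k * (v * u * v⁻¹) = (v * u * v⁻¹) * dg v k := by
  rw [h.conj_u hu hv hs, ← mul_assoc, h.dg_comm_u hu hv hs hk, mul_assoc, h.dg_comm_wt hu hv hs hk, mul_assoc]

theorem dg_comm_v' (hk : k ∈ K u) : dg v k * (u * v * u⁻¹) = (u * v * u⁻¹) * dg v k := by
  rw [h.conj_v hu hv hs, ← mul_assoc, h.dg_comm_v hu hv hs hk, mul_assoc, h.dg_comm_wt hu hv hs hk, mul_assoc]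

/-- `k v k⁻¹ = v d_k u` for `k` of order 4 -/
theorem conj_k_v (hk : k ∈ K u) (hkk : k * k = u) : k * v * k⁻¹ = v * dg v k * u := by
  have h1 := hs.2 k hk (v * k * v⁻¹) (h.conj_mem_K hu v hk)
  have h2 : k * k * (k * k) = 1 := by rw [hkk, h.sq u hu]
  have h3 := h.sq v hv
  have h4 : k⁻¹ = k * u := by
    rw [← hkk, inv_eq_iff_mul_eq_one]
    calc k * (k * (k * k)) = k * k * (k * k) := by group
      _ = 1 := h2
  unfold dg
  calc k * v * k⁻¹ = v * ((v * v)⁻¹ * v * k * v⁻¹ * (v * v)) * k⁻¹ := by group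
    _ = v * ((v * k * v⁻¹) * k⁻¹) := by rw [h3]; group
    _ = v * ((v * k * v⁻¹) * k) * u := by rw [h4]; group
    _ = v * (k * (v * k * v⁻¹)) * u := by rw [h1]

/-- `k⁻¹ v k = v d_k u'` for `k` of order 4 -/
theorem conj_k_v' (hk : k ∈ K u) (hkk : k * k = u) : k⁻¹ * v * k = v * dg v k * (v * u * v⁻¹) := by
  have h1 := h.conj_k_v hu hv hs (inv_mem hk) (by rw [← mul_inv_rev, hkk, h.inv hu])
  have h2 : dg v k⁻¹ = dg v k * wt u v := by
    have h3 : dg v k⁻¹ * dg v k = 1 := by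
      rw [← h.dg_mul hu hv hs (inv_mem hk) hk, inv_mul_cancel, WG.dg_one]
    have h4 := h.dg_sq hu hv hs hk hkk
    have h5 := h.wt_sq hu hv hs
    rw [← h4] at h5
    rw [eq_inv_of_mul_eq_one_left h3, ← h4]
    rw [inv_eq_iff_mul_eq_one]
    calc dg v k * (dg v k * (dg v k * dg v k)) = dg v k * dg v k * (dg v k * dg v k) := by group
      _ = 1 := h5
  rw [inv_inv] at h1
  rw [h1, h2, h.conj_u hu hv hs, mul_assoc, mul_assoc, mul_assoc, h.wt_comm_u hu hv hs]

end csw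

end WS

end Cfsg.Agent.Cit.Nil.RTwoM.L1
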