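import Cfsg.Agent.Cit.Nil.RTwoM.L1.ClTwo
import Cfsg.Agent.Cit.Nil.RTwoM.L1.Swap

/-!
# S1309, (6b), `r = 2`: C-swaps: `WM Om` is a world `WS` ((3.1))

* `Qp z w i j` : `⟨i, j⟩` is a quaternion group with involution `w` (or `w = 1`) in `C(z)`;
* `Qp.cen` : if `i`, `j` normalise the member `M` over `z`, then `w` centralises `M`;
* `Qp.cen3` : three pairwise commuting `Qp z w` : `w` centralises the members over `z`;
* `WM.ws` : (3.1).
-/

set_option autoImplicit false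
set_option linter.style.haveILetI false
set_option linter.unusedSectionVars false

namespace Cfsg.Agent.Cit.Nil.RTwoM

open Subgroup Cfsg Cfsg.Agent.Cit
open L1 (Zs)
open ROne (wt dg)
open RTwo (Q3 Act i11 i12 i21 i22 i_ne1 i_ne2 i_ne12 i_cases i_cases3)

variable {G : Type*} [Group G] {Om : Set (Subgroup G)} {K L M : Subgroup G} {z t u v g x y s w i j i' j' a b c : G}

namespace L1

/-- `⟨i, j⟩` is a quaternion group with involution `w` in `C(z)` -/
structure Qp (z w i j : G) : Prop where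
  ci : i * z = z * i
  cj' : j * z = z * j
  ii : i * i = w
  jj : j * j = w
  ww : w * w = 1
  ji : j * i = w * (i * j)

namespace Qp

theorem wi (q : Qp z w i j) : w * i = i * w := by rw [← q.ii, mul_assoc]

theorem wj (q : Qp z w i j) : w * j = j * w := by rw [← q.jj, mul_assoc]

theorem wz (q : Qp z w i j) : w * z = z * w := by
  rw [← q.ii, mul_assoc, q.ci, ← mul_assoc, q.ci, mul_assoc]

theorem symm (q : Qp z w i j) : Qp z w j i where
  ci := q.cj'
  cj' := q.ci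
  ii := q.jj
  jj := q.ii
  ww := q.ww
  ji := by rw [q.ji, ← mul_assoc, q.ww, one_mul]

theorem left (q : Qp z w i j) : Qp z w (i * j) j where
  ci := by rw [mul_assoc, q.cj', ← mul_assoc, q.ci, mul_assoc]
  cj' := q.cj'
  ii := by
    calc i * j * (i * j) = i * (j * i) * j := by group
      _ = i * (w * (i * j)) * j := by rw [q.ji]
      _ = (i * w) * i * (j * j) := by group
      _ = (w * i) * i * (j * j) := by rw [q.wi]
      _ = w * (i * i) * (j * j) := by group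
      _ = w * w * w := by rw [q.ii, q.jj]
      _ = w := by rw [q.ww, one_mul]
  jj := q.jj
  ww := q.ww
  ji := by
    calc j * (i * j) = (j * i) * j := by group
      _ = w * (i * j) * j := by rw [q.ji]
      _ = _ := by group

variable [Finite G]

/-- no quaternion group in `Aut Q₈` -/
theorem cen (q : Qp z w i j) (h : WM Om) (hM : Mem Om z M) (hi : cj i M = M) (hj : cj j M = M) :
    ∀ k ∈ M, w * k = k * w := by
  obtain ⟨x, hx⟩ := h.exists_q3 hM
  obtain ⟨σ, hσ⟩ := hx.exists_act hx hi q.ci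
  obtain ⟨τ, hτ⟩ := hx.exists_act hx hj q.cj'
  have hz2 := hx.z2
  have hww : Act z x x (w * w) 1 := by rw [q.ww]; exact Act.one x z
  have h1 : Act z x x w (σ * σ) := by
    have := hσ.comp hz2 hσ q.ci
    rwa [q.ii] at this
  have h2 : Act z x x w (τ * τ) := by
    have := hτ.comp hz2 hτ q.cj'
    rwa [q.jj] at this
  have h3 := (h1.comp hz2 h1 q.wz).unique hx hww
  have h4 : ∀ σ : Equiv.Perm (Fin 3), σ * σ * (σ * σ) = 1 → σ * σ = 1 := by decide
  have hσσ := h4 σ h3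
  rw [hσσ] at h1
  have hττ : τ * τ = 1 := h2.unique hx h1
  have hwi := h1.inner hx q.wz
  -- elements acting as inner automorphisms: their squares act trivially
  have key : ∀ g : G, g * z = z * g → Act z x x g 1 → g * g = w → ∀ k ∈ M, w * k = k * w := by
    intro g hg ha hgg k hk
    have h5 := ha.inner hx hg
    have h6 : g * g * k * (g * g)⁻¹ = k := by
      have e : g * g * k * (g * g)⁻¹ = g * (g * k * g⁻¹) * g⁻¹ := by group
      rw [e]
      rcases h5 k hk with h7 | h7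
      · rw [h7, h7]
      · have e2 : g * (z * k) * g⁻¹ = (g * z * g⁻¹) * (g * k * g⁻¹) := by group
        rw [h7, e2, h7, hg, mul_inv_cancel_right, hx.zzx]
    rwa [hgg, mul_inv_eq_iff_eq_mul] at h6
  rcases hx.inner_cases hwi with h5 | ⟨m, h5⟩
  · intro k hk
    have := h5 k hk
    rwa [mul_inv_eq_iff_eq_mul] at this
  -- `w` acts as `x m`; `i`, `j` fix `m`
  have hfix : ∀ g : G, g * z = z * g → g * w = w * g → ∀ σ, Act z x x g σ → cj g M = M → σ m = m := by
    intro g hg hgw σ hσ hgM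
    by_contra hne
    -- `g (x m) g⁻¹ = (z) x (σ m)` is inverted by `w`
    have h6 : w * x m * w⁻¹ = x m := by rw [h5 _ (hx.mem m), Q3.conj_self]
    have h7 : w * (g * x m * g⁻¹) * w⁻¹ = g * x m * g⁻¹ := by
      have h8 : w * g * w⁻¹ = g := by rw [← hgw, mul_inv_cancel_right]
      calc w * (g * x m * g⁻¹) * w⁻¹ = (w * g * w⁻¹) * (w * x m * w⁻¹) * (w * g * w⁻¹)⁻¹ := by group
        _ = g * x m * g⁻¹ := by rw [h8, h6]
    have h9 : w * x (σ m) * w⁻¹ = z * x (σ m) := by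
      rw [h5 _ (hx.mem _), hx.conj_ne (Ne.symm hne)]
    rcases hσ m with h10 | h10
    · rw [h10, h9] at h7
      exact hx.zx_ne _ h7
    · rw [h10] at h7
      have e : w * (z * x (σ m)) * w⁻¹ = (w * z * w⁻¹) * (w * x (σ m) * w⁻¹) := by group
      rw [e, h9, q.wz, mul_inv_cancel_right] at h7
      exact hx.zx_ne _ (mul_left_cancel h7)
  have hiw : i * w = w * i := q.wi.symm
  have hjw : j * w = w * j := q.wj.symm
  have hσm := hfix i q.ci hiw σ hσ hi
  have hτm := hfix j q.cj' hjw τ hτ hj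
  have hdec : ∀ (m : Fin 3) (σ τ : Equiv.Perm (Fin 3)), σ m = m → τ m = m → σ = 1 ∨ τ = 1 ∨ σ * τ = 1 := by decide
  rcases hdec m σ τ hσm hτm with h6 | h6 | h6
  · exact key i q.ci (h6 ▸ hσ) q.ii
  · exact key j q.cj' (h6 ▸ hτ) q.jj
  · have h7 := hτ.comp hz2 hσ q.ci
    rw [h6] at h7
    exact key (i * j) q.left.ci h7 q.left.ii

/-- an element commuting with `z` and moving `M` maps it to the other member -/
theorem swap_swap (h : WM Om) (hM : Mem Om z M) (hg : a * z = z * a) (hb : b * z = z * b) (h1 : cj a M ≠ M)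
    (h2 : cj b M ≠ M) : cj (a * b) M = M := by
  obtain ⟨L, hL, hne, hall⟩ := hM.other h
  have h3 : cj a M = L := (hall _ (hM.cj_comm h hg)).resolve_left h1
  have h4 : cj b M = L := (hall _ (hM.cj_comm h hb)).resolve_left h2
  have h5 : cj a L = M := by
    rcases hall _ (hL.cj_comm h hg) with h6 | h6
    · exact h6
    · exact absurd (cj_inj.1 (h3.trans h6.symm)) hne
  rw [cj_mul, h4, h5]

/-- some generator of order 4 normalises `M` -/
theorem exists_fix (q : Qp z w i j) (h : WM Om) (hM : Mem Om z M) :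
    ∃ p ∈ closure {i, j}, ∃ r ∈ closure {i, j}, Qp z w p r ∧ cj p M = M := by
  have hi : i ∈ closure ({i, j} : Set G) := subset_closure (by simp)
  have hj : j ∈ closure ({i, j} : Set G) := subset_closure (by simp)
  by_cases h1 : cj i M = M
  · exact ⟨i, hi, j, hj, q, h1⟩
  by_cases h2 : cj j M = M
  · exact ⟨j, hj, i, hi, q.symm, h2⟩
  · exact ⟨i * j, mul_mem hi hj, j, hj, q.left, swap_swap h hM q.ci q.cj' h1 h2⟩

/-- `w` acts as an inner automorphism on the members over `z` -/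
theorem inn (q : Qp z w i j) (h : WM Om) : Inn Om z w := by
  intro M hM
  obtain ⟨p, -, r, -, q', hp⟩ := q.exists_fix h hM
  obtain ⟨x, hx⟩ := h.exists_q3 hM
  obtain ⟨σ, hσ⟩ := hx.exists_act hx hp q'.ci
  have h1 : Act z x x w (σ * σ) := by
    have := hσ.comp hx.z2 hσ q'.ci
    rwa [q'.ii] at this
  have hww : Act z x x (w * w) 1 := by rw [q.ww]; exact Act.one x z
  have h3 := (h1.comp hx.z2 h1 q.wz).unique hx hww
  have h4 : ∀ σ : Equiv.Perm (Fin 3), σ * σ * (σ * σ) = 1 → σ * σ = 1 := by decide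
  rw [h4 σ h3] at h1
  exact h1.inner hx q.wz

/-- three pairwise commuting quaternion groups with the same involution `w` -/
theorem cen3 {i₁ j₁ i₂ j₂ i₃ j₃ : G} (q₁ : Qp z w i₁ j₁) (q₂ : Qp z w i₂ j₂) (q₃ : Qp z w i₃ j₃) (h : WM Om)
    (h12 : ∀ a ∈ ({i₁, j₁} : Set G), ∀ b ∈ ({i₂, j₂} : Set G), a * b = b * a)
    (h13 : ∀ a ∈ ({i₁, j₁} : Set G), ∀ b ∈ ({i₃, j₃} : Set G), a * b = b * a)
    (h23 : ∀ a ∈ ({i₂, j₂} : Set G), ∀ b ∈ ({i₃, j₃} : Set G), a * b = b * a)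
    (hM : Mem Om z M) : ∀ k ∈ M, w * k = k * w := by
  have comm : ∀ (A B : Set G), (∀ a ∈ A, ∀ b ∈ B, a * b = b * a) → ∀ a ∈ closure A, ∀ b ∈ closure B, a * b = b * a := by
    intro A B hAB a ha b hb
    have h1 : closure A ≤ centralizer B := (closure_le _).2 fun a ha => mem_centralizer_iff.2 fun b hb => (hAB a ha b hb).symm
    have h2 : closure B ≤ centralizer (closure A : Set G) := (closure_le _).2 fun b hb =>
      mem_centralizer_iff.2 fun a ha => (mem_centralizer_iff.1 (h1 ha) b hb).symm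
    exact mem_centralizer_iff.1 (h2 hb) a ha
  obtain ⟨p₁, hp₁, r₁, hr₁, t₁, c₁⟩ := q₁.exists_fix h hM
  obtain ⟨p₂, hp₂, r₂, hr₂, t₂, c₂⟩ := q₂.exists_fix h hM
  obtain ⟨p₃, hp₃, r₃, hr₃, t₃, c₃⟩ := q₃.exists_fix h hM
  have k12 := comm _ _ h12
  have k13 := comm _ _ h13
  have k23 := comm _ _ h23
  by_cases d₁ : cj r₁ M = M
  · exact t₁.cen h hM c₁ d₁
  by_cases d₂ : cj r₂ M = M
  · exact t₂.cen h hM c₂ d₂
  -- `p₁`, `r₁ r₂ p₃`
  have e1 := k12 r₁ hr₁ r₂ hr₂
  have e2 := k13 r₁ hr₁ p₃ hp₃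
  have e3 := k23 r₂ hr₂ p₃ hp₃
  have e4 := k12 p₁ hp₁ r₂ hr₂
  have e5 := k13 p₁ hp₁ p₃ hp₃
  have hj : Qp z w p₁ (r₁ * r₂ * p₃) := {
    ci := t₁.ci
    cj' := by
      calc r₁ * r₂ * p₃ * z = r₁ * r₂ * (p₃ * z) := by group
        _ = r₁ * (r₂ * z) * p₃ := by rw [t₃.ci]; group
        _ = (r₁ * z) * r₂ * p₃ := by rw [t₂.cj']; group
        _ = _ := by rw [t₁.cj']; group
    ii := t₁.ii
    jj := by
      calc r₁ * r₂ * p₃ * (r₁ * r₂ * p₃) = r₁ * r₂ * (p₃ * r₁) * r₂ * p₃ := by group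
        _ = r₁ * (r₂ * r₁) * (p₃ * r₂) * p₃ := by rw [← e2]; group
        _ = r₁ * (r₁ * r₂) * (r₂ * p₃) * p₃ := by rw [← e1, ← e3]
        _ = (r₁ * r₁) * (r₂ * r₂) * (p₃ * p₃) := by group
        _ = w * w * w := by rw [t₁.jj, t₂.jj, t₃.ii]
        _ = w := by rw [t₁.ww, one_mul]
    ww := t₁.ww
    ji := by
      calc r₁ * r₂ * p₃ * p₁ = r₁ * r₂ * (p₃ * p₁) := by group
        _ = r₁ * (r₂ * p₁) * p₃ := by rw [← e5]; group
        _ = (r₁ * p₁) * r₂ * p₃ := by rw [← e4]; group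
        _ = w * (p₁ * r₁) * r₂ * p₃ := by rw [t₁.ji]
        _ = _ := by group }
  refine hj.cen h hM c₁ ?_
  rw [cj_mul, c₃, swap_swap h hM t₁.cj' t₂.cj' d₁ d₂]

end Qp

section

variable [Finite G]

/-- the diagonal of a member -/
theorem Qp.of_dg (h : WM Om) (hu : u ∈ Zs Om) (hv : v ∈ Zs Om) (hs : ROne.CSw (RZ Om) u v) (hK : Mem Om u K)
    {x : Fin 3 → G} (hx : Q3 K u x) : Qp v (wt u v) (dg v (x 0)) (dg v (x 1)) := by
  have w := h.wg
  have hm : ∀ i, x i ∈ RZ Om u := fun i => hK.le_RZ (hx.mem i)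
  exact {
    ci := w.dg_comm_v hu hv hs (hm 0)
    cj' := w.dg_comm_v hu hv hs (hm 1)
    ii := w.dg_sq hu hv hs (hm 0) (hx.sq 0)
    jj := w.dg_sq hu hv hs (hm 1) (hx.sq 1)
    ww := w.wt_sq hu hv hs
    ji := by
      have h1 : x 1 * x 0 = u * (x 0 * x 1) := by
        have h2 := hx.mul' 0
        have h3 := hx.mul 0
        simp only [zero_add] at h2 h3
        rw [h2, h3]
      rw [← w.dg_mul hu hv hs (hm 1) (hm 0), h1, w.dg_mul hu hv hs (w.mem u hu) (mul_mem (hm 0) (hm 1)),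
        w.dg_mul hu hv hs (hm 0) (hm 1)]
      rfl }

/-- **(3.1)** -/
theorem wt_cen (h : WM Om) (hu : u ∈ Zs Om) (hv : v ∈ Zs Om) (hs : ROne.CSw (RZ Om) u v) :
    ROne.Cen (RZ Om) (wt u v) v := by
  have w := h.wg
  obtain ⟨K, hK⟩ := (id hu : InZ Om u)
  obtain ⟨L, hL, hne, -⟩ := hK.other h
  obtain ⟨x, hx⟩ := h.exists_q3 hK
  obtain ⟨y, hy⟩ := h.exists_q3 hL
  have q₁ := Qp.of_dg h hu hv hs hK hx
  have q₂ := Qp.of_dg h hu hv hs hL hy
  obtain ⟨e, he⟩ : ∃ e, e = wt u v := ⟨_, rfl⟩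
  rw [← he] at q₁ q₂ ⊢
  have he1 : e ≠ 1 := by rw [he]; exact w.wt_ne hu hv hs
  have hee : e * e = 1 := q₁.ww
  have hinn := q₁.inn h
  have hconj : u * v * u⁻¹ = v * e := by rw [he]; exact w.conj_v hu hv hs
  have hveZ : InZ Om (v * e) := hconj ▸ w.conjZ v hv u
  have hev : e * v = v * e := q₁.wz
  obtain ⟨M, hM⟩ := (id hv : InZ Om v)
  have hvn : v ≠ v * e := fun h1 => he1 (mul_eq_left.1 h1.symm)
  have hvi : Inn Om v (v * e) := (Inn.of_CX (z_mem_CX h)).mul hinn ⟨M, hM⟩ h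
  rw [cen_iff']
  rcases Inn.cases hvi h hv hveZ with h1 | h1 | h1
  · exact absurd h1 hvn
  · have h2 := cp_cx h hveZ h1
    have h3 : e = v⁻¹ * (v * e) := by group
    rw [h3]
    exact mul_mem (inv_mem (z_mem_CX h)) h2
  exfalso
  -- type I: `e ∈ Z`
  have hti : TI Om v e := by
    have h2 := h1.mul_right h
    rwa [← mul_assoc, InZ.z2 hv h, one_mul] at h2
  have heZ : InZ Om e := hti.inT
  have hcpu : ROne.CP (RZ Om) u (v * u * v⁻¹) := hs
  have hu' : v * u * v⁻¹ ∈ Zs Om := w.conjZ u hu v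
  have he' : e = u * (v * u * v⁻¹) := he
  have huu := w.sq u hu
  -- `e` centralises `R_u`, `R_{u'}`
  have hcu : ROne.Cen (RZ Om) e u := by
    rw [he']
    exact ROne.Cen.mul (fun k hk => (w.cent hu hk).symm) (w.cen_of_cp hu' hcpu)
  have hcu' : ROne.Cen (RZ Om) e (v * u * v⁻¹) := by
    rw [he']
    exact ROne.Cen.mul (w.cen_of_cp hu hcpu.symm) (fun k hk => (w.cent hu' hk).symm)
  have hue : u ≠ e := by
    rw [he']
    intro h2
    exact w.ne _ hu' (mul_eq_left.1 h2.symm)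
  have hue' : v * u * v⁻¹ ≠ e := by
    rw [he']
    intro h2
    exact w.ne _ hu (mul_eq_right.1 h2.symm)
  have c1 : ROne.CP (RZ Om) u e := w.csymm hu heZ hue hcu
  have c2 : ROne.CP (RZ Om) (v * u * v⁻¹) e := w.csymm hu' heZ hue' hcu'
  -- coordinates of a member `P` over `e`: `v` acts as `p 0`
  obtain ⟨P, hP⟩ := (id heZ : InZ Om e)
  obtain ⟨p0, hp0, hp00⟩ := (hti.symm h).exists_as h hP
  obtain ⟨p, hp, rfl⟩ := hP.exists_q h hp0.1 hp00
  have hmP : ∀ i, p i ∈ RZ Om e := fun i => hP.le_RZ (hp.mem i)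
  have hv0 : v * p 0 = p 0 * v := hp0.comm
  have hv1 : v * p 1 * v⁻¹ = e * p 1 := by rw [hp0.2 _ (hp.mem 1), hp.conj_ne (by decide)]
  have huP : ∀ i, u * p i = p i * u := fun i => c1.2 u (w.mem u hu) _ (hmP i)
  have heu : e * u = u * e := hcu u (w.mem u hu)
  have hueu : v * u * v⁻¹ = u * e := by rw [he', ← mul_assoc, huu, one_mul]
  have q₃ : Qp v e (p 0) (p 1 * u) := {
    ci := hv0.symm
    cj' := by
      have h2 : v * (p 1 * u) * v⁻¹ = p 1 * u := by
        calc v * (p 1 * u) * v⁻¹ = (v * p 1 * v⁻¹) * (v * u * v⁻¹) := by group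
          _ = e * p 1 * (u * e) := by rw [hv1, hueu]
          _ = (p 1 * e) * (e * u) := by rw [hp.zc, heu]
          _ = p 1 * (e * e) * u := by group
          _ = p 1 * u := by rw [hee, mul_one]
      rw [mul_inv_eq_iff_eq_mul] at h2
      exact h2.symm
    ii := hp.sq 0
    jj := by
      calc p 1 * u * (p 1 * u) = p 1 * (u * p 1) * u := by group
        _ = (p 1 * p 1) * (u * u) := by rw [huP 1]; group
        _ = e := by rw [hp.sq, huu, mul_one]
    ww := hee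
    ji := by
      have h2 : p 1 * p 0 = e * (p 0 * p 1) := by
        have h3 := hp.mul' 0
        have h4 := hp.mul 0
        simp only [zero_add] at h3 h4
        rw [h3, h4]
      calc p 1 * u * p 0 = p 1 * (u * p 0) := by group
        _ = (p 1 * p 0) * u := by rw [huP 0]; group
        _ = _ := by rw [h2]; group }
  have hdP : ∀ k ∈ RZ Om u, ∀ r ∈ RZ Om e, dg v k * r = r * dg v k := by
    intro k hk r hr
    have h2 := c1.2 k hk r hr
    have h3 := c2.2 _ (w.conj_mem_K hu v hk) r hr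
    unfold dg
    rw [mul_assoc, h3, ← mul_assoc, h2, mul_assoc]
  have hdu : ∀ k ∈ RZ Om u, dg v k * u = u * dg v k := by
    intro k hk
    have h2 := w.cent hu hk
    have h3 := hcpu.2 u (w.mem u hu) (v * k * v⁻¹) (w.conj_mem_K hu v hk)
    unfold dg
    rw [mul_assoc, ← h3, ← mul_assoc, h2, mul_assoc]
  have hd3 : ∀ k ∈ RZ Om u, ∀ b ∈ ({p 0, p 1 * u} : Set G), dg v k * b = b * dg v k := by
    intro k hk b hb
    rcases hb with rfl | rfl
    · exact hdP k hk _ (hmP 0)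
    · rw [← mul_assoc, hdP k hk _ (hmP 1), mul_assoc, hdu k hk, mul_assoc]
  have hmx : ∀ i, x i ∈ RZ Om u := fun i => hK.le_RZ (hx.mem i)
  have hmy : ∀ i, y i ∈ RZ Om u := fun i => hL.le_RZ (hy.mem i)
  have hd12 : ∀ i j, dg v (x i) * dg v (y j) = dg v (y j) * dg v (x i) := by
    intro i j
    rw [← w.dg_mul hu hv hs (hmx i) (hmy j), ← w.dg_mul hu hv hs (hmy j) (hmx i),
      hK.comm hL h hne (hx.mem i) (hy.mem j)]
  refine hti.nc hM (Qp.cen3 q₁ q₂ q₃ h ?_ ?_ ?_ hM)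
  · rintro a (rfl | rfl) b (rfl | rfl) <;> exact hd12 _ _
  · rintro a (rfl | rfl) b hb
    · exact hd3 _ (hmx 0) b hb
    · exact hd3 _ (hmx 1) b hb
  · rintro a (rfl | rfl) b hb
    · exact hd3 _ (hmy 0) b hb
    · exact hd3 _ (hmy 1) b hb

/-- **the world with (3.1)** -/
theorem _root_.Cfsg.Agent.Cit.Nil.RTwoM.WM.ws (h : WM Om) : WS (Zs Om) (RZ Om) where
  toWG := h.wg
  wt_cen' _ hu _ hv hs := wt_cen h hu hv hs

end

end L1

end Cfsg.Agent.Cit.Nil.RTwoM
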