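import Cfsg.Agent.Cit.Nil.ROne.ClTwoW
import Cfsg.Agent.Cit.Nil.RTwoM.Base

/-!
# S1309, (6b), any `r`: the world of the pairs `(z, R_z)`

`WG Z K` : `Z` an invariant set of involutions, `K z` (`z ∈ Z`; in the applications `K z = R_z` is the product of all
members over `z`) a 2-group with `z ∈ K z ≤ C(z)`, `K (g z g⁻¹) = g (K z) g⁻¹`,

* `com'` : `K z`, `K u` in a common 2-group, `z ≠ u` : C-pair;
* `csymm'` : `u ∈ Z` centralises `K z`, `u ≠ z` : C-pair.

The definitions `CP`, `Cen`, `NP`, `CSw`, `wt`, `ZC`, `NC`, `cl`, `Tw`, `CS`, `TT`, `AN` are those of `ROne`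
(with `K z = R_z`). The lemmas of `ROne/{TwinDef,Base}.lean` which do not use that `K z` is a quaternion group.

* `WM.wg` : `WG {z | InZ Om z} (RZ Om)`.
-/

set_option autoImplicit false
set_option linter.style.haveILetI false
set_option linter.unusedSectionVars false

namespace Cfsg.Agent.Cit.Nil.RTwoM.L1

open Subgroup Cfsg Cfsg.Agent.Cit
open ROne (CP Cen NP CSw wt ZC NC cl Tw CS TT AN mem_cl)

variable {G : Type*} [Group G]

/-- see the head of the file -/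
structure WG (Z : Set G) (K : G → Subgroup G) : Prop where
  sq : ∀ z ∈ Z, z * z = 1
  ne : ∀ z ∈ Z, z ≠ 1
  mem : ∀ z ∈ Z, z ∈ K z
  cent' : ∀ z ∈ Z, ∀ x ∈ K z, x * z = z * x
  two' : ∀ z ∈ Z, IsPGroup 2 (K z)
  conjZ : ∀ z ∈ Z, ∀ g, g * z * g⁻¹ ∈ Z
  conjK : ∀ z ∈ Z, ∀ g, K (g * z * g⁻¹) = cj g (K z)
  com' : ∀ S : Subgroup G, IsPGroup 2 S → ∀ z ∈ Z, ∀ u ∈ Z, K z ≤ S → K u ≤ S → z ≠ u → CP K z u
  csymm' : ∀ z ∈ Z, ∀ u ∈ Z, z ≠ u → Cen K u z → CP K z u

variable {Z : Set G} {K : G → Subgroup G} {z u v g x y s k b : G}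

namespace WG

section basic

variable (h : WG Z K)

include h

theorem inv (hz : z ∈ Z) : z⁻¹ = z := inv_eq_of_mul_eq_one_right (h.sq z hz)

theorem ord (hz : z ∈ Z) : orderOf z = 2 :=
  orderOf_eq_prime (by rw [pow_two]; exact h.sq z hz) (h.ne z hz)

theorem two (hz : z ∈ Z) : IsPGroup 2 (K z) := h.two' z hz

theorem cent (hz : z ∈ Z) (hx : x ∈ K z) : x * z = z * x := h.cent' z hz x hx

theorem K_le (hz : z ∈ Z) : K z ≤ centralizer {z} := fun _ hx =>
  mem_centralizer_singleton_iff.2 (h.cent hz hx)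

/-- `C(z)` normalises `K z` -/
theorem norm (hz : z ∈ Z) (hg : g * z = z * g) : cj g (K z) = K z := by
  rw [← h.conjK z hz g, hg, mul_inv_cancel_right]

theorem mem_norm (hz : z ∈ Z) (hg : g * z = z * g) : g ∈ normalizer (K z : Set G) :=
  mem_normalizer_iff_cj.2 (h.norm hz hg)

theorem norm_mem (hz : z ∈ Z) (hg : g * z = z * g) (hx : x ∈ K z) : g * x * g⁻¹ ∈ K z := by
  have h1 := conj_mem_cj (g := g) hx
  rwa [h.norm hz hg] at h1

theorem com {S : Subgroup G} (hz : z ∈ Z) (hu : u ∈ Z) (hS : IsPGroup 2 S) (h1 : K z ≤ S)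
    (h2 : K u ≤ S) (hne : z ≠ u) : CP K z u := h.com' S hS z hz u hu h1 h2 hne

theorem comm_of_cp (hz : z ∈ Z) (hu : u ∈ Z) (hc : CP K z u) : z * u = u * z :=
  hc.2 z (h.mem z hz) u (h.mem u hu)

theorem csymm (hz : z ∈ Z) (hu : u ∈ Z) (hne : z ≠ u) (hc : Cen K u z) : CP K z u := h.csymm' z hz u hu hne hc

theorem cen_iff (hz : z ∈ Z) (hu : u ∈ Z) : Cen K u z ↔ z = u ∨ CP K z u := by
  constructor
  · intro hc
    by_cases hne : z = u
    · exact Or.inl hne
    · exact Or.inr (h.csymm hz hu hne hc)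
  · rintro (rfl | hc)
    · exact fun k hk => (h.cent hz hk).symm
    · exact fun k hk => (hc.2 k hk u (h.mem u hu)).symm

theorem cen_of_cp (hu : u ∈ Z) (hc : CP K z u) : Cen K u z := fun k hk => (hc.2 k hk u (h.mem u hu)).symm

theorem cen_symm (hz : z ∈ Z) (hu : u ∈ Z) (hc : Cen K u z) : Cen K z u := by
  rcases (h.cen_iff hz hu).1 hc with rfl | h1
  · exact hc
  · exact h.cen_of_cp hz h1.symm

theorem cp_mul_ne (hu : u ∈ Z) (hc : CP K z u) : z * u ≠ 1 := fun h1 =>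
  hc.1 (by rw [mul_eq_one_iff_eq_inv] at h1; rw [h1, h.inv hu])

theorem mem_K_conj (hz : z ∈ Z) (g : G) : x ∈ K (g * z * g⁻¹) ↔ g⁻¹ * x * g ∈ K z := by
  rw [h.conjK z hz g, mem_cj]

theorem conj_mem_K (hz : z ∈ Z) (g : G) (hx : x ∈ K z) : g * x * g⁻¹ ∈ K (g * z * g⁻¹) := by
  rw [h.conjK z hz g]
  exact conj_mem_cj hx

theorem cen_conj (hz : z ∈ Z) (g : G) (hc : Cen K x z) : Cen K (g * x * g⁻¹) (g * z * g⁻¹) := by
  intro k hk
  rw [h.conjK z hz g, mem_cj] at hk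
  have h1 := hc _ hk
  calc g * x * g⁻¹ * k = g * (x * (g⁻¹ * k * g)) * g⁻¹ := by group
    _ = g * ((g⁻¹ * k * g) * x) * g⁻¹ := by rw [h1]
    _ = _ := by group

end basic

end WG

section conj

variable (w : WG Z K)

include w

theorem WG.conjZ_iff (g : G) : g * x * g⁻¹ ∈ Z ↔ x ∈ Z := by
  refine ⟨fun h => ?_, fun h => w.conjZ x h g⟩
  have h1 := w.conjZ _ h g⁻¹
  have h2 : g⁻¹ * (g * x * g⁻¹) * g⁻¹⁻¹ = x := by group
  rwa [h2] at h1

theorem WG.cp_conj (hu : u ∈ Z) (hv : v ∈ Z) (h : CP K u v) (g : G) : CP K (g * u * g⁻¹) (g * v * g⁻¹) := by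
  refine ⟨fun h1 => h.1 (by simpa using h1), ?_⟩
  rw [w.conjK u hu g, w.conjK v hv g]
  intro a ha b hb
  rw [mem_cj] at ha hb
  have h1 := h.2 _ ha _ hb
  have h2 : a * b = g * ((g⁻¹ * a * g) * (g⁻¹ * b * g)) * g⁻¹ := by group
  rw [h2, h1]; group

theorem WG.cp_conj_iff (hu : u ∈ Z) (hv : v ∈ Z) (g : G) : CP K (g * u * g⁻¹) (g * v * g⁻¹) ↔ CP K u v := by
  refine ⟨fun h => ?_, fun h => w.cp_conj hu hv h g⟩
  have h1 := w.cp_conj (w.conjZ u hu g) (w.conjZ v hv g) h g⁻¹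
  have h2 : g⁻¹ * (g * u * g⁻¹) * g⁻¹⁻¹ = u := by group
  have h3 : g⁻¹ * (g * v * g⁻¹) * g⁻¹⁻¹ = v := by group
  rwa [h2, h3] at h1

theorem WG.mem_cl_conj (hz : z ∈ Z) (g : G) : g * x * g⁻¹ ∈ cl Z K (g * z * g⁻¹) ↔ x ∈ cl Z K z := by
  rw [mem_cl, mem_cl, w.conjZ_iff]
  constructor
  · rintro ⟨h1, h2⟩
    refine ⟨h1, ?_⟩
    rcases h2 with h2 | h2
    · left; simpa using h2
    · right; exact (w.cp_conj_iff hz h1 g).1 h2
  · rintro ⟨h1, h2⟩
    refine ⟨h1, ?_⟩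
    rcases h2 with h2 | h2
    · left; rw [h2]
    · right; exact w.cp_conj hz h1 h2 g

theorem WG.tw_conj (hz : z ∈ Z) (h : Tw Z K z u) (g : G) : Tw Z K (g * z * g⁻¹) (g * u * g⁻¹) := by
  refine ⟨w.conjZ u h.1 g, ?_⟩
  ext x
  have h1 : x = g * (g⁻¹ * x * g) * g⁻¹ := by group
  rw [h1, w.mem_cl_conj hz, w.mem_cl_conj h.1, h.2]

theorem WG.csw_conj (hu : u ∈ Z) (h : CSw K u v) (g : G) : CSw K (g * u * g⁻¹) (g * v * g⁻¹) := by
  unfold CSw at *
  have h1 := w.cp_conj hu (w.conjZ u hu v) h g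
  have h2 : g * (v * u * v⁻¹) * g⁻¹ = g * v * g⁻¹ * (g * u * g⁻¹) * (g * v * g⁻¹)⁻¹ := by group
  rwa [h2] at h1


end conj

theorem WG.np_conj (h : WG Z K) (hz : z ∈ Z) (hu : u ∈ Z) (g : G) (hn : NP K z u) :
    NP K (g * z * g⁻¹) (g * u * g⁻¹) := by
  refine ⟨fun h1 => hn.1 (mul_left_cancel (mul_right_cancel h1)), ?_, fun h1 => hn.2.2 ((h.cp_conj_iff hz hu g).1 h1)⟩
  calc g * z * g⁻¹ * (g * u * g⁻¹) = g * (z * u) * g⁻¹ := by group
    _ = g * (u * z) * g⁻¹ := by rw [hn.2.1]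
    _ = _ := by group

namespace WG

variable (h : WG Z K)

/-! ### Cliques and `T_S` -/

section clique

theorem mem_CS {S : Subgroup G} : z ∈ CS Z K S ↔ z ∈ Z ∧ K z ≤ S := Iff.rfl

include h

/-- a clique lies in a 2-group -/
theorem isPGroup_clique [Finite G] (A : Finset G) (hA : ∀ z ∈ A, z ∈ Z)
    (hc : ∀ z ∈ A, ∀ u ∈ A, z ≠ u → CP K z u) : IsPGroup 2 (⨆ z ∈ A, K z : Subgroup G) := by
  classical
  induction A using Finset.induction_on with
  | empty =>
    have h1 : (⨆ z ∈ (∅ : Finset G), K z : Subgroup G) = ⊥ := by simp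
    rw [h1]
    exact IsPGroup.of_bot
  | insert a A ha ih =>
    rw [Finset.iSup_insert]
    have h1 := ih (fun z hz => hA z (Finset.mem_insert_of_mem hz)) fun z hz u hu =>
      hc z (Finset.mem_insert_of_mem hz) u (Finset.mem_insert_of_mem hu)
    refine IsPGroup.to_sup_of_normal_right' (h.two (hA a (Finset.mem_insert_self a A))) h1 ?_
    -- `K a` centralises the other members
    have h2 : (⨆ z ∈ A, K z : Subgroup G) ≤ centralizer (K a : Set G) := by
      refine iSup₂_le fun z hz b hb => mem_centralizer_iff.2 fun c hcK => ?_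
      exact (hc a (Finset.mem_insert_self a A) z (Finset.mem_insert_of_mem hz) (by
        rintro rfl; exact ha hz)).2 c hcK b hb
    intro c hcK
    rw [mem_normalizer_iff]
    intro x
    have h3 : ∀ x ∈ (⨆ z ∈ A, K z : Subgroup G), c * x * c⁻¹ = x := fun x hx => by
      rw [mem_centralizer_iff.1 (h2 hx) c hcK, mul_inv_cancel_right]
    constructor
    · intro hx
      rw [h3 x hx]; exact hx
    · intro hx
      have h4 : x = c⁻¹ * (c * x * c⁻¹) * c := by group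
      have h5 : c⁻¹ * (c * x * c⁻¹) * c = c * x * c⁻¹ := by
        have h6 := mem_centralizer_iff.1 (h2 hx) c⁻¹ (inv_mem hcK)
        rw [h6, inv_mul_cancel_right]
      rw [h4, h5]; exact hx

theorem cj_CS (g : G) (S : Subgroup G) (hz : z ∈ Z) : g * z * g⁻¹ ∈ CS Z K (cj g S) ↔ z ∈ CS Z K S := by
  rw [mem_CS, mem_CS, h.conjK z hz g, cj_le_cj]
  exact ⟨fun h1 => ⟨hz, h1.2⟩, fun h1 => ⟨h.conjZ z hz g, h1.2⟩⟩

theorem ncard_CS_cj [Finite G] (g : G) (S : Subgroup G) : (CS Z K (cj g S)).ncard = (CS Z K S).ncard := by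
  have h1 : CS Z K (cj g S) = (fun x => g * x * g⁻¹) '' CS Z K S := by
    ext x
    constructor
    · intro hx
      have hx' : x = g * (g⁻¹ * x * g) * g⁻¹ := by group
      have hxZ : g⁻¹ * x * g ∈ Z := by
        have := h.conjZ x hx.1 g⁻¹
        rwa [inv_inv] at this
      refine ⟨g⁻¹ * x * g, ?_, hx'.symm⟩
      rw [hx'] at hx
      exact (h.cj_CS g S hxZ).1 hx
    · rintro ⟨y, hy, rfl⟩
      exact (h.cj_CS g S hy.1).2 hy
  rw [h1]
  refine Set.ncard_image_of_injective _ fun a b hab => ?_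
  exact mul_left_cancel (mul_right_cancel hab)

/-- `C_S` is a maximal clique -/
theorem mem_CS_of_clique [Finite G] (S : Sylow 2 G) (hu : u ∈ Z) (hc : ∀ z ∈ CS Z K S, z = u ∨ CP K z u) :
    u ∈ CS Z K S := by
  classical
  haveI : Fact (Nat.Prime 2) := ⟨Nat.prime_two⟩
  by_contra hn
  have hfin : (CS Z K (S : Subgroup G)).Finite := Set.toFinite _
  set A : Finset G := insert u hfin.toFinset with hA
  have hAZ : ∀ z ∈ A, z ∈ Z := by
    intro z hz
    rw [hA, Finset.mem_insert, Set.Finite.mem_toFinset] at hz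
    rcases hz with rfl | hz
    · exact hu
    · exact hz.1
  have hcS : ∀ z ∈ CS Z K (S : Subgroup G), CP K z u := fun z hz => (hc z hz).resolve_left (by
    rintro rfl; exact hn hz)
  have hAc : ∀ z ∈ A, ∀ v ∈ A, z ≠ v → CP K z v := by
    intro z hz v hv hne
    rw [hA, Finset.mem_insert, Set.Finite.mem_toFinset] at hz hv
    rcases hz with rfl | hz <;> rcases hv with rfl | hv
    · exact absurd rfl hne
    · exact (hcS v hv).symm
    · exact hcS z hz
    · exact h.com hz.1 hv.1 S.isPGroup' hz.2 hv.2 hne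
  obtain ⟨S', hS'⟩ := (h.isPGroup_clique A hAZ hAc).exists_le_sylow
  obtain ⟨g, hg⟩ := MulAction.exists_smul_eq G S S'
  have hgS : (S' : Subgroup G) = cj g S := by
    rw [← hg]
    rfl
  have h1 : (CS Z K (S' : Subgroup G)).ncard = (CS Z K (S : Subgroup G)).ncard := by
    rw [hgS]
    exact h.ncard_CS_cj g S
  have h2 : (A : Set G) ⊆ CS Z K (S' : Subgroup G) := fun z hz =>
    ⟨hAZ z hz, (le_iSup₂ (f := fun z (_ : z ∈ A) => K z) z hz).trans hS'⟩
  have h3 := Set.ncard_le_ncard h2 (Set.toFinite _)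
  rw [Set.ncard_coe_finset, hA, Finset.card_insert_of_notMem (by rw [Set.Finite.mem_toFinset]; exact hn), h1,
    Set.ncard_eq_toFinset_card _ hfin] at h3
  omega

theorem TT_cen {S : Subgroup G} [Finite G] (hS : IsPGroup 2 S) (hz : z ∈ CS Z K S) (hx : x ∈ TT Z K S) :
    Cen K x z := by
  have h1 : TT Z K S ≤ centralizer (K z : Set G) := by
    refine (closure_le _).2 fun u hu => mem_centralizer_iff.2 fun k hk => ?_
    by_cases hne : z = u
    · subst hne
      exact h.cent hz.1 hk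
    · exact (h.com hz.1 hu.1 hS hz.2 hu.2 hne).2 k hk u (h.mem u hu.1)
  exact fun k hk => (mem_centralizer_iff.1 (h1 hx) k hk).symm

theorem TT_comm {S : Subgroup G} [Finite G] (hS : IsPGroup 2 S) (hx : x ∈ TT Z K S) (hy : y ∈ TT Z K S) :
    x * y = y * x := by
  have h1 : TT Z K S ≤ centralizer ({x} : Set G) := by
    refine (closure_le _).2 fun u hu => mem_centralizer_singleton_iff.2 ?_
    exact (h.TT_cen hS hu hx u (h.mem u hu.1)).symm
  exact (mem_centralizer_singleton_iff.1 (h1 hy)).symm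

theorem TT_sq {S : Subgroup G} [Finite G] (hS : IsPGroup 2 S) (hx : x ∈ TT Z K S) : x * x = 1 := by
  refine closure_induction (p := fun x _ => x * x = 1) ?_ ?_ ?_ ?_ hx
  · exact fun u hu => h.sq u hu.1
  · rw [one_mul]
  · intro a b ha hb h1 h2
    calc a * b * (a * b) = a * (b * a) * b := by group
      _ = (a * a) * (b * b) := by rw [h.TT_comm hS hb ha]; group
      _ = 1 := by rw [h1, h2, one_mul]
  · intro a _ h1
    rw [← mul_inv_rev, h1, inv_one]

/-- `T_S ⊓ Z = C_S` -/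
theorem mem_CS_of_mem_TT [Finite G] (S : Sylow 2 G) (hu : u ∈ Z) (hT : u ∈ TT Z K S) : u ∈ CS Z K S :=
  h.mem_CS_of_clique S hu fun _ hz => (h.cen_iff hz.1 hu).1 (h.TT_cen S.isPGroup' hz hT)

theorem TT_le {S : Subgroup G} : TT Z K S ≤ S := (closure_le _).2 fun u hu => hu.2 (h.mem u hu.1)

/-- a C-pair lies in a Sylow subgroup -/
theorem exists_sylow_of_cp [Finite G] (hz : z ∈ Z) (hu : u ∈ Z) (hc : CP K z u) :
    ∃ S : Sylow 2 G, z ∈ CS Z K S ∧ u ∈ CS Z K S := by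
  classical
  obtain ⟨S, hS⟩ := (h.isPGroup_clique {z, u} (by
    intro x hx
    rw [Finset.mem_insert, Finset.mem_singleton] at hx
    rcases hx with rfl | rfl
    · exact hz
    · exact hu) (by
    intro x hx y hy hne
    rw [Finset.mem_insert, Finset.mem_singleton] at hx hy
    rcases hx with rfl | rfl <;> rcases hy with rfl | rfl
    · exact absurd rfl hne
    · exact hc
    · exact hc.symm
    · exact absurd rfl hne)).exists_le_sylow
  exact ⟨S, ⟨hz, (le_iSup₂ (f := fun x (_ : x ∈ ({z, u} : Finset G)) => K x) z (by simp)).trans hS⟩,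
    ⟨hu, (le_iSup₂ (f := fun x (_ : x ∈ ({z, u} : Finset G)) => K x) u (by simp)).trans hS⟩⟩

/-- `z` lies in some `C_S` -/
theorem exists_sylow [Finite G] (hz : z ∈ Z) : ∃ S : Sylow 2 G, z ∈ CS Z K S := by
  obtain ⟨S, hS⟩ := (h.two hz).exists_le_sylow
  exact ⟨S, hz, hS⟩

end clique

end WG

/-- `NC s y` is a 2-group -/
theorem NC_two (ha : AN Z K s) (hy : y ∈ ZC Z K s) : IsPGroup 2 (NC s y) := ROne.NC_two ha hy

end Cfsg.Agent.Cit.Nil.RTwoM.L1
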