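import Cfsg.Agent.Cit.Nil.RI.Closed
import Cfsg.Agent.Cit.Nil.RTwoM.L1.WG

/-!
# S1309, (6b), any `r`: the strongly closed subgroup (section 9 of helper545's text)

`strongB` : `ROne.Strong.strong` (helper815) with helper764's data `DataB` (one quaternion group over each `z ∈ CS`,
chosen for the given involution `b` only).
-/

set_option autoImplicit false
set_option linter.style.haveILetI false
set_option linter.unusedSectionVars false

namespace Cfsg.Agent.Cit.Nil.RTwoM.L1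

open Subgroup Cfsg Cfsg.Agent.Cit
open ROne.Strong (exists_cj_le)
open RI (DataB)

variable {G : Type*} [Group G]

/-- **section 9** -/
theorem strongB [Finite G] (S : Sylow 2 G) {M : Subgroup G} (hSM : (S : Subgroup G) ≤ M) {CS : Set G}
    (hle : CS ⊆ (S : Subgroup G))
    (d : ∀ b ∈ (S : Subgroup G), b * b = 1 → (∀ z ∈ CS, b * z * b⁻¹ ≠ z) →
      ∃ K : G → Subgroup G, DataB (S : Subgroup G) CS K b) (hne : CS.Nonempty)
    (P1 : ∀ z ∈ CS, ∀ x, x * z * x⁻¹ ∈ M → x ∈ M)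
    (P2 : ∀ h ∈ closure CS, h ≠ 1 → ∀ c, c * h = h * c → c ∈ M)
    {A : Subgroup G} (hAS : A ≤ S) (hAM : M ≤ normalizer (A : Set G)) (hA2 : ∀ x ∈ A, x * x = 1)
    (P3 : ∀ x ∈ A, x ≠ 1 → ∀ R : Subgroup G, IsPGroup 2 R → (∀ r ∈ R, r * x = x * r) →
      ∃ c, c * x = x * c ∧ cj c R ≤ M) : IsStronglyClosed A (S : Subgroup G) := by
  haveI : Fact (Nat.Prime 2) := ⟨Nat.prime_two⟩
  refine ⟨hAS, fun x hx g hg => ?_⟩
  by_contra hb
  set b := g * x * g⁻¹ with hbdef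
  have hx1 : x ≠ 1 := by
    rintro rfl
    apply hb
    rw [hbdef, mul_one, mul_inv_cancel]
    exact A.one_mem
  have hbb : b * b = 1 := by
    have h1 : b * b = g * (x * x) * g⁻¹ := by rw [hbdef]; group
    rw [h1, hA2 x hx, mul_one, mul_inv_cancel]
  have hgb : g⁻¹ * b * g = x := by rw [hbdef]; group
  -- the 2-subgroup of `C(x)`
  let R : Subgroup G := cj g⁻¹ ((S : Subgroup G) ⊓ centralizer {b})
  have hR : ∀ r ∈ R, g * r * g⁻¹ ∈ (S : Subgroup G) ⊓ centralizer {b} := by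
    intro r hr
    rw [mem_cj, inv_inv] at hr
    exact hr
  have hR2 : IsPGroup 2 R := (S.isPGroup'.to_le inf_le_left).map _
  obtain ⟨c, hc, hcR⟩ := P3 x hx hx1 R hR2 (fun r hr => by
    have h1 := mem_centralizer_singleton_iff.1 (hR r hr).2
    rw [← hgb]
    calc r * (g⁻¹ * b * g) = g⁻¹ * ((g * r * g⁻¹) * b) * g := by group
      _ = g⁻¹ * (b * (g * r * g⁻¹)) * g := by rw [h1]
      _ = _ := by group)
  -- into `S`
  obtain ⟨m, hm, hmS⟩ := exists_cj_le S hSM (R := cj c R) (hR2.map _) hcR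
  have hkey : ∀ s ∈ (S : Subgroup G), s * b = b * s → (m * c * g⁻¹) * s * (m * c * g⁻¹)⁻¹ ∈ (S : Subgroup G) := by
    intro s hs hsb
    have h1 : g⁻¹ * s * g⁻¹⁻¹ ∈ R := conj_mem_cj ⟨hs, mem_centralizer_singleton_iff.2 hsb⟩
    have h2 := hmS (conj_mem_cj (g := m) (conj_mem_cj (g := c) h1))
    have h3 : (m * c * g⁻¹) * s * (m * c * g⁻¹)⁻¹ = m * (c * (g⁻¹ * s * g⁻¹⁻¹) * c⁻¹) * m⁻¹ := by group
    rw [h3]
    exact h2
  have hwM : m * c * g⁻¹ ∉ M := by
    intro h1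
    have h2 : b = (m * c * g⁻¹)⁻¹ * (m * x * m⁻¹) * (m * c * g⁻¹)⁻¹⁻¹ := by
      have h3 : c⁻¹ * x * c = x := by
        rw [mul_assoc, ← hc, inv_mul_cancel_left]
      calc b = g * x * g⁻¹ := hbdef
        _ = g * (c⁻¹ * x * c) * g⁻¹ := by rw [h3]
        _ = _ := by group
    apply hb
    rw [h2]
    have h3 : m * x * m⁻¹ ∈ A := (mem_normalizer_iff.1 (hAM hm) x).1 hx
    exact (mem_normalizer_iff.1 (hAM (M.inv_mem h1)) _).1 h3
  set w := m * c * g⁻¹ with hwdef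
  have hmove : ∀ z ∈ CS, b * z * b⁻¹ ≠ z := by
    intro z hz h1
    have h2 : z * b = b * z := by
      conv_lhs => rw [← h1]
      group
    exact hwM (P1 z hz w (hSM (hkey z (hle hz) h2)))
  obtain ⟨K, dK⟩ := d b hg hbb hmove
  refine dK.false_of (w := w) hne hg hbb hmove hkey ?_
  · intro h hh hhb hh1 z hz hcomm
    have h1 : w⁻¹ * z * w ∈ M := by
      refine P2 h hh hh1 _ ?_
      calc w⁻¹ * z * w * h = w⁻¹ * (z * (w * h * w⁻¹)) * w := by group
        _ = w⁻¹ * ((w * h * w⁻¹) * z) * w := by rw [hcomm]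
        _ = _ := by group
    have h2 := P1 z hz w⁻¹ (by rwa [inv_inv])
    exact hwM (by simpa using M.inv_mem h2)

end Cfsg.Agent.Cit.Nil.RTwoM.L1
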