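import Cfsg.Agent.Cit.Nil.RTwoM.Pairs
import Cfsg.Agent.Cit.Nil.RTwoM.L1.GraphC

/-!
# S1309, (6b), `r = 2`: the world `WM Om` is a world `WG {z | InZ Om z} (RZ Om)`

* `Zs Om = {z | InZ Om z}`; `cp_iff`, `cen_iff'`, `cs_eq`, `tt_eq` : the two languages;
* `WM.wg`, `WM.dat`; `an_of`, `ant_of`.
-/

set_option autoImplicit false
set_option linter.style.haveILetI false
set_option linter.unusedSectionVars false

namespace Cfsg.Agent.Cit.Nil.RTwoM.L1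

open Subgroup Cfsg Cfsg.Agent.Cit

variable {G : Type*} [Group G] {Om : Set (Subgroup G)} {K L M : Subgroup G} {z t u v g x y s : G}

/-- `Z` -/
def Zs (Om : Set (Subgroup G)) : Set G := {z | InZ Om z}

variable [Finite G]

theorem cen_iff' : ROne.Cen (RZ Om) s z ↔ s ∈ CX Om z := by
  constructor
  · intro h1
    rw [mem_CX]
    exact fun K hK k hk => h1 k (hK.le_RZ hk)
  · exact fun h1 k hk => CX_comm hk h1

theorem cp_iff (h : WM Om) (hz : InZ Om z) (ht : InZ Om t) : ROne.CP (RZ Om) z t ↔ RG.CP Om z t := by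
  constructor
  · rintro ⟨h1, h2⟩
    exact ⟨h1, fun K hK L hL a ha b hb => h2 a (Mem.le_RZ (z := z) hK ha) b (Mem.le_RZ (z := t) hL hb)⟩
  · intro h1
    exact ⟨h1.1, fun a ha b hb => cp_RZ h h1 ha hb⟩

theorem RZ_le_iff {S : Subgroup G} : RZ Om z ≤ S ↔ ∀ K, Mem Om z K → K ≤ S :=
  ⟨fun h1 _ hK => hK.le_RZ.trans h1, fun h1 => RTwoM.RZ_le h1⟩

theorem two_RZ (h : WM Om) (hz : InZ Om z) : IsPGroup 2 (RZ Om z) := by
  rw [← RR_eq]
  exact h.wr.RR_two hz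

theorem RZ_cj (h : WM Om) (z g : G) : RZ Om (g * z * g⁻¹) = cj g (RZ Om z) := by
  have key : ∀ z g : G, cj g (RZ Om z) ≤ RZ Om (g * z * g⁻¹) := by
    intro z g x hx
    rw [mem_cj] at hx
    have h1 := RZ_conj h g hx
    have h2 : g * (g⁻¹ * x * g) * g⁻¹ = x := by group
    rwa [h2] at h1
  refine le_antisymm ?_ (key z g)
  have h1 := cj_mono g (key (g * z * g⁻¹) g⁻¹)
  rw [cj_cj_inv] at h1
  have h2 : g⁻¹ * (g * z * g⁻¹) * g⁻¹⁻¹ = z := by group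
  rwa [h2] at h1

theorem _root_.Cfsg.Agent.Cit.Nil.RTwoM.WM.wg (h : WM Om) : WG (Zs Om) (RZ Om) where
  sq z hz := InZ.z2 hz h
  ne z hz := InZ.z1 hz h
  mem z hz := z_mem_RZ hz h
  cent' z _ x hx := RZ_le_centralizer h hx
  two' z hz := two_RZ h hz
  conjZ z hz g := InZ.conj hz h g
  conjK z _ g := RZ_cj h z g
  com' S hS z hz u hu h1 h2 hne := by
    obtain ⟨K, hK⟩ : InZ Om z := hz
    obtain ⟨L, hL⟩ : InZ Om u := hu
    refine (cp_iff h ⟨K, hK⟩ ⟨L, hL⟩).2 (cp_of_cen h hK ⟨L, hL⟩ hne fun k hk => ?_)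
    have hne' : K ≠ L := by
      rintro rfl
      exact hne (hK.2.symm.trans hL.2)
    exact (com h hS hK.1 hL.1 (hK.le_RZ.trans h1) (hL.le_RZ.trans h2) hne' k hk u (hL.zmem h)).symm
  csymm' z hz u hu hne hc := by
    rw [cen_iff'] at hc
    rcases (cen_iff h hz hu).1 hc with h1 | h1
    · exact absurd h1 hne
    · exact (cp_iff h hz hu).2 h1

theorem cs_eq (h : WM Om) (S : Sylow 2 G) : ROne.CS (Zs Om) (RZ Om) (S : Subgroup G) = RI.CS Om (S : Subgroup G) := by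
  ext z
  constructor
  · rintro ⟨⟨K, hK⟩, h1⟩
    exact ⟨K, hK, hK.le_RZ.trans h1⟩
  · intro hz
    exact ⟨CS.inZ hz, CS.RZ_le hz h⟩

theorem tt_eq (h : WM Om) (S : Sylow 2 G) : ROne.TT (Zs Om) (RZ Om) (S : Subgroup G) = TT Om (S : Subgroup G) := by
  unfold ROne.TT TT
  rw [cs_eq h S]

theorem _root_.Cfsg.Agent.Cit.Nil.RTwoM.WM.dat (h : WM Om) : Dat (Zs Om) (RZ Om) := by
  intro S b hb hbb hmove
  rw [cs_eq h S] at hmove ⊢
  obtain ⟨K, h1, h2⟩ := RI.exists_K h.wr hb hbb hmove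
  exact ⟨K, {
    sq := fun z hz => (CS.inZ hz).z2 h
    ne := fun z hz => (CS.inZ hz).z1 h
    mem := fun z hz => Mem.zmem (h1 z hz).1 h
    le := fun z hz => (h1 z hz).2
    q8 := fun z hz => h.wr.q8 _ (h1 z hz).1.1
    comm := fun z hz u hu hne => (CS.cp hz h S.isPGroup' hu hne).2 _ (h1 z hz).1 _ (h1 u hu).1
    conjZ := fun s hs z hz => CS.conj hz h hs
    conjK := h2 }⟩

theorem an_of (ha : ANt Om s) : ROne.AN (Zs Om) (RZ Om) s := by
  rintro y ⟨K, hK⟩ hc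
  obtain ⟨N, h1, h2, h3, h4⟩ := ha K hK.1 fun k hk => hc k (hK.le_RZ hk)
  rw [hK.2] at h4
  exact ⟨N, h1, h2, h3, h4⟩

theorem an_of_tt (h : WM Om) (ha : ANT Om) (S : Sylow 2 G) (hs : s ∈ ROne.TT (Zs Om) (RZ Om) (S : Subgroup G))
    (hs1 : s ≠ 1) : ROne.AN (Zs Om) (RZ Om) s := by
  rw [tt_eq h S] at hs
  exact an_of (ha S s hs hs1)

end Cfsg.Agent.Cit.Nil.RTwoM.L1
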