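import Cfsg.Agent.Cit.Nil.RTwoM.L1.Bridge
import Cfsg.Agent.Cit.Nil.ROne.ClTwoW

/-!
# S1309, (6b), `r = 2`: section 2 of helper545's text: the normal closures `N = ⟨y^{C(s)}⟩`

`NC s y = ⟨y^{C(s)}⟩`, for `s` with `AN(s)` and `y ∈ Z(s)` : context `c : S2 Om s y` (`w : WM Om`, `an`, `mem`).
`ROne/ClTwoW.lean` (helper400) for `K y := R_y`.

* `c.mem_or`, `c.mem_of_ne` (2.4); `c.comm_of_not_mem` (2.1);
* `c.sq_of_comm`, `c.centre`, `c.class_two`, `c.sq_comm`, `c.not_central` (2.2);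
* `c.mem_inf` : a member over `y` meets `N` in `⟨y⟩`;
* `c.inner`, `c.inner_R`, `c.cj_eq` (2.3), **`N` not commutative**;
* `c.exists_w` (2.5), (2.6); `c.csw`, `c.wt_eq`, `c.wt_spec`, `c.wt_unique`, `c.comm_of_orbit`, `c.comm_of_no_csw`;
* the same as `WM.nc_*`.
-/

set_option autoImplicit false
set_option linter.style.haveILetI false
set_option linter.unusedSectionVars false

namespace Cfsg.Agent.Cit.Nil.RTwoM

open Subgroup Cfsg Cfsg.Agent.Cit
open L1 (Zs)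
open ROne (NC NCab wt self_mem_NC conj_mem_NC cj_NC mem_NC_conj NC_norm NC_le_of_norm NC_le_NC NC_conj comm_of_gens comm_inv
  K_le_cent K_norm)

variable {G : Type*} [Group G] {Om : Set (Subgroup G)} {K L M : Subgroup G} {z t u v g x y s n m k a b : G}

namespace L1

/-- `x ∈ Z(s)` -/
abbrev ZS (Om : Set (Subgroup G)) (s : G) : Set G := ROne.ZC (Zs Om) (RZ Om) s

/-- `AN(s)` in the form of `ROne` -/
abbrev ANs (Om : Set (Subgroup G)) (s : G) : Prop := ROne.AN (Zs Om) (RZ Om) s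

/-- the context of section 2: `WM`, `AN(s)`, `y ∈ Z(s)` -/
structure S2 (Om : Set (Subgroup G)) (s y : G) : Prop where
  w : WM Om
  an : ANs Om s
  mem : y ∈ ZS Om s

/-- the orbit of `M` under `C(s)` -/
def orbM (s : G) (M : Subgroup G) : Set (Subgroup G) := {L | ∃ g ∈ centralizer {s}, cj g M = L}

namespace S2

variable [Finite G]

theorem ZS_conj (h : WM Om) (hy : y ∈ ZS Om s) (hg : g * s = s * g) : g * y * g⁻¹ ∈ ZS Om s := by
  refine ⟨h.wg.conjZ y hy.1 g, ?_⟩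
  have h1 := h.wg.cen_conj hy.1 g hy.2
  rwa [hg, mul_inv_cancel_right] at h1

theorem ZS_comm (h : WM Om) (hc : x ∈ ZS Om s) : x * s = s * x := (hc.2 x (h.wg.mem x hc.1)).symm

theorem conj (c : S2 Om s y) (hg : g * s = s * g) : S2 Om s (g * y * g⁻¹) := ⟨c.w, c.an, ZS_conj c.w c.mem hg⟩

theorem other (c : S2 Om s y) (hx : x ∈ ZS Om s) : S2 Om s x := ⟨c.w, c.an, hx⟩

theorem pN (c : S2 Om s y) : IsPGroup 2 (NC s y) := NC_two c.an c.mem

theorem mem_le_cent (hc : x ∈ ZS Om s) (hM : Mem Om x M) : M ≤ centralizer {s} := hM.le_RZ.trans (K_le_cent hc)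

theorem NC_eq (h : WM Om) (hM : Mem Om y M) (s : G) : NC s y = closure (zz '' orbM s M) := by
  rw [NC]
  congr 1
  ext x
  constructor
  · rintro ⟨g, hg, rfl⟩
    exact ⟨cj g M, ⟨g, mem_centralizer_singleton_iff.2 hg, rfl⟩, (hM.cj h g).2⟩
  · rintro ⟨_, ⟨g, hg, rfl⟩, rfl⟩
    exact ⟨g, mem_centralizer_singleton_iff.1 hg, (hM.cj h g).2⟩

theorem orb (c : S2 Om s y) (hM : Mem Om y M) :
    Cfsg.Agent.Cit.ROne.Orb Om (centralizer {s}) (NC s y) (orbM s M) := by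
  have h1 := Cfsg.Agent.Cit.ROne.Orb.of_orbit (H := centralizer {s}) c.w.hyp
    (fun L hL => c.w.isPGroup hL) (K := M) hM.1 (mem_le_cent c.mem hM) (by
      have := c.pN
      rw [NC_eq c.w hM] at this
      exact this)
  rw [NC_eq c.w hM]
  exact h1

theorem orb_self : M ∈ orbM s M := ⟨1, one_mem _, by rw [cj_one]⟩

theorem orb_mem (hg : g * s = s * g) : cj g M ∈ orbM s M := ⟨g, mem_centralizer_singleton_iff.2 hg, rfl⟩

/-- **(2.4)** : `x ∈ Z(s)` lies in `N`, or `R_x` commutes with `N` -/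
theorem mem_or (c : S2 Om s y) (hx : x ∈ ZS Om s) : x ∈ NC s y ∨ ∀ k ∈ RZ Om x, ∀ n ∈ NC s y, k * n = n * k := by
  by_cases h1 : x ∈ NC s y
  · exact Or.inl h1
  right
  have h2 : RZ Om x ≤ centralizer (NC s y : Set G) := RZ_le fun M hM k hk => by
    rw [mem_centralizer_iff]
    intro n hn
    refine (c.w.hyp.lemma_one hM.1 (c.w.isPGroup hM.1) c.pN (hM.le_RZ.trans (K_norm hx y)) ?_ k hk n hn).symm
    rwa [hM.2]
  exact fun k hk n hn => (mem_centralizer_iff.1 (h2 hk) n hn).symm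

theorem mem_of_ne (c : S2 Om s y) (hx : x ∈ ZS Om s) (hn : n ∈ NC s y) (hne : x * n ≠ n * x) : x ∈ NC s y := by
  rcases c.mem_or hx with h | h
  · exact h
  · exact absurd (h x (c.w.wg.mem x hx.1) n hn) hne

/-- **(2.1)** : a `C(s)`-invariant subgroup of `N` without `y` commutes with `R_y` -/
theorem comm_of_not_mem (c : S2 Om s y) {V : Subgroup G} (hV : centralizer {s} ≤ normalizer (V : Set G))
    (hVN : V ≤ NC s y) (hy : y ∉ V) : ∀ k ∈ RZ Om y, ∀ n ∈ V, k * n = n * k := by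
  have h2 : RZ Om y ≤ centralizer (V : Set G) := RZ_le fun M hM k hk => by
    rw [mem_centralizer_iff]
    intro n hn
    refine (c.w.hyp.lemma_one hM.1 (c.w.isPGroup hM.1) (c.pN.to_le hVN) ((mem_le_cent c.mem hM).trans hV) ?_ k hk n
      hn).symm
    rwa [hM.2]
  exact fun k hk n hn => (mem_centralizer_iff.1 (h2 hk) n hn).symm

/-- `N` is commutative: then of exponent 2 -/
theorem sq_of_comm (c : S2 Om s y) (hc : ∀ a ∈ NC s y, ∀ b ∈ NC s y, a * b = b * a) : ∀ a ∈ NC s y, a * a = 1 := by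
  obtain ⟨M, hM⟩ : InZ Om y := c.mem.1
  exact (c.orb hM).sq_of_comm hc

/-- a member over `y` meets `N` in `⟨y⟩` -/
theorem mem_inf (c : S2 Om s y) (hM : Mem Om y M) (hx : x ∈ M) (hxN : x ∈ NC s y) : x = 1 ∨ x = y := by
  have h1 := (c.orb hM).mem_inf orb_self hx hxN
  rwa [hM.2] at h1

section noncomm

variable (hnc : ¬ ∀ a ∈ NC s y, ∀ b ∈ NC s y, a * b = b * a)

include hnc

/-- the centre of `N` commutes with `R_y` -/
theorem centre (c : S2 Om s y) (hn : n ∈ NC s y) (hc : ∀ a ∈ NC s y, n * a = a * n) (hk : k ∈ RZ Om y) :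
    k * n = n * k := by
  have h2 : RZ Om y ≤ centralizer {n} := RZ_le fun M hM k hk => by
    rw [mem_centralizer_singleton_iff]
    exact (c.orb hM).centre hnc orb_self hk hn hc
  exact mem_centralizer_singleton_iff.1 (h2 hk)

theorem class_two (c : S2 Om s y) (ha : a ∈ NC s y) (hb : b ∈ NC s y) (hn : n ∈ NC s y) :
    (a * b * a⁻¹ * b⁻¹) * n = n * (a * b * a⁻¹ * b⁻¹) := by
  obtain ⟨M, hM⟩ : InZ Om y := c.mem.1
  exact (c.orb hM).class_two hnc ha hb hn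

theorem sq_comm (c : S2 Om s y) (ha : a ∈ NC s y) (hn : n ∈ NC s y) : (a * a) * n = n * (a * a) := by
  obtain ⟨M, hM⟩ : InZ Om y := c.mem.1
  exact (c.orb hM).sq_comm hnc ha hn

theorem not_central (c : S2 Om s y) : ¬ ∀ n ∈ NC s y, y * n = n * y := by
  obtain ⟨M, hM⟩ : InZ Om y := c.mem.1
  have h1 := (c.orb hM).zz_not_central hnc orb_self
  rwa [hM.2] at h1

/-- the centre of `N` commutes with `R_x`, `x` conjugate to `y` under `C(s)` -/
theorem centre' (c : S2 Om s y) (hn : n ∈ NC s y) (hc : ∀ a ∈ NC s y, n * a = a * n) (hg : g * s = s * g)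
    (hk : k ∈ RZ Om (g * y * g⁻¹)) : k * n = n * k := by
  have cg := c.conj hg
  have hN := NC_conj (y := y) hg
  refine cg.centre ?_ ?_ ?_ hk
  · rwa [hN]
  · rwa [hN]
  · rwa [hN]

/-- a conjugate of `y` which does not commute with `y` -/
theorem exists_nc (c : S2 Om s y) : ∃ g, g * s = s * g ∧ (g * y * g⁻¹) * y ≠ y * (g * y * g⁻¹) := by
  by_contra hcon
  push Not at hcon
  exact c.not_central hnc (comm_of_gens fun g hg => (hcon g hg).symm)

/-- (2.3): `n ∈ C_N(y)` normalises the members over `y` -/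
theorem cj_self (c : S2 Om s y) (hM : Mem Om y M) (hn : n ∈ NC s y) (hny : n * y = y * n) : cj n M = M := by
  by_contra hne
  obtain ⟨g, hg, hgy⟩ := c.exists_nc hnc
  have hmN : g * y * g⁻¹ ∈ NC s y := conj_mem_NC hg
  have h1 : M ≠ cj (g * y * g⁻¹) M := by
    intro h2
    have h3 := (hM.cj c.w (g * y * g⁻¹)).2
    rw [← h2, hM.2, eq_mul_inv_iff_mul_eq] at h3
    exact hgy h3.symm
  have h2 := (c.orb hM).unique hnc orb_self hn hmN (Ne.symm hne) h1
  have h3 := (hM.cj c.w n).2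
  rw [h2, (hM.cj c.w (g * y * g⁻¹)).2, hny, mul_inv_cancel_right, mul_inv_eq_iff_eq_mul] at h3
  exact hgy h3

theorem inner_self (c : S2 Om s y) (hM : Mem Om y M) (hn : n ∈ NC s y) (hny : n * y = y * n) (hk : k ∈ M) :
    n * k * n⁻¹ = k ∨ n * k * n⁻¹ = k * y := by
  have h0 : n * k * n⁻¹ ∈ M := by
    have h1 := conj_mem_cj (g := n) hk
    rwa [c.cj_self hnc hM hn hny] at h1
  have h1 : k⁻¹ * (n * k * n⁻¹) ∈ M := mul_mem (inv_mem hk) h0
  have h2 : k⁻¹ * (n * k * n⁻¹) ∈ NC s y := by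
    have h3 := (mem_normalizer_iff.1 (K_norm c.mem y (inv_mem (hM.le_RZ hk))) n).1 hn
    have h4 : k⁻¹ * (n * k * n⁻¹) = (k⁻¹ * n * k⁻¹⁻¹) * n⁻¹ := by group
    rw [h4]
    exact mul_mem h3 (inv_mem hn)
  rcases c.mem_inf hM h1 h2 with h3 | h3
  · left; rwa [inv_mul_eq_one, eq_comm] at h3
  · right; rwa [inv_mul_eq_iff_eq_mul] at h3

/-- `x ∈ Z(s)`: `R_x` commutes with `N`, or `N = ⟨x^{C(s)}⟩` -/
theorem dich (c : S2 Om s y) (hx : x ∈ ZS Om s) :
    (∀ k ∈ RZ Om x, ∀ n ∈ NC s y, k * n = n * k) ∨ NC s x = NC s y := by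
  rcases c.mem_or hx with hxN | h1
  swap
  · exact Or.inl h1
  have hle : NC s x ≤ NC s y := NC_le_NC hxN
  by_cases hy : y ∈ NC s x
  · exact Or.inr (le_antisymm hle (NC_le_NC hy))
  left
  -- `x` commutes with all `y^g`
  have h1 : ∀ g, g * s = s * g → ∀ k ∈ RZ Om (g * y * g⁻¹), k * x = x * k := by
    intro g hg k hk
    refine (c.conj hg).comm_of_not_mem (NC_norm s x) (by rwa [NC_conj hg]) (fun h2 => hy ?_) k hk x self_mem_NC
    have h3 := mem_NC_conj (comm_inv hg) h2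
    have h4 : g⁻¹ * (g * y * g⁻¹) * g⁻¹⁻¹ = y := by group
    rwa [h4] at h3
  intro k hk
  refine comm_of_gens fun g hg => ?_
  have hyg := (c.conj hg).mem.1
  have h2 : ROne.Cen (RZ Om) x (g * y * g⁻¹) := fun k hk => (h1 g hg k hk).symm
  rcases (c.w.wg.cen_iff hyg hx.1).1 h2 with h3 | h3
  · exact absurd (by
      have h4 := mem_NC_conj (comm_inv hg) (self_mem_NC (s := s) (y := x))
      have h5 : g⁻¹ * x * g⁻¹⁻¹ = y := by rw [← h3]; group
      rwa [h5] at h4) hy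
  · exact (h3.2 _ (c.w.wg.mem _ hyg) k hk).symm

/-- **(2.3)** : `n ∈ N` commuting with `x ∈ Z(s)` normalises the members over `x` -/
theorem cj_eq (c : S2 Om s y) (hx : x ∈ ZS Om s) (hM : Mem Om x M) (hn : n ∈ NC s y) (hnx : n * x = x * n) :
    cj n M = M := by
  rcases c.dich hnc hx with h1 | h1
  · have h2 : n ∈ normalizer (M : Set G) := by
      rw [mem_normalizer_iff]
      intro k
      constructor
      · intro hk
        rw [← h1 k (hM.le_RZ hk) n hn, mul_inv_cancel_right]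
        exact hk
      · intro hk
        have h3 := h1 _ (hM.le_RZ hk) n hn
        have h4 : n * k * n⁻¹ = k := by
          have h5 : n * k = n * (n * k * n⁻¹) := by rw [← h3]; group
          exact (mul_left_cancel h5).symm
        rwa [h4] at hk
    exact mem_normalizer_iff_cj.1 h2
  · refine (c.other hx).cj_self (by rwa [h1]) hM (by rwa [h1]) hnx

/-- **(2.3)** : `n ∈ N` commuting with `x ∈ Z(s)` acts on the members over `x` as an inner automorphism -/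
theorem inner (c : S2 Om s y) (hx : x ∈ ZS Om s) (hM : Mem Om x M) (hn : n ∈ NC s y) (hnx : n * x = x * n)
    (hk : k ∈ M) : n * k * n⁻¹ = k ∨ n * k * n⁻¹ = k * x := by
  rcases c.dich hnc hx with h1 | h1
  · left
    rw [← h1 k (hM.le_RZ hk) n hn, mul_inv_cancel_right]
  · exact (c.other hx).inner_self (by rwa [h1]) hM (by rwa [h1]) hnx hk

/-- (2.3): `Inn` -/
theorem inn (c : S2 Om s y) (hx : x ∈ ZS Om s) (hn : n ∈ NC s y) (hnx : n * x = x * n) : Inn Om x n := by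
  intro M hM k hk
  rcases c.inner hnc hx hM hn hnx hk with h1 | h1
  · exact Or.inl h1
  · right; rw [h1, hM.comm_z c.w hk]

/-- (2.3) on `R_x` -/
theorem inner_R (c : S2 Om s y) (hx : x ∈ ZS Om s) (hn : n ∈ NC s y) (hnx : n * x = x * n)
    (hk : k ∈ RZ Om x) : n * k * n⁻¹ = k ∨ n * k * n⁻¹ = k * x := by
  obtain ⟨M, hM⟩ : InZ Om x := hx.1
  obtain ⟨L, hL, hne, -⟩ := hM.other c.w
  obtain ⟨p, hp, q, hq, rfl⟩ := (mem_RZ hM hL c.w hne).1 hk
  have e : n * (p * q) * n⁻¹ = (n * p * n⁻¹) * (n * q * n⁻¹) := by group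
  have hxx : x * x = 1 := c.w.wg.sq x hx.1
  have hxq : x * q = q * x := (hL.comm_z c.w hq).symm
  rcases c.inner hnc hx hM hn hnx hp with h1 | h1 <;> rcases c.inner hnc hx hL hn hnx hq with h2 | h2
  · left; rw [e, h1, h2]
  · right; rw [e, h1, h2, ← mul_assoc]
  · right; rw [e, h1, h2, mul_assoc, hxq, ← mul_assoc]
  · left
    rw [e, h1, h2]
    calc p * x * (q * x) = p * (x * q) * x := by group
      _ = p * (q * x) * x := by rw [hxq]
      _ = p * q * (x * x) := by group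
      _ = p * q := by rw [hxx, mul_one]

end noncomm

/-- **(2.5), (2.6)** : `N` not commutative: `w` -/
theorem exists_w (c : S2 Om s y) (hnc : ¬ ∀ a ∈ NC s y, ∀ b ∈ NC s y, a * b = b * a) :
    ∃ w, w ≠ 1 ∧ w * w = 1 ∧ w ∈ NC s y ∧ (∀ n ∈ NC s y, w * n = n * w) ∧ (∀ k ∈ RZ Om y, k * w = w * k) ∧
      ROne.CP (RZ Om) y (y * w) ∧ y * w ∈ Zs Om ∧ (∀ n ∈ NC s y, n * y * n⁻¹ = y ∨ n * y * n⁻¹ = y * w) ∧
      ∃ g, g * s = s * g ∧ (g * y * g⁻¹) * y * (g * y * g⁻¹)⁻¹ = y * w := by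
  have hyZ := c.mem.1
  obtain ⟨M, hM⟩ : InZ Om y := c.mem.1
  have hyp := c.w.hyp
  obtain ⟨g, hg, hgy⟩ := c.exists_nc hnc
  set m := g * y * g⁻¹ with hm
  have hmN : m ∈ NC s y := conj_mem_NC hg
  have hKne : ∀ n, n * y * n⁻¹ ≠ y → M ≠ cj n M := by
    intro n h1 h2
    have h3 := (hM.cj c.w n).2
    rw [← h2, hM.2] at h3
    exact h1 h3.symm
  have hmy : m * y * m⁻¹ ≠ y := by rwa [Ne, mul_inv_eq_iff_eq_mul]
  have hzz : zz (cj m M) = m * y * m⁻¹ := (hM.cj c.w m).2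
  have hw1 : ∀ n ∈ NC s y, _ := fun n hn => (c.orb hM).w_comm hnc orb_self hmN hn
  have hw2 := (c.orb hM).w_mem orb_self hmN
  rw [hzz, hM.2] at hw1 hw2
  have hyy := c.w.wg.sq y hyZ
  have hyw : y * (y * (m * y * m⁻¹)) = m * y * m⁻¹ := by rw [← mul_assoc, hyy, one_mul]
  have hw4 : ∀ k ∈ RZ Om y, k * (y * (m * y * m⁻¹)) = (y * (m * y * m⁻¹)) * k := fun k hk =>
    c.centre hnc hw2 hw1 hk
  refine ⟨y * (m * y * m⁻¹), ?_, ?_, hw2, hw1, hw4, ?_, ?_, ?_, g, hg, ?_⟩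
  · intro h1
    apply hmy
    calc m * y * m⁻¹ = y * (y * (m * y * m⁻¹)) := hyw.symm
      _ = y := by rw [h1, mul_one]
  · have h1 := hw4 y (c.w.wg.mem y hyZ)
    rw [hyw] at h1
    have h2 : (m * y * m⁻¹) * (m * y * m⁻¹) = 1 := by
      have : (m * y * m⁻¹) * (m * y * m⁻¹) = m * (y * y) * m⁻¹ := by group
      rw [this, hyy]; group
    calc y * (m * y * m⁻¹) * (y * (m * y * m⁻¹)) = (y * (m * y * m⁻¹) * y) * (m * y * m⁻¹) := by group
      _ = (m * y * m⁻¹) * (m * y * m⁻¹) := by rw [← h1]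
      _ = 1 := h2
  · rw [hyw]
    refine c.w.wg.csymm hyZ (c.w.wg.conjZ y hyZ m) hmy.symm ?_
    intro k hk
    have h1 := hw4 k hk
    have h2 : k * y = y * k := c.w.wg.cent hyZ hk
    calc m * y * m⁻¹ * k = y * ((y * (m * y * m⁻¹)) * k) := by rw [← mul_assoc, hyw]
      _ = (y * k) * (y * (m * y * m⁻¹)) := by rw [← h1]; group
      _ = k * (y * (y * (m * y * m⁻¹))) := by rw [← h2]; group
      _ = k * (m * y * m⁻¹) := by rw [hyw]
  · rw [hyw]; exact c.w.wg.conjZ y hyZ m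
  · intro n hn
    rw [hyw]
    by_cases h1 : n * y * n⁻¹ = y
    · exact Or.inl h1
    right
    have h2 := (c.orb hM).unique hnc orb_self hn hmN (hKne n h1) (hKne m hmy)
    rw [← hzz, ← h2, (hM.cj c.w n).2]
  · rw [hyw]

/-- an element of `N` moving `y` -/
theorem ncomm_of_ne (hn : n ∈ NC s y) (hne : n * y * n⁻¹ ≠ y) :
    ¬ ∀ a ∈ NC s y, ∀ b ∈ NC s y, a * b = b * a := fun hc => hne (by
  rw [hc n hn y self_mem_NC, mul_inv_cancel_right])

/-- an element of `N` moving `y` moves it to a C-partner -/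
theorem csw (c : S2 Om s y) (hn : n ∈ NC s y) (hne : n * y * n⁻¹ ≠ y) : ROne.CSw (RZ Om) y n := by
  obtain ⟨w, -, -, -, -, -, hcp, -, hw, -⟩ := c.exists_w (ncomm_of_ne hn hne)
  rw [ROne.CSw, (hw n hn).resolve_left hne]
  exact hcp

/-- `w(y, n)` does not depend on `n ∈ N` moving `y` -/
theorem wt_eq (c : S2 Om s y) {m : G} (hn : n ∈ NC s y) (hne : n * y * n⁻¹ ≠ y) (hm : m ∈ NC s y)
    (hme : m * y * m⁻¹ ≠ y) : wt y n = wt y m := by
  obtain ⟨w, -, -, -, -, -, -, -, hw, -⟩ := c.exists_w (ncomm_of_ne hn hne)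
  rw [wt, wt, (hw n hn).resolve_left hne, (hw m hm).resolve_left hme]

/-- `w(y, n)` is central in `N`, commutes with `R_y`, is an involution -/
theorem wt_spec (c : S2 Om s y) (hn : n ∈ NC s y) (hne : n * y * n⁻¹ ≠ y) :
    wt y n ≠ 1 ∧ wt y n * wt y n = 1 ∧ wt y n ∈ NC s y ∧ (∀ m ∈ NC s y, wt y n * m = m * wt y n) ∧
      (∀ k ∈ RZ Om y, k * wt y n = wt y n * k) ∧ y * wt y n ∈ Zs Om ∧ n * y * n⁻¹ = y * wt y n := by
  obtain ⟨w, h1, h2, h3, h4, h5, -, h7, hw, -⟩ := c.exists_w (ncomm_of_ne hn hne)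
  have h8 := (hw n hn).resolve_left hne
  have h9 : wt y n = w := by rw [wt, h8, ← mul_assoc, c.w.wg.sq y c.mem.1, one_mul]
  rw [h9]
  exact ⟨h1, h2, h3, h4, h5, h7, h8⟩

/-- `N` is commutative if no conjugate of `y` under `C(s)` moves `y` -/
theorem comm_of_orbit (c : S2 Om s y)
    (hc : ∀ g, g * s = s * g → (g * y * g⁻¹) * y = y * (g * y * g⁻¹)) : ∀ a ∈ NC s y, ∀ b ∈ NC s y, a * b = b * a := by
  by_contra hnc
  exact c.not_central hnc (comm_of_gens fun g hg => (hc g hg).symm)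

/-- `N = ⟨y^{C(s)}⟩` is commutative if `y` is in no C-swap -/
theorem comm_of_no_csw (c : S2 Om s y) (hc : ∀ v ∈ Zs Om, ¬ ROne.CSw (RZ Om) y v) :
    ∀ a ∈ NC s y, ∀ b ∈ NC s y, a * b = b * a := by
  refine c.comm_of_orbit fun g hg => ?_
  by_contra h1
  refine hc (g * y * g⁻¹) (c.w.wg.conjZ y c.mem.1 g) (c.csw (conj_mem_NC hg) ?_)
  rwa [Ne, mul_inv_eq_iff_eq_mul]

/-- (3.3) -/
theorem wt_unique {u v v1 : G} (c : S2 Om s u) (hv : v ∈ ZS Om s) (hv1 : v1 ∈ ZS Om s)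
    (hne : v * u ≠ u * v) (hne1 : v1 * u ≠ u * v1) : wt u v = wt u v1 :=
  c.wt_eq (c.mem_of_ne hv self_mem_NC hne) (by rwa [Ne, mul_inv_eq_iff_eq_mul])
    (c.mem_of_ne hv1 self_mem_NC hne1) (by rwa [Ne, mul_inv_eq_iff_eq_mul])

end S2

end L1

namespace WM

open L1 (S2 ZS ANs)

variable [Finite G]

section

variable (h : WM Om) (ha : ANs Om s) (hy : y ∈ ZS Om s)

include h ha hy

/-- (2.4) -/
theorem nc_in_or (hx : x ∈ ZS Om s) : x ∈ NC s y ∨ ∀ n ∈ NC s y, ROne.Cen (RZ Om) n x := by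
  rcases (S2.mk h ha hy).mem_or hx with h1 | h1
  · exact Or.inl h1
  · exact Or.inr fun n hn k hk => (h1 k hk n hn).symm

/-- (2.3) (`N` not commutative) -/
theorem nc_inn (hc : ¬ NCab s y) (hn : n ∈ NC s y) (hny : n * y = y * n) :
    ∀ k ∈ RZ Om y, n * k * n⁻¹ = k ∨ n * k * n⁻¹ = k * y := fun _ hk => (S2.mk h ha hy).inner_R hc hy hn hny hk

/-- (2.3) for another element of `Z(s)` (`N` not commutative) -/
theorem nc_inn' (hc : ¬ NCab s y) (hx : x ∈ ZS Om s) (hn : n ∈ NC s y) (hnx : n * x = x * n) :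
    ∀ k ∈ RZ Om x, n * k * n⁻¹ = k ∨ n * k * n⁻¹ = k * x := fun _ hk => (S2.mk h ha hy).inner_R hc hx hn hnx hk

/-- (2.3), `Inn` (`N` not commutative) -/
theorem nc_Inn (hc : ¬ NCab s y) (hx : x ∈ ZS Om s) (hn : n ∈ NC s y) (hnx : n * x = x * n) : Inn Om x n :=
  (S2.mk h ha hy).inn hc hx hn hnx

/-- (2.3) on members (`N` not commutative) -/
theorem nc_mem (hc : ¬ NCab s y) (hx : x ∈ ZS Om s) (hM : Mem Om x M) (hn : n ∈ NC s y) (hnx : n * x = x * n) :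
    ∀ k ∈ M, n * k * n⁻¹ = k ∨ n * k * n⁻¹ = k * x := fun _ hk => (S2.mk h ha hy).inner hc hx hM hn hnx hk

theorem nc_inf (hM : Mem Om y M) (hx : x ∈ M) (hxN : x ∈ NC s y) : x = 1 ∨ x = y := (S2.mk h ha hy).mem_inf hM hx hxN

theorem nc_sq (hc : NCab s y) (hx : x ∈ NC s y) : x * x = 1 := (S2.mk h ha hy).sq_of_comm hc x hx

theorem nc_centre (hc : ¬ NCab s y) {c : G} (hcN : c ∈ NC s y) (hcc : ∀ n ∈ NC s y, c * n = n * c)
    (hg : g * s = s * g) : ROne.Cen (RZ Om) c (g * y * g⁻¹) := fun _ hk =>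
  ((S2.mk h ha hy).centre' hc hcN hcc hg hk).symm

theorem nc_centre' (hc : ¬ NCab s y) {c : G} (hcN : c ∈ NC s y) (hcc : ∀ n ∈ NC s y, c * n = n * c) :
    ROne.Cen (RZ Om) c y := fun _ hk => ((S2.mk h ha hy).centre hc hcN hcc hk).symm

theorem nc_comm (hc : ¬ NCab s y) (haN : a ∈ NC s y) (hbN : b ∈ NC s y) :
    ∀ n ∈ NC s y, (a * b * a⁻¹ * b⁻¹) * n = n * (a * b * a⁻¹ * b⁻¹) :=
  fun _ hn => (S2.mk h ha hy).class_two hc haN hbN hn

theorem nc_sq_comm (hc : ¬ NCab s y) (haN : a ∈ NC s y) : ∀ n ∈ NC s y, (a * a) * n = n * (a * a) :=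
  fun _ hn => (S2.mk h ha hy).sq_comm hc haN hn

/-- (2.5) -/
theorem nc_uniq {n' : G} (hn : n ∈ NC s y) (hn' : n' ∈ NC s y) (hne : n * y * n⁻¹ ≠ y)
    (hne' : n' * y * n'⁻¹ ≠ y) : n * y * n⁻¹ = n' * y * n'⁻¹ := by
  have h1 := (S2.mk h ha hy).wt_eq hn hne hn' hne'
  exact mul_left_cancel h1

/-- (2.5) -/
theorem nc_csw (hn : n ∈ NC s y) (hne : n * y * n⁻¹ ≠ y) : ROne.CP (RZ Om) y (n * y * n⁻¹) :=
  (S2.mk h ha hy).csw hn hne

/-- (2.6) -/
theorem nc_exists (hc : ¬ NCab s y) : ∃ g, g * s = s * g ∧ (g * y * g⁻¹) * y ≠ y * (g * y * g⁻¹) :=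
  (S2.mk h ha hy).exists_nc hc

end

theorem not_NCab (hn : n ∈ NC s y) (hne : n * y * n⁻¹ ≠ y) : ¬ NCab s y := S2.ncomm_of_ne hn hne

end WM

end Cfsg.Agent.Cit.Nil.RTwoM
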