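import Cfsg.Agent.Cit.Nil.RTwoM.L1.ClaimQ
import Cfsg.Agent.Cit.Nil.ROne.ClaimB

/-!
# S1309, (6b), any `r`: CLAIM S, data and case (a)

Section 4 of `blueprints/R18-6b-r1-helper545.md`, port of `ROne/ClaimA.lean` to members. `K u`, `K v` are two quaternion
groups (ANY member over `u`, ANY member over `v`; only the values `K u`, `K v` of `K` are used), `(u, v)` a C-swap,
`w = wt u v`, `d_k = dg v k` (`k ∈ K u`), `d'_l = dg u l` (`l ∈ K v`).

* `SD K u v` : the data; `SD.symm`;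
* `SD.bz_iff`, `bz_symm`, `bz_mul`, ... : the form `B`; `dgl_act`, `conj_lk`;
* `SD.claim_a` : case (a).
-/

set_option autoImplicit false
set_option linter.style.haveILetI false
set_option linter.unusedSectionVars false

namespace Cfsg.Agent.Cit.Nil.RTwoM.L1

open Subgroup Cfsg Cfsg.Agent.Cit
open ROne (Cen wt dg Bz)

variable {G : Type*} [Group G]

/-- the data of CLAIM S -/
structure SD (K : G → Subgroup G) (u v : G) : Prop where
  qu : QA K u
  qv : QA K v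
  cu : ∀ a ∈ K u, ∀ b ∈ K u, a * (v * b * v⁻¹) = (v * b * v⁻¹) * a
  cv : ∀ a ∈ K v, ∀ b ∈ K v, a * (u * b * u⁻¹) = (u * b * u⁻¹) * a
  wu : Cen K (wt u v) u
  wv : Cen K (wt u v) v
  ne : wt u v ≠ 1
  iu : ∀ l ∈ K v, l * l = v → ∀ k ∈ K u, dg u l * k * (dg u l)⁻¹ = k ∨ dg u l * k * (dg u l)⁻¹ = k * u
  iv : ∀ k ∈ K u, k * k = u → ∀ l ∈ K v, dg v k * l * (dg v k)⁻¹ = l ∨ dg v k * l * (dg v k)⁻¹ = l * v
  du : ∀ l ∈ K v, l * l = v → ∀ k ∈ K u, dg u l * k * (dg u l)⁻¹ = k → dg u l * dg v k * (dg u l)⁻¹ = dg v k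
  du' : ∀ l ∈ K v, l * l = v → ∀ k ∈ K u, dg u l * k * (dg u l)⁻¹ = k * u →
    dg u l * dg v k * (dg u l)⁻¹ = dg v k * wt u v
  dv : ∀ k ∈ K u, k * k = u → ∀ l ∈ K v, dg v k * l * (dg v k)⁻¹ = l → dg v k * dg u l * (dg v k)⁻¹ = dg u l
  dv' : ∀ k ∈ K u, k * k = u → ∀ l ∈ K v, dg v k * l * (dg v k)⁻¹ = l * v →
    dg v k * dg u l * (dg v k)⁻¹ = dg u l * wt u v

namespace SD

variable {K : G → Subgroup G} {u v x y k l b n m : G} (h : SD K u v)

section formulas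

include h

theorem csw_comm : u * (v * u * v⁻¹) = (v * u * v⁻¹) * u := h.cu u h.qu.mem u h.qu.mem

theorem conj_sq : v * (v * u * v⁻¹) * v⁻¹ = u := by
  have h1 := h.qv.sq
  calc v * (v * u * v⁻¹) * v⁻¹ = (v * v) * u * (v * v)⁻¹ := by group
    _ = u := by rw [h1]; group

theorem sq_vuv : (v * u * v⁻¹) * (v * u * v⁻¹) = 1 := by
  calc (v * u * v⁻¹) * (v * u * v⁻¹) = v * (u * u) * v⁻¹ := by group
    _ = 1 := by rw [h.qu.sq]; group

theorem wt_sq : wt u v * wt u v = 1 := by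
  have h1 := h.csw_comm
  have h2 := h.qu.sq
  have h3 := h.sq_vuv
  unfold wt
  calc u * (v * u * v⁻¹) * (u * (v * u * v⁻¹)) = u * ((v * u * v⁻¹) * u) * (v * u * v⁻¹) := by group
    _ = u * (u * (v * u * v⁻¹)) * (v * u * v⁻¹) := by rw [h1]
    _ = (u * u) * ((v * u * v⁻¹) * (v * u * v⁻¹)) := by group
    _ = 1 := by rw [h2, h3, one_mul]

theorem wt_comm_u : wt u v * u = u * wt u v := h.wu u h.qu.mem

/-- `v u v⁻¹ = u w` -/
theorem conj_u : v * u * v⁻¹ = u * wt u v := by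
  unfold wt
  rw [← mul_assoc, h.qu.sq, one_mul]

/-- `w` commutes with `v` -/
theorem wt_comm_v : wt u v * v = v * wt u v := h.wv v h.qv.mem

/-- `u v u⁻¹ = v w` -/
theorem conj_v : u * v * u⁻¹ = v * wt u v := by
  have h2 := h.qu.inv
  have h3 := h.qv.inv
  have h5 := h.wt_sq
  have h6 : wt u v = u * v * u * v := by unfold wt; rw [h3]; group
  have h7 : (wt u v)⁻¹ = wt u v := inv_eq_of_mul_eq_one_right h5
  calc u * v * u⁻¹ = v * (v * u * v * u) := by
        rw [h2]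
        have := h.qv.sq
        calc u * v * u = (v * v) * (u * v * u) := by rw [this, one_mul]
          _ = v * (v * u * v * u) := by group
    _ = v * (wt u v)⁻¹ := by
        rw [h6]
        congr 1
        rw [mul_inv_rev, mul_inv_rev, mul_inv_rev, h2, h3]; group
    _ = v * wt u v := by rw [h7]

theorem wt_symm : wt v u = wt u v := by
  have h1 := h.conj_v
  unfold wt
  rw [h1, ← mul_assoc, h.qv.sq, one_mul]
  rfl

theorem symm : SD K v u where
  qu := h.qv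
  qv := h.qu
  cu := h.cv
  cv := h.cu
  wu := by rw [h.wt_symm]; exact h.wv
  wv := by rw [h.wt_symm]; exact h.wu
  ne := by rw [h.wt_symm]; exact h.ne
  iu := h.iv
  iv := h.iu
  du := h.dv
  du' := by rw [h.wt_symm]; exact h.dv'
  dv := h.du
  dv' := by rw [h.wt_symm]; exact h.du'

/-- the diagonal elements are centralised by `v` -/
theorem dg_comm_v (hk : k ∈ K u) : dg v k * v = v * dg v k := by
  have h1 := h.cu k hk k hk
  have h2 := h.qv.sq
  have h3 : v * dg v k * v⁻¹ = dg v k := by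
    unfold dg
    calc v * (k * (v * k * v⁻¹)) * v⁻¹ = (v * k * v⁻¹) * ((v * v) * k * (v * v)⁻¹) := by group
      _ = (v * k * v⁻¹) * k := by rw [h2]; group
      _ = k * (v * k * v⁻¹) := h1.symm
  rw [mul_inv_eq_iff_eq_mul] at h3
  exact h3.symm

theorem dg_mul (hk : k ∈ K u) (hl : l ∈ K u) : dg v (k * l) = dg v k * dg v l := by
  have h1 := h.cu l hl k hk
  unfold dg
  calc k * l * (v * (k * l) * v⁻¹) = k * (l * (v * k * v⁻¹)) * (v * l * v⁻¹) := by group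
    _ = k * ((v * k * v⁻¹) * l) * (v * l * v⁻¹) := by rw [h1]
    _ = _ := by group

theorem dg_sq (hk : k ∈ K u) (hkk : k * k = u) : dg v k * dg v k = wt u v := by
  rw [← h.dg_mul hk hk, hkk]
  rfl

theorem csw_not_comm : u * v ≠ v * u := by
  intro h1
  apply h.ne
  unfold wt
  rw [← h1, mul_inv_cancel_right, h.qu.sq]

/-- `d_k` commutes with `u` -/
theorem dg_comm_u (hk : k ∈ K u) : dg v k * u = u * dg v k := by
  have h1 := h.qu.cent hk
  have h2 := h.cu u h.qu.mem k hk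
  unfold dg
  rw [mul_assoc, ← h2, ← mul_assoc, h1, mul_assoc]

/-- `k v k⁻¹ = v d_k u` for `k` of order 4 -/
theorem conj_k_v (hk : k ∈ K u) (hkk : k * k = u) : k * v * k⁻¹ = v * dg v k * u := by
  have h1 := h.cu k hk k hk
  have h3 := h.qv.sq
  have h4 : k⁻¹ = k * u := h.qu.inv_eq_mul hkk
  unfold dg
  calc k * v * k⁻¹ = v * ((v * v)⁻¹ * v * k * v⁻¹ * (v * v)) * k⁻¹ := by group
    _ = v * ((v * k * v⁻¹) * k⁻¹) := by rw [h3]; group
    _ = v * ((v * k * v⁻¹) * k) * u := by rw [h4]; group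
    _ = v * (k * (v * k * v⁻¹)) * u := by rw [h1]

/-- `w` centralises `v K_u v⁻¹` -/
theorem wt_comm_vkv (hk : k ∈ K u) : wt u v * (v * k * v⁻¹) = (v * k * v⁻¹) * wt u v := by
  have h1 := h.wt_comm_v
  have h2 := h.wu k hk
  have h3 : v⁻¹ * wt u v = wt u v * v⁻¹ := by
    rw [inv_mul_eq_iff_eq_mul, ← mul_assoc, ← h1, mul_inv_cancel_right]
  calc wt u v * (v * k * v⁻¹) = (wt u v * v) * k * v⁻¹ := by group
    _ = v * (wt u v * k) * v⁻¹ := by rw [h1]; group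
    _ = v * k * (wt u v * v⁻¹) := by rw [h2]; group
    _ = _ := by rw [← h3]; group

theorem dg_comm_wt (hk : k ∈ K u) : dg v k * wt u v = wt u v * dg v k := by
  have h1 := h.wu k hk
  have h2 := h.wt_comm_vkv hk
  unfold dg
  rw [mul_assoc, ← h2, ← mul_assoc, ← h1, mul_assoc]

/-! ### The form `B` -/

theorem dgl_comm_u (hl : l ∈ K v) : dg u l * u = u * dg u l := h.symm.dg_comm_v hl

theorem dgl_comm_v (hl : l ∈ K v) : dg u l * v = v * dg u l := h.symm.dg_comm_u hl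

theorem dgl_sq (hl : l ∈ K v) (hll : l * l = v) : dg u l * dg u l = wt u v := by
  rw [h.symm.dg_sq hl hll, h.wt_symm]

theorem dgl_mul {l' : G} (hl : l ∈ K v) (hl' : l' ∈ K v) : dg u (l * l') = dg u l * dg u l' :=
  h.symm.dg_mul hl hl'

theorem nbz (hl : l ∈ K v) (hll : l * l = v) (hk : k ∈ K u) (hb : ¬ Bz u k l) :
    dg u l * k * (dg u l)⁻¹ = k * u := by
  refine (h.iu l hl hll k hk).resolve_left fun h1 => hb ?_
  rwa [mul_inv_eq_iff_eq_mul] at h1

/-- `B(k, l) = 0` : `d_k` and `d'_l` commute -/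
theorem bz_dg (hl : l ∈ K v) (hll : l * l = v) (hk : k ∈ K u) (hb : Bz u k l) :
    dg u l * dg v k = dg v k * dg u l := by
  have h1 := h.du l hl hll k hk (by rw [mul_inv_eq_iff_eq_mul]; exact hb)
  rwa [mul_inv_eq_iff_eq_mul] at h1

/-- `B(k, l) = 1` : `d_k ^ d'_l = d_k w` -/
theorem nbz_dg (hl : l ∈ K v) (hll : l * l = v) (hk : k ∈ K u) (hb : ¬ Bz u k l) :
    dg u l * dg v k * (dg u l)⁻¹ = dg v k * wt u v :=
  h.du' l hl hll k hk (h.nbz hl hll hk hb)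

/-- `B(k, l) = 0` iff `d_k` and `d'_l` commute -/
theorem bz_iff (hl : l ∈ K v) (hll : l * l = v) (hk : k ∈ K u) : Bz u k l ↔ dg u l * dg v k = dg v k * dg u l := by
  refine ⟨h.bz_dg hl hll hk, fun h1 => ?_⟩
  by_contra hb
  have h2 := h.nbz_dg hl hll hk hb
  rw [h1, mul_inv_cancel_right] at h2
  exact h.ne (mul_eq_left.1 h2.symm)

/-- **symmetry** : `B(k, l) = 0` iff `d_k` commutes with `l` -/
theorem bz_symm (hl : l ∈ K v) (hll : l * l = v) (hk : k ∈ K u) (hkk : k * k = u) : Bz u k l ↔ Bz v l k := by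
  rw [h.bz_iff hl hll hk, h.symm.bz_iff hk hkk hl]
  exact eq_comm

/-- `B(k, l) = B(k', l) = 1` gives `B(k k', l) = 0` -/
theorem nbz_mul {k' : G} (hl : l ∈ K v) (hll : l * l = v) (hk : k ∈ K u) (hk' : k' ∈ K u) (h1 : ¬ Bz u k l)
    (h2 : ¬ Bz u k' l) : Bz u (k * k') l := by
  have h3 := h.nbz hl hll hk h1
  have h4 := h.nbz hl hll hk' h2
  unfold Bz
  rw [← mul_inv_eq_iff_eq_mul]
  calc dg u l * (k * k') * (dg u l)⁻¹ = (dg u l * k * (dg u l)⁻¹) * (dg u l * k' * (dg u l)⁻¹) := by group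
    _ = k * (u * k') * u := by rw [h3, h4]; group
    _ = k * (k' * u) * u := by rw [h.qu.cent hk']
    _ = k * k' * (u * u) := by group
    _ = k * k' := by rw [h.qu.sq, mul_one]

/-- `d_k` acts on `K u` as `k` -/
theorem dg_act (hk : k ∈ K u) (hx : x ∈ K u) : dg v k * x * (dg v k)⁻¹ = k * x * k⁻¹ := by
  have h1 := h.cu x hx k hk
  unfold dg
  calc k * (v * k * v⁻¹) * x * (k * (v * k * v⁻¹))⁻¹ = k * ((v * k * v⁻¹) * x) * (v * k * v⁻¹)⁻¹ * k⁻¹ := by group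
    _ = k * x * k⁻¹ := by rw [← h1]; group

/-- if `B(k, l) = 0` and `B(., l) ≠ 0` then `d'_l` acts on `K u` as `k` -/
theorem dgl_act (hl : l ∈ K v) (hll : l * l = v) (hk : k ∈ K u) (hkk : k * k = u) (hb : Bz u k l)
    {k' : G} (hk' : k' ∈ K u) (hkk' : k' * k' = u) (hb' : ¬ Bz u k' l) (hx : x ∈ K u) :
    dg u l * x * (dg u l)⁻¹ = k * x * k⁻¹ := by
  have hkinv : Bz u k⁻¹ l := by
    unfold Bz at *
    rw [mul_inv_eq_iff_eq_mul, mul_assoc, hb, inv_mul_cancel_left]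
  have hu' : Bz u u l := h.dgl_comm_u hl
  -- `x` on the axis of `k`
  have case1 : ∀ x, x = k ∨ x = k⁻¹ → dg u l * x * (dg u l)⁻¹ = k * x * k⁻¹ := by
    rintro x (rfl | rfl)
    · rw [show dg u l * x = x * dg u l from hb, mul_inv_cancel_right, mul_inv_cancel_right]
    · rw [show dg u l * k⁻¹ = k⁻¹ * dg u l from hkinv, mul_inv_cancel_right, mul_inv_cancel, one_mul]
  by_cases h1 : x = 1
  · rw [h1]; group
  by_cases h2 : x = u
  · rw [h2, show dg u l * u = u * dg u l from hu', mul_inv_cancel_right, h.qu.cent hk, mul_inv_cancel_right]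
  have hxx := h.qu.sq_eq hx h1 h2
  by_cases h3 : x = k
  · exact case1 x (Or.inl h3)
  by_cases h4 : x = k⁻¹
  · exact case1 x (Or.inr h4)
  -- `x` not on the axis of `k`: `k x k⁻¹ = x⁻¹ = x u`
  rw [h.qu.inv_of_ne hk hkk hx hxx h3 h4, h.qu.inv_eq_mul hxx]
  refine h.nbz hl hll hx fun h5 => hb' ?_
  -- `B(x, l) = 0 = B(k, l)`, so `B(k', l) = 0`
  have hxinv : Bz u x⁻¹ l := by
    unfold Bz at *
    rw [mul_inv_eq_iff_eq_mul, mul_assoc, h5, inv_mul_cancel_left]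
  by_cases h6 : k' = k
  · rw [h6]; exact hb
  by_cases h7 : k' = k⁻¹
  · rw [h7]; exact hkinv
  by_cases h8 : k' = x
  · rw [h8]; exact h5
  by_cases h9 : k' = x⁻¹
  · rw [h9]; exact hxinv
  rcases h.qu.third hk hkk hx hxx hk' hkk' h3 h4 h8 h9 h6 h7 with h10 | h10
  · rw [h10]; exact ROne.W.bz_mul hb h5
  · rw [h10, mul_inv_rev]; exact ROne.W.bz_mul hxinv hkinv

/-- `(l k) v (l k)⁻¹ = u w d_k d'_l` if `B(k, l) = 0` -/
theorem conj_lk (hl : l ∈ K v) (hll : l * l = v) (hk : k ∈ K u) (hkk : k * k = u) (hb : Bz u k l) :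
    (l * k) * v * (l * k)⁻¹ = u * wt u v * (dg v k * dg u l) := by
  have h1 := h.conj_k_v hk hkk
  have h2 := h.symm.conj_k_v hl hll
  have h3 : dg v k * l = l * dg v k := (h.bz_symm hl hll hk hkk).1 hb
  have h4 := h.qv.cent hl
  have h5 := h.conj_u
  have h6 := h.dg_comm_u hk
  have h7 := h.dgl_comm_v hl
  have h8 := h.dg_comm_v hk
  have h9 := h.dgl_comm_u hl
  have hvv := h.qv.inv
  calc (l * k) * v * (l * k)⁻¹ = l * (k * v * k⁻¹) * l⁻¹ := by group
    _ = (l * v) * dg v k * u * l⁻¹ := by rw [h1]; group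
    _ = v * (l * dg v k) * u * l⁻¹ := by rw [h4]; group
    _ = v * dg v k * (l * u * l⁻¹) := by rw [← h3]; group
    _ = v * (dg v k * u) * (dg u l * v) := by rw [h2]; group
    _ = v * u * (dg v k * v) * dg u l := by rw [h6, h7]; group
    _ = (v * u * v⁻¹) * (dg v k * dg u l) := by rw [h8, hvv]; group
    _ = u * wt u v * (dg v k * dg u l) := by rw [h5]

/-- **CLAIM S, case (a)** -/
theorem claim_a
    (hI : ∀ x ∈ K u ⊔ K v, ∀ k ∈ K u, k * k = u →
      (∀ y ∈ K u, (x * v * x⁻¹) * y * (x * v * x⁻¹)⁻¹ = k * y * k⁻¹) →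
      ∃ c, x⁻¹ * c * x ∈ K v ∧ c * c = x * v * x⁻¹ ∧ c * u = u * c ∧ ∀ y, c * y * c⁻¹ ∈ K u ↔ y ∈ K u)
    (hl : l ∈ K v) (hll : l * l = v) (hall : ∀ k ∈ K u, k * k = u → Bz u k l)
    (f : ↥(K u ⊔ K v) →* ℤˣ) {x : G} (hx : x ∈ K u) : f ⟨x, mem_sup_left hx⟩ = 1 := by
  refine h.qu.f_one_of_all le_sup_left f (fun k hk hkk => ?_) hx
  have hb := hall k hk hkk
  have hqe := h.conj_lk hl hll hk hkk hb
  have hlk : l * k ∈ K u ⊔ K v := mul_mem (mem_sup_right hl) (mem_sup_left hk)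
  -- `q` acts on `K u` as `k`
  have hact : ∀ x ∈ K u, (l * k * v * (l * k)⁻¹) * x * (l * k * v * (l * k)⁻¹)⁻¹ = k * x * k⁻¹ := by
    intro x hx
    have h1 : dg u l * x * (dg u l)⁻¹ = x := by
      have h2 : dg u l * x = x * dg u l := by
        by_cases h3 : x = 1
        · rw [h3, one_mul, mul_one]
        by_cases h4 : x = u
        · rw [h4]; exact h.dgl_comm_u hl
        exact hall x hx (h.qu.sq_eq hx h3 h4)
      rw [h2, mul_inv_cancel_right]
    have h2 := h.dg_act hk hx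
    have h3 := h.wu (k * x * k⁻¹) (mul_mem (mul_mem hk hx) (inv_mem hk))
    have h4 := h.qu.cent (mul_mem (mul_mem hk hx) (inv_mem hk))
    rw [hqe]
    calc u * wt u v * (dg v k * dg u l) * x * (u * wt u v * (dg v k * dg u l))⁻¹
        = u * (wt u v * (dg v k * (dg u l * x * (dg u l)⁻¹) * (dg v k)⁻¹) * (wt u v)⁻¹) * u⁻¹ := by group
      _ = u * (wt u v * (k * x * k⁻¹) * (wt u v)⁻¹) * u⁻¹ := by rw [h1, h2]
      _ = u * (k * x * k⁻¹) * u⁻¹ := by rw [h3, mul_inv_cancel_right]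
      _ = k * x * k⁻¹ := by rw [← h4, mul_inv_cancel_right]
  obtain ⟨c, hc, hcc, hcu, hcn⟩ := hI (l * k) hlk k hk hkk hact
  obtain ⟨h1, h2⟩ := h.qu.ti_act hcn hk hkk (by rw [hcc]; exact hact)
  refine h.qu.f_one_of_move le_sup_left f hk hkk (c := c) ?_ (fun y hy => (hcn y).2 hy) hcu h1 h2
  have h3 : c = (l * k) * ((l * k)⁻¹ * c * (l * k)) * (l * k)⁻¹ := by group
  rw [h3]
  exact mul_mem (mul_mem hlk (mem_sup_right hc)) (inv_mem hlk)

end formulas

end SD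

end Cfsg.Agent.Cit.Nil.RTwoM.L1
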