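import Cfsg.Agent.Cit.Nil.RTwoM.L1.ClaimA

/-!
# S1309, (6b), any `r`: CLAIM S, case (b) (nondegenerate `B`)

Section 4 (b) of `blueprints/R18-6b-r1-helper545.md`, port of `ROne/ClaimB.lean` to members (`SD K u v`). If no `d'_l`,
`l ∈ K v` of order 4, centralises `K u`, then (`SD.exists_rot`) some `d ∈ X = K u ⊔ K v` commutes with `u` and `d²` fixes
no cyclic subgroup of order 4 of `K u`.

* `SD.claim` : CLAIM S.
-/

set_option autoImplicit false
set_option linter.style.haveILetI false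
set_option linter.unusedSectionVars false

namespace Cfsg.Agent.Cit.Nil.RTwoM.L1

open Subgroup Cfsg Cfsg.Agent.Cit
open ROne (Cen wt dg Bz AI EE RE Act pa pb pa' pb' pd pt_inj)

variable {G : Type*} [Group G]

theorem pd_ne' : ∀ σ : Equiv.Perm (Fin 5), (σ = pa ∨ σ = pa⁻¹ ∨ σ = pb ∨ σ = pb⁻¹ ∨ σ = pa * pb ∨ σ = (pa * pb)⁻¹) →
    (pd * pd * (pd * pd)) * σ * (pd * pd * (pd * pd))⁻¹ ≠ σ ∧
      (pd * pd * (pd * pd)) * σ * (pd * pd * (pd * pd))⁻¹ ≠ σ⁻¹ := by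
  rintro σ (rfl | rfl | rfl | rfl | rfl | rfl) <;> refine ⟨?_, ?_⟩ <;> decide +kernel

namespace SD

variable {K : G → Subgroup G} {u v x y k l a b a' b' : G} (h : SD K u v)

include h

theorem ee_wt : EE K u v (wt u v) := by
  refine ⟨?_, h.wt_sq, h.wu, h.wv⟩
  have hu' : u ∈ K u ⊔ K v := mem_sup_left (h.qu.mem)
  have hv' : v ∈ K u ⊔ K v := mem_sup_right (h.qv.mem)
  exact mul_mem hu' (mul_mem (mul_mem hv' hu') (inv_mem hv'))

theorem re_uvu : RE K u v (u * v * u⁻¹) v := ⟨_, h.ee_wt, h.conj_v⟩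

theorem re_vuv : RE K u v (v * u * v⁻¹) u := ⟨_, h.ee_wt, h.conj_u⟩

/-- `η = d_k d'_l` for matched `k`, `l` -/
theorem ee_eta (hk : k ∈ K u) (hkk : k * k = u) (hl : l ∈ K v) (hll : l * l = v) (h1 : AI K (dg u l) u k)
    (h2 : AI K (dg v k) v l) : EE K u v (dg v k * dg u l) := by
  have hu' : u ∈ K u ⊔ K v := mem_sup_left (h.qu.mem)
  have hv' : v ∈ K u ⊔ K v := mem_sup_right (h.qv.mem)
  have hk' : k ∈ K u ⊔ K v := mem_sup_left hk
  have hl' : l ∈ K u ⊔ K v := mem_sup_right hl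
  have hb : Bz u k l := by
    have h3 := h1 k hk
    rwa [mul_inv_cancel_right, mul_inv_eq_iff_eq_mul] at h3
  have hc := (h.bz_iff hl hll hk).1 hb
  refine ⟨?_, ?_, ?_, ?_⟩
  · exact mul_mem (mul_mem hk' (mul_mem (mul_mem hv' hk') (inv_mem hv')))
      (mul_mem hl' (mul_mem (mul_mem hu' hl') (inv_mem hu')))
  · calc dg v k * dg u l * (dg v k * dg u l) = dg v k * (dg u l * dg v k) * dg u l := by group
      _ = (dg v k * dg v k) * (dg u l * dg u l) := by rw [hc]; group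
      _ = 1 := by rw [h.dg_sq hk hkk, h.dgl_sq hl hll, h.wt_sq]
  · have h3 : AI K (dg v k * dg u l) u (k * k) := AI.mul (fun x hx => h.dg_act hk hx) h1 hk
    intro m hm
    have h4 := h3 m hm
    rwa [hkk, ← h.qu.cent hm, mul_inv_cancel_right, mul_inv_eq_iff_eq_mul] at h4
  · have h3 : AI K (dg v k * dg u l) v (l * l) :=
      AI.mul h2 (fun x hx => h.symm.dg_act hl hx) hl
    intro m hm
    have h4 := h3 m hm
    rwa [hll, ← h.qv.cent hm, mul_inv_cancel_right, mul_inv_eq_iff_eq_mul] at h4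

/-- `l u l⁻¹` and `k v k⁻¹` are equal modulo `E` for matched `k`, `l` -/
theorem re_match (hk : k ∈ K u) (hkk : k * k = u) (hl : l ∈ K v) (hll : l * l = v) (h1 : AI K (dg u l) u k)
    (h2 : AI K (dg v k) v l) : RE K u v (l * u * l⁻¹) (k * v * k⁻¹) := by
  refine ⟨_, h.ee_eta hk hkk hl hll h1 h2, ?_⟩
  have e1 := h.conj_k_v hk hkk
  have e2 := h.symm.conj_k_v hl hll
  have c1 := h.dg_comm_u hk
  have c2 := h.dg_comm_v hk
  have c3 := h.dgl_comm_v hl
  have c4 := h.dg_sq hk hkk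
  have c5 := h.wt_comm_u
  have c6 := h.conj_u
  have c7 := h.wt_comm_v
  have hww := h.wt_sq
  have hvi := h.qv.inv
  rw [e1, e2]
  -- `v u = u w v`
  have c8 : v * u = u * wt u v * v := by rw [← c6, inv_mul_cancel_right]
  calc u * dg u l * v = u * v * dg u l := by rw [mul_assoc, c3, mul_assoc]
    _ = u * (wt u v * wt u v) * v * dg u l := by rw [hww, mul_one]
    _ = u * wt u v * (wt u v * v) * dg u l := by group
    _ = u * wt u v * (v * wt u v) * dg u l := by rw [c7]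
    _ = (u * wt u v * v) * (dg v k * dg v k) * dg u l := by rw [c4]; group
    _ = v * (u * dg v k) * dg v k * dg u l := by rw [← c8]; group
    _ = v * dg v k * u * (dg v k * dg u l) := by rw [← c1]; group

/-- matched elements -/
theorem exists_ai (hnd : ∀ l ∈ K v, l * l = v → ∃ k ∈ K u, k * k = u ∧ ¬ Bz u k l) (hl : l ∈ K v)
    (hll : l * l = v) : ∃ k ∈ K u, k * k = u ∧ AI K (dg u l) u k := by
  obtain ⟨k, hk, hkk, hb⟩ := hnd l hl hll
  obtain ⟨c, hc, hcc, h1, h2, -, -⟩ := h.qu.exists_inv hk hkk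
  by_cases hbc : Bz u c l
  · exact ⟨c, hc, hcc, fun x hx => h.dgl_act hl hll hc hcc hbc hk hkk hb hx⟩
  · exact ⟨k * c, mul_mem hk hc, h.qu.mul_sq hk hkk hc hcc h1 h2, fun x hx =>
      h.dgl_act hl hll (mul_mem hk hc) (h.qu.mul_sq hk hkk hc hcc h1 h2) (h.nbz_mul hl hll hk hc hb hbc) hk hkk hb hx⟩

/-- `d_a` acts on `K v` as `a'` -/
theorem ai_symm (hal : a ∈ K u) (haa : a * a = u) (hbl : b ∈ K u) (hbb : b * b = u) (hab : b ≠ a) (hab' : b ≠ a⁻¹)
    (hal' : a' ∈ K v) (haa' : a' * a' = v) (hbl' : b' ∈ K v) (hbb' : b' * b' = v)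
    (h1 : AI K (dg u a') u a) (h2 : AI K (dg u b') u b) : AI K (dg v a) v a' := by
  have hb1 : Bz u a a' := by
    have h3 := h1 a hal
    rwa [mul_inv_cancel_right, mul_inv_eq_iff_eq_mul] at h3
  have hb2 : ¬ Bz u a b' := by
    intro h3
    have h4 := h2 a hal
    rw [show dg u b' * a = a * dg u b' from h3, mul_inv_cancel_right] at h4
    have h5 := h.qu.inv_of_ne hbl hbb hal haa hab.symm (fun h6 => hab' (by rw [h6, inv_inv]))
    rw [← h4, eq_inv_iff_mul_eq_one, haa] at h5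
    exact h.qu.ne h5
  have hb3 : Bz v a' a := (h.bz_symm hal' haa' hal haa).1 hb1
  have hb4 : ¬ Bz v b' a := fun h3 => hb2 ((h.bz_symm hbl' hbb' hal haa).2 h3)
  exact fun x hx => h.symm.dgl_act hal haa hal' haa' hb3 hbl' hbb' hb4 hx

/-- **CLAIM S, case (b)** -/
theorem exists_rot (hnd : ∀ l ∈ K v, l * l = v → ∃ k ∈ K u, k * k = u ∧ ¬ Bz u k l) :
    ∃ d ∈ K u ⊔ K v, d * u = u * d ∧ ∀ y ∈ K u, y * y = u →
      (d * d) * y * (d * d)⁻¹ ≠ y ∧ (d * d) * y * (d * d)⁻¹ ≠ y⁻¹ := by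
  -- matched generators
  obtain ⟨a', hal', haa'⟩ : ∃ a' ∈ K v, a' * a' = v := by
    obtain ⟨i, hi, -, -, hii, -⟩ := h.qv.exists_ij
    exact ⟨i, hi, hii⟩
  obtain ⟨b', hbl', hbb', hne1, hne2, -, -⟩ := h.qv.exists_inv hal' haa'
  obtain ⟨a, hal, haa, haA⟩ := h.exists_ai hnd hal' haa'
  obtain ⟨b, hbl, hbb, hbA⟩ := h.exists_ai hnd hbl' hbb'
  obtain ⟨r1', r2', r3'⟩ := h.qv.four_rel hal' haa' hbl' hbb' hne1 hne2
  have hcl' : a' * b' ∈ K v := mul_mem hal' hbl'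
  have hcA : AI K (dg u (a' * b')) u (a * b) := by
    rw [h.dgl_mul hal' hbl']
    exact AI.mul haA hbA hbl
  have hne3 : a * b ≠ 1 ∧ a * b ≠ u := by
    obtain ⟨m, hm, hmm, hmb⟩ := hnd _ hcl' r2'
    constructor
    · intro h1
      apply hmb
      have h2 := hcA m hm
      rw [h1, one_mul, inv_one, mul_one, mul_inv_eq_iff_eq_mul] at h2
      exact h2
    · intro h1
      apply hmb
      have h2 := hcA m hm
      rw [h1, ← h.qu.cent hm, mul_inv_cancel_right, mul_inv_eq_iff_eq_mul] at h2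
      exact h2
  have hab : b ≠ a := fun h1 => hne3.2 (by rw [h1, haa])
  have hab' : b ≠ a⁻¹ := fun h1 => hne3.1 (by rw [h1, mul_inv_cancel])
  obtain ⟨r1, r2, r3⟩ := h.qu.four_rel hal haa hbl hbb hab hab'
  have hcl : a * b ∈ K u := mul_mem hal hbl
  have haA' := h.ai_symm hal haa hbl hbb hab hab' hal' haa' hbl' hbb' haA hbA
  have hbA' := h.ai_symm hbl hbb hal haa hab.symm (fun h1 => hab' (by rw [h1, inv_inv]))
    hbl' hbb' hal' haa' hbA haA
  have hcA' : AI K (dg v (a * b)) v (a' * b') := by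
    rw [h.dg_mul hal hbl]
    exact AI.mul haA' hbA' hbl'
  -- membership
  have hu' : u ∈ K u ⊔ K v := mem_sup_left (h.qu.mem)
  have hv' : v ∈ K u ⊔ K v := mem_sup_right (h.qv.mem)
  have haX : a ∈ K u ⊔ K v := mem_sup_left hal
  have hbX : b ∈ K u ⊔ K v := mem_sup_left hbl
  have haX' : a' ∈ K u ⊔ K v := mem_sup_right hal'
  have hbX' : b' ∈ K u ⊔ K v := mem_sup_right hbl'
  have hcX : a * b ∈ K u ⊔ K v := mul_mem haX hbX
  have hcX' : a' * b' ∈ K u ⊔ K v := mul_mem haX' hbX'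
  -- the points
  have m3 := h.re_match hal haa hal' haa' haA haA'
  have m4 := h.re_match hbl hbb hbl' hbb' hbA hbA'
  have m5 := h.re_match hcl r2 hcl' r2' hcA hcA'
  have mu := h.re_uvu
  have mv := h.re_vuv
  -- `u` fixes the points `g v g⁻¹`, `g ∈ K u`; `v` fixes the points `g u g⁻¹`, `g ∈ K v`
  have fu : ∀ g ∈ K u, RE K u v (u * (g * v * g⁻¹) * u⁻¹) (g * v * g⁻¹) := by
    intro g hg
    have h1 := mu.conj (mem_sup_left hg : g ∈ K u ⊔ K v)
    have h2 : g * (u * v * u⁻¹) * g⁻¹ = u * (g * v * g⁻¹) * u⁻¹ := by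
      calc g * (u * v * u⁻¹) * g⁻¹ = (g * u) * v * (g * u)⁻¹ := by group
        _ = (u * g) * v * (u * g)⁻¹ := by rw [h.qu.cent hg]
        _ = _ := by group
    rwa [h2] at h1
  have fv : ∀ g ∈ K v, RE K u v (v * (g * u * g⁻¹) * v⁻¹) (g * u * g⁻¹) := by
    intro g hg
    have h1 := mv.conj (mem_sup_right hg : g ∈ K u ⊔ K v)
    have h2 : g * (v * u * v⁻¹) * g⁻¹ = v * (g * u * g⁻¹) * v⁻¹ := by
      calc g * (v * u * v⁻¹) * g⁻¹ = (g * v) * u * (g * v)⁻¹ := by group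
        _ = (v * g) * u * (v * g)⁻¹ := by rw [h.qv.cent hg]
        _ = _ := by group
    rwa [h2] at h1
  set pt : Fin 5 → G := ![u, v, a * v * a⁻¹, b * v * b⁻¹, (a * b) * v * (a * b)⁻¹] with hpt
  have Aa : Act pt K u v a pa := by
    refine ⟨haX, fun i => ?_⟩
    fin_cases i
    · change RE K u v (a * u * a⁻¹) u
      rw [h.qu.cent hal, mul_inv_cancel_right]; exact RE.refl _
    · change RE K u v (a * v * a⁻¹) (a * v * a⁻¹)
      exact RE.refl _
    · change RE K u v (a * (a * v * a⁻¹) * a⁻¹) v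
      have e : a * (a * v * a⁻¹) * a⁻¹ = u * v * u⁻¹ := by rw [← haa]; group
      rw [e]; exact mu
    · change RE K u v (a * (b * v * b⁻¹) * a⁻¹) ((a * b) * v * (a * b)⁻¹)
      have e : a * (b * v * b⁻¹) * a⁻¹ = (a * b) * v * (a * b)⁻¹ := by group
      rw [e]; exact RE.refl _
    · change RE K u v (a * ((a * b) * v * (a * b)⁻¹) * a⁻¹) (b * v * b⁻¹)
      have e : a * ((a * b) * v * (a * b)⁻¹) * a⁻¹ = (a * a) * (b * v * b⁻¹) * (a * a)⁻¹ := by group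
      rw [e, haa]; exact fu b hbl
  have Ab : Act pt K u v b pb := by
    refine ⟨hbX, fun i => ?_⟩
    fin_cases i
    · change RE K u v (b * u * b⁻¹) u
      rw [h.qu.cent hbl, mul_inv_cancel_right]; exact RE.refl _
    · change RE K u v (b * v * b⁻¹) (b * v * b⁻¹)
      exact RE.refl _
    · change RE K u v (b * (a * v * a⁻¹) * b⁻¹) ((a * b) * v * (a * b)⁻¹)
      have e : b * (a * v * a⁻¹) * b⁻¹ = u * ((a * b) * v * (a * b)⁻¹) * u⁻¹ := by
        calc b * (a * v * a⁻¹) * b⁻¹ = (b * a) * v * (b * a)⁻¹ := by group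
          _ = _ := by rw [r1]; group
      rw [e]; exact fu _ hcl
    · change RE K u v (b * (b * v * b⁻¹) * b⁻¹) v
      have e : b * (b * v * b⁻¹) * b⁻¹ = u * v * u⁻¹ := by rw [← hbb]; group
      rw [e]; exact mu
    · change RE K u v (b * ((a * b) * v * (a * b)⁻¹) * b⁻¹) (a * v * a⁻¹)
      have e : b * ((a * b) * v * (a * b)⁻¹) * b⁻¹ = (b * a * b) * v * (b * a * b)⁻¹ := by group
      rw [e, r3]; exact RE.refl _
  have Aa' : Act pt K u v a' pa' := by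
    refine ⟨haX', fun i => ?_⟩
    fin_cases i
    · change RE K u v (a' * u * a'⁻¹) (a * v * a⁻¹)
      exact m3
    · change RE K u v (a' * v * a'⁻¹) v
      rw [h.qv.cent hal', mul_inv_cancel_right]; exact RE.refl _
    · change RE K u v (a' * (a * v * a⁻¹) * a'⁻¹) u
      refine (m3.symm.conj haX').trans ?_
      have e : a' * (a' * u * a'⁻¹) * a'⁻¹ = v * u * v⁻¹ := by rw [← haa']; group
      rw [e]; exact mv
    · change RE K u v (a' * (b * v * b⁻¹) * a'⁻¹) ((a * b) * v * (a * b)⁻¹)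
      refine (m4.symm.conj haX').trans ?_
      have e : a' * (b' * u * b'⁻¹) * a'⁻¹ = (a' * b') * u * (a' * b')⁻¹ := by group
      rw [e]; exact m5
    · change RE K u v (a' * ((a * b) * v * (a * b)⁻¹) * a'⁻¹) (b * v * b⁻¹)
      refine (m5.symm.conj haX').trans ?_
      have e : a' * ((a' * b') * u * (a' * b')⁻¹) * a'⁻¹ = (a' * a') * (b' * u * b'⁻¹) * (a' * a')⁻¹ := by group
      rw [e, haa']; exact (fv b' hbl').trans m4
  have Ab' : Act pt K u v b' pb' := by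
    refine ⟨hbX', fun i => ?_⟩
    fin_cases i
    · change RE K u v (b' * u * b'⁻¹) (b * v * b⁻¹)
      exact m4
    · change RE K u v (b' * v * b'⁻¹) v
      rw [h.qv.cent hbl', mul_inv_cancel_right]; exact RE.refl _
    · change RE K u v (b' * (a * v * a⁻¹) * b'⁻¹) ((a * b) * v * (a * b)⁻¹)
      refine (m3.symm.conj hbX').trans ?_
      have e : b' * (a' * u * a'⁻¹) * b'⁻¹ = v * ((a' * b') * u * (a' * b')⁻¹) * v⁻¹ := by
        calc b' * (a' * u * a'⁻¹) * b'⁻¹ = (b' * a') * u * (b' * a')⁻¹ := by group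
          _ = _ := by rw [r1']; group
      rw [e]; exact (fv _ hcl').trans m5
    · change RE K u v (b' * (b * v * b⁻¹) * b'⁻¹) u
      refine (m4.symm.conj hbX').trans ?_
      have e : b' * (b' * u * b'⁻¹) * b'⁻¹ = v * u * v⁻¹ := by rw [← hbb']; group
      rw [e]; exact mv
    · change RE K u v (b' * ((a * b) * v * (a * b)⁻¹) * b'⁻¹) (a * v * a⁻¹)
      refine (m5.symm.conj hbX').trans ?_
      have e : b' * ((a' * b') * u * (a' * b')⁻¹) * b'⁻¹ = (b' * a' * b') * u * (b' * a' * b')⁻¹ := by group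
      rw [e, r3']; exact m3
  have h01 : ¬ RE K u v (pt 0) (pt 1) := fun h1 => h.csw_not_comm (h1.comm hv')
  have hinj := pt_inj h01 Aa Ab Aa' Ab'
  have Ad : Act pt K u v (b' * (a * a') * b'⁻¹) pd := ((Ab'.mul (Aa.mul Aa')).mul Ab'.inv)
  set d := b' * (a * a') * b'⁻¹ with hd
  have Ag : Act pt K u v (d * d) (pd * pd) := Ad.mul Ad
  -- `d²` commutes with `u`
  have hdu : d * d * u = u * (d * d) := by
    obtain ⟨e, he, h1⟩ : RE K u v (d * u * d⁻¹) u := Ad.2 0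
    have h2 := he.comm Ad.1
    have h3 : d * d * u * (d * d)⁻¹ = u := by
      have h4 : d * (u * e) * d⁻¹ = (d * u * d⁻¹) * (d * e * d⁻¹) := by group
      calc d * d * u * (d * d)⁻¹ = d * (d * u * d⁻¹) * d⁻¹ := by group
        _ = (u * e) * e := by rw [h1, h4, h1, ← h2, mul_inv_cancel_right]
        _ = u := by rw [mul_assoc, he.sq, mul_one]
    rwa [mul_inv_eq_iff_eq_mul] at h3
  refine ⟨d * d, Ag.1, hdu, fun y hy hyy => ?_⟩
  obtain ⟨σ, hσ, hyσ⟩ : ∃ σ : Equiv.Perm (Fin 5), (σ = pa ∨ σ = pa⁻¹ ∨ σ = pb ∨ σ = pb⁻¹ ∨ σ = pa * pb ∨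
      σ = (pa * pb)⁻¹) ∧ Act pt K u v y σ := by
    rcases h.qu.four_list hal haa hbl hbb hab hab' hy hyy with h1 | h1 | h1 | h1 | h1 | h1 <;> rw [h1]
    · exact ⟨pa, by tauto, Aa⟩
    · exact ⟨pa⁻¹, by tauto, Aa.inv⟩
    · exact ⟨pb, by tauto, Ab⟩
    · exact ⟨pb⁻¹, by tauto, Ab.inv⟩
    · exact ⟨pa * pb, by tauto, Aa.mul Ab⟩
    · exact ⟨(pa * pb)⁻¹, by tauto, (Aa.mul Ab).inv⟩
  have Ac := ((Ag.mul Ag).mul hyσ).mul (Ag.mul Ag).inv
  obtain ⟨h1, h2⟩ := pd_ne' σ hσ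
  constructor
  · intro h3
    rw [h3] at Ac
    exact h1 (Act.uniq hinj Ac hyσ)
  · intro h3
    rw [h3] at Ac
    exact h2 (Act.uniq hinj Ac hyσ.inv)

/-- **CLAIM S** -/
theorem claim
    (hI : ∀ x ∈ K u ⊔ K v, ∀ k ∈ K u, k * k = u →
      (∀ y ∈ K u, (x * v * x⁻¹) * y * (x * v * x⁻¹)⁻¹ = k * y * k⁻¹) →
      ∃ c, x⁻¹ * c * x ∈ K v ∧ c * c = x * v * x⁻¹ ∧ c * u = u * c ∧ ∀ y, c * y * c⁻¹ ∈ K u ↔ y ∈ K u)
    (hN : ∀ d ∈ K u ⊔ K v, d * u = u * d → ∀ y ∈ K u, (d * d) * y * (d * d)⁻¹ ∈ K u)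
    (f : ↥(K u ⊔ K v) →* ℤˣ) {x : G} (hx : x ∈ K u) : f ⟨x, mem_sup_left hx⟩ = 1 := by
  by_cases hA : ∃ l ∈ K v, l * l = v ∧ ∀ k ∈ K u, k * k = u → Bz u k l
  · obtain ⟨l, hl, hll, hall⟩ := hA
    exact h.claim_a hI hl hll hall f hx
  · push Not at hA
    obtain ⟨d, hd, hdu, hm⟩ := h.exists_rot hA
    exact h.qu.f_one_of_rot le_sup_left f (mul_mem hd hd) (hN d hd hdu)
      (by rw [mul_assoc, hdu, ← mul_assoc, hdu, mul_assoc]) hm hx

end SD

end Cfsg.Agent.Cit.Nil.RTwoM.L1
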