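import Cfsg.Agent.Cit.Nil.RTwoM.L1.ClaimB
import Cfsg.Agent.Cit.Nil.RTwoM.Pairs

/-!
# S1309, (6b), `r = 2`: CLAIM S, the inputs on members

`WM Om`, `M` a member over `u`, `N` a member over `v`.

* `sel M N u` : the function with value `M` at `u`, `N` elsewhere; `qa_of_mem`;
* `four_of_act` : (1.1): an element of `Z` acting on `M` as an element `k` of order 4;
* `norm_sq` : `d ∈ C(u)`, then `d²` normalises the members over `u`;
* `claim_of_sd` : CLAIM S for `M`, `N` from `SD (sel M N u) u v`.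
-/

set_option autoImplicit false
set_option linter.style.haveILetI false
set_option linter.unusedSectionVars false

namespace Cfsg.Agent.Cit.Nil.RTwoM.L1

open Subgroup Cfsg Cfsg.Agent.Cit
open ROne (Cen wt dg Bz)

variable {G : Type*} [Group G] {Om : Set (Subgroup G)} {u v x y z k g d q : G} {K : G → Subgroup G}
  {M N L : Subgroup G}

open Classical in
/-- `M` at `u`, `N` elsewhere -/
noncomputable def sel (M N : Subgroup G) (u : G) (x : G) : Subgroup G := if x = u then M else N

theorem sel_u (M N : Subgroup G) (u : G) : sel M N u u = M := if_pos rfl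

theorem sel_v (M N : Subgroup G) (h : v ≠ u) : sel M N u v = N := if_neg h

variable [Finite G] (h : WM Om)

include h

theorem q8_of_mem (hM : Mem Om z M) : Nonempty (M ≃* QuaternionGroup 2) := by
  haveI : Fact (Nat.Prime 2) := ⟨Nat.prime_two⟩
  obtain ⟨S, n, ⟨e⟩⟩ := h.hyp.quat M hM.1
  have h1 : (S : Subgroup M) = ⊤ := by
    have h2 : IsPGroup 2 M := h.isPGroup hM.1
    have h3 : IsPGroup 2 (⊤ : Subgroup M) := h2.to_subgroup ⊤
    exact S.is_maximal' h3 le_top ▸ rfl
  have h4 : Nat.card M = 2 ^ (n + 3) := by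
    have h5 := Nat.card_congr e.toEquiv
    rw [h1, Subgroup.card_top] at h5
    rw [h5, Nat.card_eq_fintype_card, QuaternionGroup.card]
    rw [pow_add, pow_add]; ring
  have h5 : n = 0 := by
    rw [h.card M hM.1] at h4
    have h6 : (2 : ℕ) ^ 3 = 2 ^ (n + 3) := by rw [← h4]; norm_num
    have h7 := Nat.pow_right_injective (le_refl 2) h6
    omega
  subst h5
  rw [h1] at e
  exact ⟨Subgroup.topEquiv.symm.trans e⟩

theorem qa_of_mem (hM : Mem Om z M) (hK : K z = M) : QA K z where
  mem := by rw [hK]; exact hM.zmem h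
  sq := hM.inZ.z2 h
  ne := hM.inZ.z1 h
  q8 := by rw [hK]; exact q8_of_mem h hM

/-- **(1.1)** : `q ∈ Z` acts on the member `M` over `u` as `k`, `L` a member over `q` -/
theorem four_of_act (hM : Mem Om u M) (hL : Mem Om q L) (hk : k ∈ M) (hkk : k * k = u)
    (hact : ∀ y ∈ M, q * y * q⁻¹ = k * y * k⁻¹) :
    ∃ c ∈ L, c * c = q ∧ c * u = u * c ∧ ∀ y, c * y * c⁻¹ ∈ M ↔ y ∈ M := by
  have hnc : ¬ ∀ y ∈ M, q * y = y * q := by
    intro h1
    obtain ⟨a, qa⟩ := h.exists_q3 hM
    have h2 : ∀ y ∈ M, k * y = y * k := by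
      intro y hy
      have := hact y hy
      rw [h1 y hy, mul_inv_cancel_right, eq_mul_inv_iff_mul_eq] at this
      exact this.symm
    rcases qa.center hk (h2 _ (qa.mem 0)) (h2 _ (qa.mem 1)) with h3 | h3
    · rw [h3, one_mul] at hkk; exact hM.inZ.z1 h hkk.symm
    · rw [h3, hM.inZ.z2 h] at hkk; exact hM.inZ.z1 h hkk.symm
  have hne : u ≠ q := by
    rintro rfl
    exact hnc fun y hy => (hM.comm_z h hy).symm
  have hinn : ∀ y ∈ M, q * y * q⁻¹ = y ∨ q * y * q⁻¹ = u * y := by
    intro y hy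
    rw [hact y hy]
    exact hM.comm_or h hy hk
  have hti : TI Om u q := TI.of_one h hM hL.inZ hne hinn hnc
  obtain ⟨c, hc, hcc⟩ := (hti.symm h).exists_as h hL
  have hcu : c * u = u * c := hc.comm.symm
  refine ⟨c, hc.1, hcc, hcu, fun y => ?_⟩
  have h1 := h.h3 hL hM hc.1 hcc hcu
  constructor
  · intro hy
    rw [← h1, mem_cj] at hy
    have h2 : c⁻¹ * (c * y * c⁻¹) * c = y := by group
    rwa [h2] at hy
  · intro hy
    have := conj_mem_cj (g := c) hy
    rwa [h1] at this

/-- `d²` normalises the members over `u` -/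
theorem norm_sq (hM : Mem Om u M) (hd : d * u = u * d) (hy : y ∈ M) : (d * d) * y * (d * d)⁻¹ ∈ M := by
  have key : cj (d * d) M = M := by
    obtain ⟨L, hL, hML, hall⟩ := hM.other h
    rw [cj_mul]
    rcases hall _ (hM.cj_comm h hd) with h1 | h1
    · rw [h1, h1]
    · rw [h1]
      rcases hall _ (hL.cj_comm h hd) with h2 | h2
      · exact h2
      · exfalso
        apply hML
        rw [← h1] at h2
        rw [← cj_inj (g := d)]
        rw [h1] at h2 ⊢
        exact h2.symm
  have := conj_mem_cj (g := d * d) hy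
  rwa [key] at this

/-- **CLAIM S** for `M`, `N` -/
theorem claim_of_sd (hM : Mem Om u M) (hN : Mem Om v N) (hne : v ≠ u) (hs : SD (sel M N u) u v)
    (f : ↥(M ⊔ N) →* ℤˣ) {x : G} (hx : x ∈ M) : f ⟨x, mem_sup_left hx⟩ = 1 := by
  have e1 : sel M N u u = M := sel_u M N u
  have e2 : sel M N u v = N := sel_v M N hne
  have gen : ∀ (A B : Subgroup G), sel M N u u = A → sel M N u v = B → ∀ (f : ↥(A ⊔ B) →* ℤˣ) {x : G} (hx : x ∈ A),
      f ⟨x, mem_sup_left hx⟩ = 1 := by
    rintro _ _ rfl rfl f x hx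
    refine hs.claim ?_ ?_ f hx
    · rw [e1, e2]
      intro x hx k hk hkk hact
      have hL : Mem Om (x * v * x⁻¹) (cj x N) := hN.cj h x
      obtain ⟨c, hc, h1, h2, h3⟩ := four_of_act h hM hL hk hkk hact
      exact ⟨c, mem_cj.1 hc, h1, h2, h3⟩
    · rw [e1, e2]
      intro d _ hdu y hy
      exact norm_sq h hM hdu hy
  exact gen M N e1 e2 f hx

end Cfsg.Agent.Cit.Nil.RTwoM.L1
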