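import Cfsg.Agent.Cit.Nil.ROne.Base

/-!
# S1309, (6b), any `r`: CLAIM S, one quaternion group

`QA K z` : `K z` is a quaternion group of order 8 with involution `z`. The lemmas of `ROne/{Defs,Base,ClaimA}.lean` on
`K z` (only the value `K z` is used).
-/

set_option autoImplicit false
set_option linter.style.haveILetI false
set_option linter.unusedSectionVars false

namespace Cfsg.Agent.Cit.Nil.RTwoM.L1

open Subgroup Cfsg Cfsg.Agent.Cit QuaternionGroup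
open ROne (Cen)

variable {G : Type*} [Group G]

/-- `K z` is a quaternion group with involution `z` -/
structure QA (K : G → Subgroup G) (z : G) : Prop where
  mem : z ∈ K z
  sq : z * z = 1
  ne : z ≠ 1
  q8 : Nonempty (K z ≃* QuaternionGroup 2)

namespace QA

variable {K : G → Subgroup G} {z u v g x y b k c : G} (h : QA K z)

include h

theorem inv : z⁻¹ = z := inv_eq_of_mul_eq_one_right h.sq

/-- the model isomorphism -/
noncomputable def e : K z ≃* ROne.QEight.Q := h.q8.some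

theorem e_z : h.e ⟨z, h.mem⟩ = a 2 := by
  have h1 : ∀ x : ROne.QEight.Q, x * x = 1 → x ≠ 1 → x = a 2 := by decide
  apply h1
  · rw [← map_mul, ← map_one h.e]
    exact congrArg h.e (Subtype.ext h.sq)
  · intro h2
    rw [← map_one h.e] at h2
    exact h.ne (congrArg Subtype.val (h.e.injective h2))

theorem e_inj (hx : x ∈ K z) (hy : y ∈ K z) (he : h.e ⟨x, hx⟩ = h.e ⟨y, hy⟩) : x = y :=
  congrArg Subtype.val (h.e.injective he)

theorem exists_e (p : ROne.QEight.Q) : ∃ x, ∃ hx : x ∈ K z, h.e ⟨x, hx⟩ = p :=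
  ⟨(h.e.symm p : K z), (h.e.symm p).2, h.e.apply_symm_apply p⟩

theorem e_mul (hx : x ∈ K z) (hy : y ∈ K z) : h.e ⟨x * y, mul_mem hx hy⟩ = h.e ⟨x, hx⟩ * h.e ⟨y, hy⟩ := by
  rw [← map_mul]; rfl

theorem e_inv (hx : x ∈ K z) : h.e ⟨x⁻¹, inv_mem hx⟩ = (h.e ⟨x, hx⟩)⁻¹ := by
  rw [← map_inv]; rfl

theorem e_sq (hx : x ∈ K z) (hxx : x * x = z) : h.e ⟨x, hx⟩ * h.e ⟨x, hx⟩ = a 2 := by
  rw [← h.e_mul hx hx, ← h.e_z]
  exact congrArg h.e (Subtype.ext hxx)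

/-- the elements different from `1`, `z` have square `z` -/
theorem sq_eq (hx : x ∈ K z) (h1 : x ≠ 1) (h2 : x ≠ z) : x * x = z := by
  have h3 : ∀ x : ROne.QEight.Q, x ≠ 1 → x ≠ a 2 → x * x = a 2 := by decide
  have h4 : h.e ⟨x, hx⟩ * h.e ⟨x, hx⟩ = a 2 := by
    apply h3
    · intro h3
      rw [← map_one h.e] at h3
      exact h1 (congrArg Subtype.val (h.e.injective h3))
    · intro h3
      rw [← h.e_z] at h3
      exact h2 (congrArg Subtype.val (h.e.injective h3))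
  rw [← map_mul, ← h.e_z] at h4
  exact congrArg Subtype.val (h.e.injective h4)

/-- `K z ≤ C(z)` -/
theorem cent (hx : x ∈ K z) : x * z = z * x := by
  have h3 : ∀ x : ROne.QEight.Q, x * a 2 = a 2 * x := by decide
  have h4 := h3 (h.e ⟨x, hx⟩)
  rw [← h.e_z, ← map_mul, ← map_mul] at h4
  exact congrArg Subtype.val (h.e.injective h4)

/-- elements `i`, `j` generating `K z` -/
theorem exists_ij : ∃ i ∈ K z, ∃ j ∈ K z, i * i = z ∧ j * j = z ∧ j * i = z * (i * j) := by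
  have hez := h.e_z
  set f := h.e with hf
  have lift : ∀ p q : K z, f p = f q → (p : G) = q := fun p q hpq => congrArg Subtype.val (f.injective hpq)
  refine ⟨(f.symm (a 1) : K z), (f.symm (a 1)).2, (f.symm (xa 0) : K z), (f.symm (xa 0)).2, ?_, ?_, ?_⟩
  · refine lift (f.symm (a 1) * f.symm (a 1)) ⟨z, h.mem⟩ ?_
    rw [map_mul, hez, f.apply_symm_apply]; decide
  · refine lift (f.symm (xa 0) * f.symm (xa 0)) ⟨z, h.mem⟩ ?_
    rw [map_mul, hez, f.apply_symm_apply]; decide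
  · refine lift (f.symm (xa 0) * f.symm (a 1)) (⟨z, h.mem⟩ * (f.symm (a 1) * f.symm (xa 0))) ?_
    rw [map_mul, map_mul, map_mul, hez, f.apply_symm_apply, f.apply_symm_apply]; decide

/-- two elements of order 4 of `K z` on different axes -/
theorem inv_of_ne (hy : y ∈ K z) (hyy : y * y = z) (hb : b ∈ K z) (hbb : b * b = z) (h1 : b ≠ y)
    (h2 : b ≠ y⁻¹) : y * b * y⁻¹ = b⁻¹ := by
  have h3 : ∀ p q : ROne.QEight.Q, p * p = a 2 → q * q = a 2 → q ≠ p → q ≠ p⁻¹ → p * q * p⁻¹ = q⁻¹ := by decide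
  have h4 := h3 _ _ (h.e_sq hy hyy) (h.e_sq hb hbb) (fun h5 => h1 (h.e_inj _ _ h5))
    (fun h5 => h2 (by rw [← h.e_inv hy] at h5; exact h.e_inj _ _ h5))
  rw [← h.e_mul hy hb, ← h.e_inv hy, ← h.e_mul (mul_mem hy hb) (inv_mem hy), ← h.e_inv hb] at h4
  exact h.e_inj _ _ h4

/-- an element of order 4 is inverted by another one -/
theorem exists_inv (hy : y ∈ K z) (hyy : y * y = z) :
    ∃ c ∈ K z, c * c = z ∧ c ≠ y ∧ c ≠ y⁻¹ ∧ y * c * y⁻¹ = c⁻¹ ∧ c * y * c⁻¹ = y⁻¹ := by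
  obtain ⟨i, hi, j, hj, hii, hjj, hji⟩ := h.exists_ij
  have hne : i ≠ j := by
    rintro rfl
    rw [hii, h.sq] at hji
    exact h.ne hji
  have hne' : i ≠ j⁻¹ := by
    rintro rfl
    rw [mul_inv_cancel, inv_mul_cancel, mul_one] at hji
    exact h.ne hji.symm
  have key : ∀ c ∈ K z, c * c = z → c ≠ y → c ≠ y⁻¹ → c * y * c⁻¹ = y⁻¹ := fun c hc hcc h1 h2 =>
    h.inv_of_ne hc hcc hy hyy (Ne.symm h1) (fun h3 => h2 (by rw [h3, inv_inv]))
  by_cases h1 : i ≠ y ∧ i ≠ y⁻¹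
  · exact ⟨i, hi, hii, h1.1, h1.2, h.inv_of_ne hy hyy hi hii h1.1 h1.2, key i hi hii h1.1 h1.2⟩
  · have h2 : j ≠ y ∧ j ≠ y⁻¹ := by
      rw [not_and_or, not_not, not_not] at h1
      rcases h1 with h1 | h1
      · exact ⟨fun h3 => hne (h1.trans h3.symm), fun h3 => hne' (by rw [h3, inv_inv]; exact h1)⟩
      · exact ⟨fun h3 => hne' (by rw [h3]; exact h1), fun h3 => hne (h1.trans h3.symm)⟩
    exact ⟨j, hj, hjj, h2.1, h2.2, h.inv_of_ne hy hyy hj hjj h2.1 h2.2, key j hj hjj h2.1 h2.2⟩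

theorem inv_eq_mul (hkk : k * k = z) : k⁻¹ = k * z := by
  have h2 : k * k * (k * k) = 1 := by rw [hkk, h.sq]
  rw [← hkk, inv_eq_iff_mul_eq_one]
  calc k * (k * (k * k)) = k * k * (k * k) := by group
    _ = 1 := h2

/-- four elements of order 4 on three axes -/
theorem third (hk : k ∈ K z) (hkk : k * k = z) (hb : b ∈ K z) (hbb : b * b = z) (hx : x ∈ K z)
    (hxx : x * x = z) (h1 : b ≠ k) (h2 : b ≠ k⁻¹) (h3 : x ≠ b) (h4 : x ≠ b⁻¹) (h5 : x ≠ k) (h6 : x ≠ k⁻¹) :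
    x = k * b ∨ x = (k * b)⁻¹ := by
  have key : ∀ p q r : ROne.QEight.Q, p * p = a 2 → q * q = a 2 → r * r = a 2 → q ≠ p → q ≠ p⁻¹ → r ≠ q → r ≠ q⁻¹ →
      r ≠ p → r ≠ p⁻¹ → r = p * q ∨ r = (p * q)⁻¹ := by decide
  have ne : ∀ {a c : G} (ha : a ∈ K z) (hc : c ∈ K z), a ≠ c → h.e ⟨a, ha⟩ ≠ h.e ⟨c, hc⟩ :=
    fun ha hc h7 h8 => h7 (h.e_inj ha hc h8)
  have ne' : ∀ {a c : G} (ha : a ∈ K z) (hc : c ∈ K z), a ≠ c⁻¹ → h.e ⟨a, ha⟩ ≠ (h.e ⟨c, hc⟩)⁻¹ :=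
    fun ha hc h7 h8 => h7 (h.e_inj ha (inv_mem hc) (by rw [h8, h.e_inv hc]))
  rcases key _ _ _ (h.e_sq hk hkk) (h.e_sq hb hbb) (h.e_sq hx hxx) (ne hb hk h1) (ne' hb hk h2) (ne hx hb h3)
    (ne' hx hb h4) (ne hx hk h5) (ne' hx hk h6) with h7 | h7
  · left
    rw [← h.e_mul hk hb] at h7
    exact h.e_inj _ _ h7
  · right
    rw [← h.e_mul hk hb, ← h.e_inv (mul_mem hk hb)] at h7
    exact h.e_inj _ _ h7

/-- the product of two elements of order 4 on different axes has order 4 -/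
theorem mul_sq (hk : k ∈ K z) (hkk : k * k = z) (hb : b ∈ K z) (hbb : b * b = z) (h1 : b ≠ k)
    (h2 : b ≠ k⁻¹) : (k * b) * (k * b) = z := by
  have h3 := h.inv_of_ne hk hkk hb hbb h1 h2
  calc (k * b) * (k * b) = (k * b * k⁻¹) * (k * k) * b := by group
    _ = b⁻¹ * z * b := by rw [h3, hkk]
    _ = b⁻¹ * (z * b) := by group
    _ = z := by rw [← h.cent hb]; group

/-- the elements of order 4 of `K z` in terms of two of them -/
theorem four_list {a b : G} (ha : a ∈ K z) (haa : a * a = z) (hb : b ∈ K z) (hbb : b * b = z)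
    (h1 : b ≠ a) (h2 : b ≠ a⁻¹) (hy : y ∈ K z) (hyy : y * y = z) :
    y = a ∨ y = a⁻¹ ∨ y = b ∨ y = b⁻¹ ∨ y = a * b ∨ y = (a * b)⁻¹ := by
  by_cases h3 : y = b
  · tauto
  by_cases h4 : y = b⁻¹
  · tauto
  by_cases h5 : y = a
  · tauto
  by_cases h6 : y = a⁻¹
  · tauto
  rcases h.third ha haa hb hbb hy hyy h1 h2 h3 h4 h5 h6 with h7 | h7
  · tauto
  · tauto

/-- relations between two elements of order 4 on different axes -/
theorem four_rel {a b : G} (ha : a ∈ K z) (haa : a * a = z) (hb : b ∈ K z) (hbb : b * b = z)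
    (h1 : b ≠ a) (h2 : b ≠ a⁻¹) : b * a = z * (a * b) ∧ (a * b) * (a * b) = z ∧ b * a * b = a := by
  have h3 := h.inv_of_ne ha haa hb hbb h1 h2
  rw [h.inv_eq_mul hbb] at h3
  have hba : a * b = b * z * a := by rw [← h3]; group
  have hza := h.cent ha
  have hzb := h.cent hb
  have hzz := h.sq
  have h4 : b * a = z * (a * b) := by
    rw [hba, hzb]
    calc b * a = (z * z) * b * a := by rw [hzz, one_mul]
      _ = z * (z * b * a) := by group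
  refine ⟨h4, h.mul_sq ha haa hb hbb h1 h2, ?_⟩
  rw [h4]
  calc z * (a * b) * b = z * a * (b * b) := by group
    _ = a * (z * z) := by rw [hbb, ← hza]; group
    _ = a := by rw [hzz, mul_one]

/-! ### The conjugation action on `K z` -/

/-- conjugation by `g` normalising `K z` -/
def actK (g : G) (hg : ∀ x, g * x * g⁻¹ ∈ K z ↔ x ∈ K z) : MulAut (K z) where
  toFun x := ⟨g * x * g⁻¹, (hg x).2 x.2⟩
  invFun x := ⟨g⁻¹ * x * g, (hg _).1 (by
    have : g * (g⁻¹ * (x : G) * g) * g⁻¹ = x := by group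
    rw [this]; exact x.2)⟩
  left_inv x := Subtype.ext (by change g⁻¹ * (g * x * g⁻¹) * g = x; group)
  right_inv x := Subtype.ext (by change g * (g⁻¹ * x * g) * g⁻¹ = x; group)
  map_mul' x y := Subtype.ext (by change g * (x * y) * g⁻¹ = (g * x * g⁻¹) * (g * y * g⁻¹); group)

/-- conjugation by `g` on the model of `K z` -/
noncomputable def rho (g : G) (hg : ∀ x, g * x * g⁻¹ ∈ K z ↔ x ∈ K z) : MulAut ROne.QEight.Q :=
  (h.e.symm.trans (actK g hg)).trans h.e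

theorem rho_e (hg : ∀ x, g * x * g⁻¹ ∈ K z ↔ x ∈ K z) (hx : x ∈ K z) :
    h.rho g hg (h.e ⟨x, hx⟩) = h.e ⟨g * x * g⁻¹, (hg x).2 hx⟩ := by
  change h.e (actK g hg (h.e.symm (h.e ⟨x, hx⟩))) = _
  rw [h.e.symm_apply_apply]
  rfl

/-- **(1.1)** : `c` normalises `K z` and `c²` acts on it as `y` -/
theorem ti_act (hc : ∀ x, c * x * c⁻¹ ∈ K z ↔ x ∈ K z) (hy : y ∈ K z) (hyy : y * y = z)
    (hact : ∀ x ∈ K z, (c * c) * x * (c * c)⁻¹ = y * x * y⁻¹) :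
    c * y * c⁻¹ = y ∧ ∀ b ∈ K z, b * b = z → b ≠ y → b ≠ y⁻¹ → c * b * c⁻¹ ≠ b ∧ c * b * c⁻¹ ≠ b⁻¹ := by
  have h2 : ∀ b ∈ K z, b * b = z → b ≠ y → b ≠ y⁻¹ → c * b * c⁻¹ ≠ b ∧ c * b * c⁻¹ ≠ b⁻¹ := by
    intro b hb hbb hby hby'
    have h3 : c * (c * b * c⁻¹) * c⁻¹ = b⁻¹ := by
      rw [← h.inv_of_ne hy hyy hb hbb hby hby', ← hact b hb]; group
    have h4 : b⁻¹ ≠ b := by
      intro h5
      have h6 : b * b = 1 := by
        nth_rewrite 1 [← h5]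
        exact inv_mul_cancel b
      rw [hbb] at h6
      exact h.ne h6
    constructor
    · intro h5
      rw [h5, h5] at h3
      exact h4 h3.symm
    · intro h5
      have h6 : c * b⁻¹ * c⁻¹ = b := by
        have : c * b⁻¹ * c⁻¹ = (c * b * c⁻¹)⁻¹ := by group
        rw [this, h5, inv_inv]
      rw [h5, h6] at h3
      exact h4 h3.symm
  refine ⟨?_, h2⟩
  have h3 := ROne.QEight.sq_inn (h.rho c hc) (h.e ⟨y, hy⟩) (h.e_sq hy hyy) (by
    intro p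
    obtain ⟨x, hx, rfl⟩ := h.exists_e p
    rw [h.rho_e hc hx, h.rho_e hc, ← h.e_mul hy hx, ← h.e_inv hy, ← h.e_mul (mul_mem hy hx) (inv_mem hy)]
    refine congrArg h.e (Subtype.ext ?_)
    change c * (c * x * c⁻¹) * c⁻¹ = y * x * y⁻¹
    rw [← hact x hx]; group)
  rw [h.rho_e hc hy] at h3
  exact h.e_inj _ _ h3

/-! ### Homomorphisms to `±1` -/

omit h in
theorem units_inv' (a : ℤˣ) : a⁻¹ = a := by
  rcases Int.units_eq_one_or a with h1 | h1 <;> rw [h1] <;> simp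

/-- `c ∈ X` normalises `K z`, fixes `k` and moves the other axes of `K z`: `f k = 1` -/
theorem f_one_of_move {X : Subgroup G} (hX : K z ≤ X) (f : X →* ℤˣ) (hk : k ∈ K z) (hkk : k * k = z)
    (hc : c ∈ X) (hcn : ∀ x ∈ K z, c * x * c⁻¹ ∈ K z) (hcu : c * z = z * c) (hck : c * k * c⁻¹ = k)
    (hm : ∀ b ∈ K z, b * b = z → b ≠ k → b ≠ k⁻¹ → c * b * c⁻¹ ≠ b ∧ c * b * c⁻¹ ≠ b⁻¹) : f ⟨k, hX hk⟩ = 1 := by
  obtain ⟨b, hb, hbb, h1, h2, -, -⟩ := h.exists_inv hk hkk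
  obtain ⟨h3, h4⟩ := hm b hb hbb h1 h2
  have hxK : c * b * c⁻¹ ∈ K z := hcn b hb
  have hxx : c * b * c⁻¹ * (c * b * c⁻¹) = z := by
    calc c * b * c⁻¹ * (c * b * c⁻¹) = c * (b * b) * c⁻¹ := by group
      _ = z := by rw [hbb, hcu, mul_inv_cancel_right]
  have h5 : c * b * c⁻¹ ≠ k := by
    intro h6
    apply h1
    have h7 : c * b * c⁻¹ = c * k * c⁻¹ := h6.trans hck.symm
    exact mul_left_cancel (mul_right_cancel h7)
  have h6 : c * b * c⁻¹ ≠ k⁻¹ := by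
    intro h6
    apply h2
    have h7 : c * b * c⁻¹ = c * k⁻¹ * c⁻¹ := by
      rw [h6]
      have : c * k⁻¹ * c⁻¹ = (c * k * c⁻¹)⁻¹ := by group
      rw [this, hck]
    exact mul_left_cancel (mul_right_cancel h7)
  have h7 : f ⟨c * b * c⁻¹, hX hxK⟩ = f ⟨b, hX hb⟩ := by
    have h8 : (⟨c * b * c⁻¹, hX hxK⟩ : X) = ⟨c, hc⟩ * ⟨b, hX hb⟩ * ⟨c, hc⟩⁻¹ := rfl
    rw [h8, map_mul, map_mul, map_inv, mul_comm (f ⟨c, hc⟩), mul_inv_cancel_right]
  have h8 : f ⟨k * b, hX (mul_mem hk hb)⟩ = f ⟨k, hX hk⟩ * f ⟨b, hX hb⟩ := by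
    rw [← map_mul]; rfl
  rcases h.third hk hkk hb hbb hxK hxx h1 h2 h3 h4 h5 h6 with h9 | h9
  · have h10 : (⟨c * b * c⁻¹, hX hxK⟩ : X) = ⟨k * b, hX (mul_mem hk hb)⟩ := Subtype.ext h9
    rw [h10, h8] at h7
    exact mul_eq_right.1 h7
  · have h10 : (⟨c * b * c⁻¹, hX hxK⟩ : X) = ⟨k * b, hX (mul_mem hk hb)⟩⁻¹ := Subtype.ext h9
    rw [h10, map_inv, units_inv', h8] at h7
    exact mul_eq_right.1 h7

/-- `f` is trivial on `K z` if it is trivial on the elements of order 4 -/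
theorem f_one_of_all {X : Subgroup G} (hX : K z ≤ X) (f : X →* ℤˣ)
    (hf : ∀ k (hk : k ∈ K z), k * k = z → f ⟨k, hX hk⟩ = 1) (hx : x ∈ K z) : f ⟨x, hX hx⟩ = 1 := by
  by_cases h1 : x = 1
  · have h2 : (⟨x, hX hx⟩ : X) = 1 := Subtype.ext h1
    rw [h2, map_one]
  by_cases h2 : x = z
  · obtain ⟨i, hi, -, -, hii, -⟩ := h.exists_ij
    have h3 : (⟨x, hX hx⟩ : X) = ⟨i, hX hi⟩ * ⟨i, hX hi⟩ := Subtype.ext (h2.trans hii.symm)
    rw [h3, map_mul, hf i hi hii, one_mul]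
  · exact hf x hx (h.sq_eq hx h1 h2)

/-- `d ∈ X` normalises `K z` and moves the three axes of `K z`: homomorphisms `X → ±1` are trivial on `K z` -/
theorem f_one_of_rot {d : G} {X : Subgroup G} (hX : K z ≤ X) (f : X →* ℤˣ) (hd : d ∈ X)
    (hdn : ∀ x ∈ K z, d * x * d⁻¹ ∈ K z) (hdu : d * z = z * d)
    (hm : ∀ y ∈ K z, y * y = z → d * y * d⁻¹ ≠ y ∧ d * y * d⁻¹ ≠ y⁻¹) (hx : x ∈ K z) : f ⟨x, hX hx⟩ = 1 := by
  refine h.f_one_of_all hX f (fun y hy hyy => ?_) hx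
  have cj : ∀ {a : G} (_ : a ∈ K z), d * a * d⁻¹ ∈ K z := fun ha => hdn _ ha
  have sq : ∀ {a : G}, a * a = z → d * a * d⁻¹ * (d * a * d⁻¹) = z := by
    intro a haa
    calc d * a * d⁻¹ * (d * a * d⁻¹) = d * (a * a) * d⁻¹ := by group
      _ = z := by rw [haa, hdu, mul_inv_cancel_right]
  have fc : ∀ {a : G} (ha : a ∈ K z), f ⟨d * a * d⁻¹, hX (cj ha)⟩ = f ⟨a, hX ha⟩ := by
    intro a ha
    have h8 : (⟨d * a * d⁻¹, hX (cj ha)⟩ : X) = ⟨d, hd⟩ * ⟨a, hX ha⟩ * ⟨d, hd⟩⁻¹ := rfl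
    rw [h8, map_mul, map_mul, map_inv, mul_comm (f ⟨d, hd⟩), mul_inv_cancel_right]
  set x := d * y * d⁻¹ with hxdef
  have hxK : x ∈ K z := cj hy
  have hxx : x * x = z := sq hyy
  set x2 := d * x * d⁻¹ with hx2def
  have hx2K : x2 ∈ K z := cj hxK
  have hx2x : x2 * x2 = z := sq hxx
  obtain ⟨h1, h2⟩ := hm y hy hyy
  obtain ⟨h3, h4⟩ := hm x hxK hxx
  have hyu : y * x = x * y * z := by
    have h5 := h.inv_of_ne hy hyy hxK hxx h1 h2
    rw [h.inv_eq_mul hxx, mul_inv_eq_iff_eq_mul] at h5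
    rw [h5, mul_assoc, ← h.cent hy, ← mul_assoc]
  have hyxsq : (y * x) * (y * x) = z := h.mul_sq hy hyy hxK hxx h1 h2
  have key : x2 ≠ y ∧ x2 ≠ y⁻¹ := by
    obtain ⟨h6, h7⟩ := hm (y * x) (mul_mem hy hxK) hyxsq
    have h8 : d * (y * x) * d⁻¹ = x * x2 := by rw [hx2def, hxdef]; group
    have h9 : (y * x)⁻¹ = y * x * z := h.inv_eq_mul hyxsq
    rw [h8] at h6 h7
    have h10 : x * y = y * x * z := by
      rw [hyu, mul_assoc (x * y), h.sq, mul_one]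
    constructor
    · intro h11
      rw [h11] at h7
      exact h7 (by rw [h9]; exact h10)
    · intro h11
      apply h6
      rw [h11, h.inv_eq_mul hyy, ← mul_assoc, h10, mul_assoc (y * x), h.sq, mul_one]
  have e1 : f ⟨x, hX hxK⟩ = f ⟨y, hX hy⟩ := fc hy
  have e2 : f ⟨x2, hX hx2K⟩ = f ⟨y, hX hy⟩ := (fc hxK).trans e1
  have e3 : f ⟨y * x, hX (mul_mem hy hxK)⟩ = f ⟨y, hX hy⟩ * f ⟨x, hX hxK⟩ := by rw [← map_mul]; rfl
  have e4 : f ⟨y, hX hy⟩ * f ⟨x, hX hxK⟩ = 1 := by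
    rw [e1]
    rcases Int.units_eq_one_or (f ⟨y, hX hy⟩) with h5 | h5 <;> rw [h5] <;> simp
  rcases h.third hy hyy hxK hxx hx2K hx2x h1 h2 h3 h4 key.1 key.2 with h5 | h5
  · have h6 : (⟨x2, hX hx2K⟩ : X) = ⟨y * x, hX (mul_mem hy hxK)⟩ := Subtype.ext h5
    rw [h6, e3, e4] at e2
    exact e2.symm
  · have h6 : (⟨x2, hX hx2K⟩ : X) = ⟨y * x, hX (mul_mem hy hxK)⟩⁻¹ := Subtype.ext h5
    rw [h6, map_inv, e3, e4, inv_one] at e2
    exact e2.symm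

end QA

end Cfsg.Agent.Cit.Nil.RTwoM.L1
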