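import Cfsg.Agent.Cit.Nil.RTwoM.L1.NoTS
import Cfsg.Agent.Cit.Nil.RTwoM.L1.End
import Cfsg.Agent.Cit.Nil.RTwoM.L1.ClaimS
import Cfsg.Agent.Cit.Nil.RTwoM.LZero

/-!
# S1309, (6b), `r = 2`, any `m`: LAMBDA1 is impossible

* `WM.tc` : the context of section 5, with CLAIM S (helper185);
* **`WM.no_csw`** : `F*(G) = G0` simple, AN, one class: there are no C-swaps; **`WM.l0`** : `L0 Om`.
-/

set_option autoImplicit false
set_option linter.style.haveILetI false
set_option linter.unusedSectionVars false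

namespace Cfsg.Agent.Cit.Nil.RTwoM

open Subgroup Cfsg Cfsg.Agent.Cit

variable {G : Type*} [Group G] [Finite G] {Om : Set (Subgroup G)} {G0 : Subgroup G}

namespace WM

theorem tc (h : WM Om) (ha : ANT Om) (hone : OneCl Om) : L1.TC Om where
  w := h
  an := ha
  one := one_cls hone
  cS _ _ _ _ hM hN hs f _ hx := h.claim_s ha hM hN hs f hx

/-- **LAMBDA1 is impossible** -/
theorem no_csw (h : WM Om) (ha : ANT Om) (hone : OneCl Om) (f : ROne.FSimp G0) (hZ : ∀ z, InZ Om z → z ∈ G0)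
    (gold : Cit.ROne.Gold G0) : ∀ u ∈ L1.Zs Om, ∀ v ∈ L1.Zs Om, ¬ ROne.CSw (RZ Om) u v := by
  intro u hu v hv hs
  have c : L1.LOne Om := ⟨h.tc ha hone, u, hu, v, hv, hs⟩
  exact h.end_swap ha hone c.gd c.wone f hZ gold hu hv hs

/-- the world LAMBDA0 -/
theorem l0 (h : WM Om) (ha : ANT Om) (hone : OneCl Om) (f : ROne.FSimp G0) (hZ : ∀ z, InZ Om z → z ∈ G0)
    (gold : Cit.ROne.Gold G0) : L0 Om := fun u v hu hv hc =>
  h.no_csw ha hone f hZ gold u hu v hv ((L1.cp_iff h hu (hu.conj h v)).2 hc)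

end WM

end Cfsg.Agent.Cit.Nil.RTwoM
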