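import Cfsg.Agent.Cit.Nil.RTwoM.L1.TwinB
import Cfsg.Agent.Cit.Nil.RTwoM.Act

/-!
# S1309, (6b), `r = 2`, LAMBDA1 (C-swaps exist): all N-pairs are of type I, `t` is constant on N-pairs

helper599, bb #16443 (2). `LOne Om` : `TC Om` and a C-swap. `tz Om u = t_u`.

* `LOne.np_tw` (6.1); `LOne.not_cen` : `z` not inner on `R_x`: `t_z ∉ C(R_x)`;
* `LOne.ti_cen` (2a); `LOne.inn_of_swp` (2b); `LOne.inn_of_ff` (2c); `LOne.no_ff` (2d); `LOne.no_swp` (2e);
* **`LOne.ti_of_np`** : N-pairs are of type I; **`LOne.tz_np`** : `t_z = t_x`;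
* **`LOne.gd`** : `GD (Zs Om) (RZ Om)`; **`LOne.wone`** : `WOne (Zs Om) (RZ Om) fun z => zpowers (tz Om z)`.
-/

set_option autoImplicit false
set_option linter.style.haveILetI false
set_option linter.unusedSectionVars false

namespace Cfsg.Agent.Cit.Nil.RTwoM.L1

open Subgroup Cfsg Cfsg.Agent.Cit
open ROne (CSw Cen NC cl Tw wt self_mem_NC conj_mem_NC OneCls CS TT tt NP)
open RG (Tr)

variable {G : Type*} [Group G] {Om : Set (Subgroup G)} {K L M : Subgroup G} {z t u v g x y s n k a b : G}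

/-- `t_u` -/
noncomputable abbrev tz (Om : Set (Subgroup G)) (u : G) : G := tt (Zs Om) (RZ Om) u

/-- LAMBDA1 -/
structure LOne (Om : Set (Subgroup G)) : Prop extends TC Om where
  sw : ∃ a ∈ Zs Om, ∃ b ∈ Zs Om, CSw (RZ Om) a b

section

variable [Finite G]

theorem as_inn (h : WM Om) (hK : Mem Om z K) (ha : As K g a) (hk : k ∈ K) : g * k * g⁻¹ = k ∨ g * k * g⁻¹ = z * k := by
  rw [ha.2 k hk]
  exact hK.comm_or h hk ha.1

theorem np_of_ti (h : WM Om) (hti : TI Om z x) : NP (RZ Om) z x :=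
  ⟨hti.ne, hti.comm, fun hc => hti.not_cp h ((cp_iff h hti.inZ hti.inT).1 hc)⟩

theorem not_inn_of_ff (h : WM Om) (hx : InZ Om x) (hf : Ff Om x z) : ¬ Inn Om x z := fun hi =>
  hi |> fun hi => by
    obtain ⟨M, hM⟩ := hx
    exact (hf.2 M hM).2 (hi M hM)

theorem not_inn_of_swp (h : WM Om) (hx : InZ Om x) (hs : Swp Om x z) : ¬ Inn Om x z := fun hi => by
  obtain ⟨M, hM⟩ := hx
  exact hs.2 M hM (hi.cj_eq hM h)

namespace LOne

variable (c : LOne Om)

include c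

theorem ex (hu : u ∈ Zs Om) : ∃ v ∈ Zs Om, CSw (RZ Om) u v := by
  obtain ⟨a, ha, b, hb, hs⟩ := c.sw
  exact c.toTC.exists_swap ha hb hs hu

theorem tz_ne (hu : u ∈ Zs Om) : tz Om u ≠ 1 := by
  obtain ⟨v, hv, hs⟩ := c.ex hu
  exact c.toTC.tt_ne hu hv hs

theorem tz_not_mem (hu : u ∈ Zs Om) : tz Om u ∉ Zs Om := by
  obtain ⟨v, hv, hs⟩ := c.ex hu
  exact c.toTC.tt_not_mem hu hv hs

/-- `u t_u ∈ [u]` -/
theorem tw_mul (hu : u ∈ Zs Om) : Tw (Zs Om) (RZ Om) u (u * tz Om u) := by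
  obtain ⟨v, hv, hs⟩ := c.ex hu
  obtain ⟨h1, h2⟩ := c.toTC.tt_prod hu hv hs
  have h3 : u * tz Om u = v * u * v⁻¹ := by
    change u * tt (Zs Om) (RZ Om) u = _
    rw [h1, ← mul_assoc, c.w.wg.sq u hu, one_mul]
  rwa [h3]

theorem ne_mul (hu : u ∈ Zs Om) : u ≠ u * tz Om u := fun h1 => c.tz_ne hu (mul_eq_left.1 h1.symm)

theorem tz_mul (hu : u ∈ Zs Om) : tz Om (u * tz Om u) = tz Om u := c.toTC.tt_tw hu (c.tw_mul hu)

/-- the context of section 2 for `t_u`, `u` -/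
theorem s2t (hu : u ∈ Zs Om) :
    S2 Om (tz Om u) u ∧ ¬ ∀ a ∈ NC (tz Om u) u, ∀ b ∈ NC (tz Om u) u, a * b = b * a := by
  obtain ⟨v, hv, hs⟩ := c.ex hu
  rw [show tz Om u = wt u v from c.toTC.tt_eq hu hv hs]
  exact ⟨c.toTC.s2 hu hv hs, c.toTC.ncab hu hv hs⟩

/-- (6.1) -/
theorem np_tw (hz : z ∈ Zs Om) (hx : x ∈ Zs Om) (hn : NP (RZ Om) z x) (hy : Tw (Zs Om) (RZ Om) z y) :
    NP (RZ Om) y x := by
  have w := c.w.wg
  have hyZ := hy.1
  -- `x ∉ c[z] = c[y]`
  have hcl : x ∉ cl (Zs Om) (RZ Om) y := by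
    rw [← hy.2]
    rintro ⟨-, h1 | h1⟩
    · exact hn.1 h1.symm
    · exact hn.2.2 h1
  have hxz : x * z * x⁻¹ = z := by rw [← hn.2.1, mul_inv_cancel_right]
  have h1 : Tw (Zs Om) (RZ Om) z (x * y * x⁻¹) := by
    have := w.tw_conj hz hy x
    rwa [hxz] at this
  refine ⟨fun h2 => hcl ⟨hx, Or.inl h2.symm⟩, ?_, fun h2 => hcl ⟨hx, Or.inr h2⟩⟩
  by_contra h2
  have h3 : y ≠ x * y * x⁻¹ := by
    intro h3
    apply h2
    rw [eq_mul_inv_iff_mul_eq] at h3
    exact h3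
  have h4 : CSw (RZ Om) y x := Tw.cp hyZ ((hy.symm hz).trans h1) h3
  exact c.toTC.move_ne hyZ hx h4 (hy.symm hz) hxz

/-- `z` not inner on `R_x` : `t_z` does not centralise `R_x` -/
theorem not_cen (hz : z ∈ Zs Om) (hx : x ∈ Zs Om) (hc : z * x = x * z) (hni : ¬ Inn Om x z) :
    ¬ Cen (RZ Om) (tz Om z) x := fun h1 =>
  hni ((c.s2t hz).1.inn (c.s2t hz).2 ⟨hx, h1⟩ self_mem_NC hc)

/-- `t_z` commutes with `C(z)` -/
theorem tz_comm (hz : z ∈ Zs Om) (hg : g * z = z * g) : g * tz Om z = tz Om z * g := c.toTC.tt_comm hz hg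

/-- (2a), first half -/
theorem inn_of_ti (hti : TI Om x z) : Inn Om x (tz Om z) := by
  have h := c.w
  have hz : z ∈ Zs Om := hti.inT
  obtain ⟨t, ht0⟩ : ∃ t, t = tz Om z := ⟨_, rfl⟩
  have ht : ∀ g, g * z = z * g → g * t = t * g := fun g hg => by rw [ht0]; exact c.tz_comm hz hg
  rw [← ht0]
  have hxx := hti.inZ.z2 h
  intro M hM k hk
  obtain ⟨M', hM', hne, -⟩ := hM.other h
  obtain ⟨y, hy, hyy⟩ := hti.exists_as h hM
  obtain ⟨y', hy', hyy'⟩ := hti.exists_as h hM'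
  by_cases hky : y * k = k * y
  · left
    have h1 : z * k * z⁻¹ = k := by rw [hy.2 k hk, hky, mul_inv_cancel_right]
    rw [mul_inv_eq_iff_eq_mul] at h1
    rw [← ht k h1.symm, mul_inv_cancel_right]
  have hkk : k * k = x := by
    rcases hM.sq_cases h hk with h1 | h1 | h1
    · exfalso; apply hky; rw [h1, one_mul, mul_one]
    · exfalso; apply hky; rw [h1, hM.comm_z h hy.1]
    · exact h1
  have hzk : z * k * z⁻¹ = x * k := by
    rw [hy.2 k hk]
    exact hM.anti h hk hkk hy.1 hyy (fun h1 => hky h1.symm)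
  obtain ⟨k', hk', hkk', hyk'⟩ := hM'.exists_nc h hy'.1 hyy'
  have hzk' : z * k' * z⁻¹ = x * k' := by
    rw [hy'.2 k' hk']
    exact hM'.anti h hk' hkk' hy'.1 hyy' (fun h1 => hyk' h1.symm)
  have hkx : k * x = x * k := hM.comm_z h hk
  have hcomm : (k * k') * z = z * (k * k') := by
    have h1 : z * (k * k') * z⁻¹ = k * k' := by
      calc z * (k * k') * z⁻¹ = (z * k * z⁻¹) * (z * k' * z⁻¹) := by group
        _ = (x * k) * (x * k') := by rw [hzk, hzk']
        _ = x * (k * x) * k' := by group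
        _ = (x * x) * (k * k') := by rw [hkx]; group
        _ = k * k' := by rw [hxx, one_mul]
    rw [mul_inv_eq_iff_eq_mul] at h1
    exact h1.symm
  have htk := ht _ hcomm
  have hxt : x * t = t * x := ht x hti.comm
  have hyt : y * t = t * y := ht y hy.comm.symm
  rcases cj_cases h hM hM' hne hxt.symm with ⟨h1, h2⟩ | ⟨h1, -⟩
  swap
  · exfalso
    have h3 : y ∈ M' := by
      have h4 := conj_mem_cj (g := t) hy.1
      rwa [h1, ← hyt, mul_inv_cancel_right] at h4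
    rcases hM.inf hM' h hne hy.1 h3 with h4 | h4
    · rw [h4, one_mul] at hyy; exact hti.inZ.z1 h hyy.symm
    · rw [h4, hxx] at hyy; exact hti.inZ.z1 h hyy.symm
  have m1 : t * k * t⁻¹ ∈ M := by
    have h3 := conj_mem_cj (g := t) hk
    rwa [h1] at h3
  have m2 : t * k' * t⁻¹ ∈ M' := by
    have h3 := conj_mem_cj (g := t) hk'
    rwa [h2] at h3
  have h3 : (t * k * t⁻¹) * (t * k' * t⁻¹) = k * k' := by
    calc (t * k * t⁻¹) * (t * k' * t⁻¹) = t * (k * k') * t⁻¹ := by group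
      _ = k * k' := by rw [← htk, mul_inv_cancel_right]
  have h4 : k⁻¹ * (t * k * t⁻¹) = k' * (t * k' * t⁻¹)⁻¹ := by
    rw [eq_mul_inv_iff_mul_eq, mul_assoc, h3, inv_mul_cancel_left]
  rcases hM.inf hM' h hne (mul_mem (inv_mem hk) m1) (by rw [h4]; exact mul_mem hk' (inv_mem m2)) with h5 | h5
  · left
    rw [inv_mul_eq_one] at h5
    exact h5.symm
  · right
    rw [inv_mul_eq_iff_eq_mul, hkx] at h5
    exact h5

/-- (2a) : `(z, x)` of type I : `t_z` centralises `R_x` -/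
theorem ti_cen (hti : TI Om x z) : Cen (RZ Om) (tz Om z) x := by
  have h := c.w
  have hz : z ∈ Zs Om := hti.inT
  have hx : x ∈ Zs Om := hti.inZ
  have hT := c.tw_mul hz
  have hn : NP (RZ Om) (z * tz Om z) x := c.np_tw hz hx (np_of_ti h (hti.symm h)) hT
  have h1 : TI Om x (z * tz Om z) := by
    rcases Inn.cases (hti.inn.mul (c.inn_of_ti hti) hti.inZ h) h hx hT.1 with h1 | h1 | h1
    · exact absurd h1.symm hn.1
    · exact absurd ((cp_iff h hx hT.1).2 h1).symm hn.2.2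
    · exact h1
  have h2 := tt_II_cx h ((cp_iff h hz hT.1).1 (Tw.cp hz hT (c.ne_mul hz))) hti h1
  rw [← mul_assoc, hti.inT.z2 h, one_mul] at h2
  exact cen_iff'.2 h2

/-- (2b) : `z` interchanges the members over `x` : `t_z` is inner on `R_x` -/
theorem inn_of_swp (hz : z ∈ Zs Om) (hx : x ∈ Zs Om) (hn : NP (RZ Om) z x) (hs : Swp Om x z) :
    Inn Om x (tz Om z) := by
  have h := c.w
  have hzz := c.w.wg.sq z hz
  obtain ⟨t, ht0⟩ : ∃ t, t = tz Om z := ⟨_, rfl⟩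
  have ht : ∀ g, g * z = z * g → g * t = t * g := fun g hg => by rw [ht0]; exact c.tz_comm hz hg
  rw [← ht0]
  obtain ⟨M, hM⟩ : InZ Om x := hx
  have hx : x ∈ Zs Om := ⟨M, hM⟩
  have hM' := hs.mem h hM
  have hall : ∀ g a b, As M g a → As (cj z M) g b → Inn Om x g := by
    intro g a b ha hb N hN k hk
    rcases hM.cases hM' h (hs.ne hM) hN with h1 | h1
    · subst h1; exact as_inn h hM ha hk
    · subst h1; exact as_inn h hM' hb hk
  rcases hs.cent h hzz hM (ht x hs.1.symm).symm (fun k hk => (ht _ (qq_comm hs h hzz hM hk).symm).symm) with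
    ⟨a, -, ha, hb⟩ | ⟨-, a, -, ha, hb⟩
  · exact hall t _ _ ha hb
  exfalso
  have hI : Inn Om x (t * z) := hall _ _ _ ha hb
  have htz : z * t = t * z := ht z rfl
  have hT := c.tw_mul hz
  have hn' := c.np_tw hz hx hn hT
  rw [← ht0] at hT hn'
  have h1 : TI Om x (z * t) := by
    rcases Inn.cases (by rw [htz]; exact hI) h hx hT.1 with h1 | h1 | h1
    · exact absurd h1.symm hn'.1
    · exact absurd ((cp_iff h hx hT.1).2 h1).symm hn'.2.2
    · exact h1
  have h2 := c.ti_cen h1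
  have h3 : tz Om (z * t) = t := by rw [ht0]; exact c.tz_mul hz
  rw [h3] at h2
  exact not_inn_of_swp h hx hs ((Inn.of_CX (cen_iff'.1 h2)).mul_left hI hx h)

/-- (2c) : `z` of type `f` at `x` : `t_z` is inner on `R_x` and commutes with the axes -/
theorem inn_of_ff (hz : z ∈ Zs Om) (hx : x ∈ Zs Om) (hn : NP (RZ Om) z x) (hf : Ff Om x z) :
    Inn Om x (tz Om z) ∧ ∀ M, Mem Om x M → ∀ a, Tr z M a → tz Om z * a = a * tz Om z := by
  have h := c.w
  have hzz := c.w.wg.sq z hz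
  have htz : z * tz Om z = tz Om z * z := c.tz_comm hz rfl
  have hT := c.tw_mul hz
  have hn' := c.np_tw hz hx hn hT
  have htm := c.tz_mul hz
  -- `z t` is of type `f` at `x`
  have hf' : Ff Om x (z * tz Om z) := by
    rcases tri h hx hT.1 hn'.1.symm hn'.2.1.symm with h1 | h1 | ⟨h1, -⟩
    · exact absurd ((cp_iff h hx hT.1).2 h1).symm hn'.2.2
    · exfalso
      have h2 := c.ti_cen h1
      rw [htm] at h2
      exact c.not_cen hz hx hn.2.1 (not_inn_of_ff h hx hf) h2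
    · rcases h1.cases with h2 | h2
      · exfalso
        have h3 := c.inn_of_swp hT.1 hx hn' h2
        rw [htm] at h3
        obtain ⟨M, hM⟩ : InZ Om x := hx
        apply h2.2 M hM
        rw [cj_mul, h3.cj_eq hM h, (hf.2 M hM).1]
      · exact h2
  have key : ∀ M, Mem Om x M → ∀ a, Tr z M a → As M (tz Om z) 1 ∨ As M (tz Om z) a := by
    intro M hM a ha
    obtain ⟨b, hb⟩ := hf'.exists_tr h (c.w.wg.sq _ hT.1) hM
    have hcomm : z * (z * tz Om z) = (z * tz Om z) * z := by rw [mul_assoc, htz]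
    have h1 := Tr.same h hM (hf.2 M hM).1 hcomm hb ha
    have h2 := Tr.mul_cases h hM (hf.2 M hM).1 (hf'.2 M hM).1 ha h1
    rwa [← mul_assoc, hzz, one_mul] at h2
  refine ⟨fun M hM k hk => ?_, fun M hM a ha => ?_⟩
  · obtain ⟨a, ha⟩ := hf.exists_tr h hzz hM
    rcases key M hM a ha with h1 | h1
    · exact as_inn h hM h1 hk
    · exact as_inn h hM h1 hk
  · rcases key M hM a ha with h1 | h1
    · exact As.one_iff.1 h1 a ha.mem
    · exact h1.comm

/-- an N-pair is of type I or outer on both sides -/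
theorem inn_of_out (hz : z ∈ Zs Om) (hx : x ∈ Zs Om) (hn : NP (RZ Om) z x) (ho : Out Om x z) :
    Inn Om x (tz Om z) := by
  rcases ho.cases with h1 | h1
  · exact c.inn_of_swp hz hx hn h1
  · exact (c.inn_of_ff hz hx hn h1).1

/-- (2d), half -/
theorem tz_ff (hz : z ∈ Zs Om) (hx : x ∈ Zs Om) (hn : NP (RZ Om) z x) (hf : Ff Om x z) :
    tz Om (z * x) = tz Om z := by
  have h := c.w
  obtain ⟨M, hM⟩ : InZ Om x := hx
  have hx : x ∈ Zs Om := ⟨M, hM⟩
  obtain ⟨a, ha⟩ := hf.exists_tr h (h.wg.sq z hz) hM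
  have h1 := (c.inn_of_ff hz hx hn hf).2 M hM a ha
  have hax : a * x = x * a := hM.comm_z h ha.mem
  have h2 : a * z * a⁻¹ = z * x := by
    have h3 : z * a * z⁻¹ = x * a := Tr.inv' ha hM h
    rw [mul_inv_eq_iff_eq_mul] at h3 ⊢
    -- `z a = x a z`
    have hxx := hM.inZ.z2 h
    calc a * z = (x * x) * (a * z) := by rw [hxx, one_mul]
      _ = x * (x * a * z) := by group
      _ = x * (z * a) := by rw [h3]
      _ = (x * z) * a := by group
      _ = z * x * a := by rw [hn.2.1]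
  have h3 := c.toTC.tt_conj hz a
  rw [h2] at h3
  change tt (Zs Om) (RZ Om) (z * x) = _
  rw [h3]
  change a * tz Om z * a⁻¹ = tz Om z
  rw [← h1, mul_inv_cancel_right]

/-- (2d) -/
theorem no_ff (hz : z ∈ Zs Om) (hx : x ∈ Zs Om) (hn : NP (RZ Om) z x) (hf : Ff Om x z) (hf' : Ff Om z x) :
    False := by
  have h1 := c.tz_ff hz hx hn hf
  have h2 := c.tz_ff hx hz hn.symm hf'
  rw [← hn.2.1, h1] at h2
  refine c.not_cen hz hx hn.2.1 (not_inn_of_ff c.w hx hf) ?_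
  rw [h2]
  exact c.toTC.tt_cen hx

/-- (2e) -/
theorem no_swp (hz : z ∈ Zs Om) (hx : x ∈ Zs Om) (hn : NP (RZ Om) z x) (hs : Swp Om x z) : False := by
  have h := c.w
  have hzz := c.w.wg.sq z hz
  have hxx := c.w.wg.sq x hx
  have hxi : x⁻¹ = x := inv_eq_of_mul_eq_one_right hxx
  have hzi : z⁻¹ = z := inv_eq_of_mul_eq_one_right hzz
  obtain ⟨t, ht0⟩ : ∃ t, t = tz Om z := ⟨_, rfl⟩
  have ht : ∀ g, g * z = z * g → g * t = t * g := fun g hg => by rw [ht0]; exact c.tz_comm hz hg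
  have htt : t * t = 1 := by rw [ht0]; exact c.toTC.tt_sq hz
  have hxt : x * t = t * x := ht x hs.1.symm
  have hI : Inn Om x t := by rw [ht0]; exact c.inn_of_swp hz hx hn hs
  have hni := not_inn_of_swp h hx hs
  have hnc : t ∉ CX Om x := by
    rw [← cen_iff', ht0]
    exact c.not_cen hz hx hn.2.1 hni
  rw [mem_CX] at hnc
  push Not at hnc
  obtain ⟨M, hM, k, hk, htk⟩ := hnc
  have htk' : t * k * t⁻¹ = x * k := by
    refine (hI M hM k hk).resolve_left fun h1 => htk ?_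
    exact mul_inv_eq_iff_eq_mul.1 h1
  have hkx : k * x = x * k := hM.comm_z h hk
  have hkk : k * k = x := by
    rcases hM.sq_cases h hk with h1 | h1 | h1
    · exfalso; apply htk; rw [h1, one_mul, mul_one]
    · exfalso; apply htk; rw [h1, hxt]
    · exact h1
  have hM' := hs.mem h hM
  have hk' : z * k * z⁻¹ ∈ cj z M := conj_mem_cj hk
  obtain ⟨k', hk'0⟩ : ∃ k', k' = z * k * z⁻¹ := ⟨_, rfl⟩
  rw [← hk'0] at hk'
  have hkk' : k * k' = k' * k := hM.comm hM' h (hs.ne hM) hk hk'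
  have hk'2 : k' * k' = x := by
    calc k' * k' = z * (k * k) * z⁻¹ := by rw [hk'0]; group
      _ = x := by rw [hkk, hs.1, mul_inv_cancel_right]
  -- `z2`
  obtain ⟨z2, hz2⟩ : ∃ z2, z2 = k * z * k⁻¹ := ⟨_, rfl⟩
  have hz2Z : z2 ∈ Zs Om := by rw [hz2]; exact h.wg.conjZ z hz k
  have hcomm : z * z2 = z2 * z := by
    have e1 : z * z2 = k' * k⁻¹ := by
      rw [hz2, hk'0]
      calc z * (k * z * k⁻¹) = z * k * z * k⁻¹ := by group
        _ = z * k * z⁻¹ * k⁻¹ := by rw [hzi]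
    have e2 : z2 * z = k * k'⁻¹ := by
      rw [hz2, hk'0]
      calc k * z * k⁻¹ * z = k * (z * k⁻¹ * z) := by group
        _ = k * (z * k⁻¹ * z⁻¹) := by rw [hzi]
        _ = k * (z * k * z⁻¹)⁻¹ := by group
    rw [e1, e2, mul_inv_eq_iff_eq_mul, mul_assoc]
    have e3 : k'⁻¹ * k = k * k'⁻¹ := by
      rw [inv_mul_eq_iff_eq_mul, ← mul_assoc, ← hkk', mul_inv_cancel_right]
    rw [e3, ← mul_assoc, hkk, ← hk'2, mul_inv_cancel_right]
  have hkt : k * t * k⁻¹ = x * t := by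
    rw [mul_inv_eq_iff_eq_mul] at htk' ⊢
    calc k * t = (x * x) * (k * t) := by rw [hxx, one_mul]
      _ = x * (x * k * t) := by group
      _ = x * (t * k) := by rw [htk']
      _ = x * t * k := by group
  have ht2 : tz Om z2 = x * t := by
    have h1 := c.toTC.tt_conj hz k
    change tz Om (k * z * k⁻¹) = k * tz Om z * k⁻¹ at h1
    rw [hz2, h1, ← ht0, hkt]
  have htne : tz Om z2 ≠ tz Om z := by
    rw [ht2, ← ht0]
    intro h1
    exact h.wg.ne x hx (mul_eq_right.1 h1)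
  have hne : z ≠ z2 := fun h1 => htne (by rw [← h1])
  -- `x = t_z t_{z2}`
  have hprod : tz Om z * tz Om z2 = x := by
    rw [ht2, ← ht0, hxt, ← mul_assoc, htt, one_mul]
  -- `x` is not C, not type I with `z2`
  have hkinv : k⁻¹ * z2 * k⁻¹⁻¹ = z := by rw [hz2]; group
  have hkx' : k⁻¹ * x * k⁻¹⁻¹ = x := by
    rw [inv_inv, mul_assoc, ← hkx, ← mul_assoc, inv_mul_cancel, one_mul]
  have hz2x : z2 ≠ x := by
    intro h1
    apply hn.1
    rw [← hkinv, h1, hkx']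
  have hncp : ¬ ROne.CP (RZ Om) z2 x := by
    intro h1
    have h2 := h.wg.cp_conj hz2Z hx h1 k⁻¹
    rw [hkinv, hkx'] at h2
    exact hn.2.2 h2
  have hend : Cen (RZ Om) (tz Om z) z2 → False := by
    intro h1
    have h2 := h1.mul (c.toTC.tt_cen hz2Z)
    change Cen (RZ Om) (tz Om z * tz Om z2) z2 at h2
    rw [hprod] at h2
    rcases (h.wg.cen_iff hz2Z hx).1 h2 with h3 | h3
    · exact hz2x h3
    · exact hncp h3
  rcases tri h hz hz2Z hne hcomm with h1 | h1 | ⟨-, h1⟩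
  · -- a C-pair
    have h1' := (cp_iff h hz hz2Z).2 h1
    apply hend
    refine c.toTC.tt_cen_of hz fun y hy => ?_
    have hyz : z2 ≠ y := by
      rintro rfl
      exact htne (c.toTC.tt_tw hz hy)
    exact h.wg.cen_of_cp hy.1 (Tw.cp_of hy hz2Z h1' hyz).symm
  · -- type I
    exact hend (c.ti_cen (h1.symm h))
  · -- `Out Om z2 z`
    have hn2 : NP (RZ Om) z z2 := ⟨hne, hcomm, fun h2 => h1.not_cp h hz2Z hz ((cp_iff h hz hz2Z).1 h2).symm⟩
    have h2 : Inn Om z2 (tz Om z) := c.inn_of_out hz hz2Z hn2 h1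
    have h3 : Inn Om z2 x := by
      have h4 := h2.mul (Inn.of_CX (cen_iff'.1 (c.toTC.tt_cen hz2Z))) hz2Z h
      change Inn Om z2 (tz Om z * tz Om z2) at h4
      rwa [hprod] at h4
    rcases Inn.cases h3 h hz2Z hx with h4 | h4 | h4
    · exact hz2x h4
    · exact hncp ((cp_iff h hz2Z hx).2 h4)
    · have h5 := h4.conj h k⁻¹
      rw [hkinv, hkx'] at h5
      exact hni (h5.symm h).inn

/-- **N-pairs are of type I** -/
theorem ti_of_np (hz : z ∈ Zs Om) (hx : x ∈ Zs Om) (hn : NP (RZ Om) z x) : TI Om z x := by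
  have h := c.w
  rcases tri h hz hx hn.1 hn.2.1 with h1 | h1 | ⟨h1, h2⟩
  · exact absurd ((cp_iff h hz hx).2 h1) hn.2.2
  · exact h1
  · exfalso
    rcases h1.cases with h3 | h3
    · exact c.no_swp hx hz hn.symm h3
    · rcases h2.cases with h4 | h4
      · exact c.no_swp hz hx hn h4
      · exact c.no_ff hz hx hn h4 h3

/-- half of `tz_np` -/
theorem tz_ti (hti : TI Om z x) : tz Om (z * x) = tz Om z := by
  have h := c.w
  obtain ⟨L, hL⟩ := hti.inT
  obtain ⟨y, hy, hyy⟩ := (hti.symm h).exists_as h hL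
  obtain ⟨u, hu, huu, hyu⟩ := hL.exists_nc h hy.1 hyy
  have h1 := hti.conj_z h hL hy hu huu hyu
  have h2 := c.toTC.tt_conj hti.inZ u
  rw [h1] at h2
  have h3 := c.ti_cen (hti.symm h) u (hL.le_RZ hu)
  change tt (Zs Om) (RZ Om) (z * x) = _
  rw [h2]
  change u * tz Om z * u⁻¹ = tz Om z
  rw [← h3, mul_inv_cancel_right]

/-- **`t` is constant on N-pairs** -/
theorem tz_np (hz : z ∈ Zs Om) (hx : x ∈ Zs Om) (hn : NP (RZ Om) z x) : tz Om z = tz Om x := by
  have hti := c.ti_of_np hz hx hn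
  rw [← c.tz_ti hti, ← c.tz_ti (hti.symm c.w), hti.comm]

/-! ### The input of the graph argument -/

/-- **the input of sections 8, 9** -/
theorem gd : GD (Zs Om) (RZ Om) where
  w := c.w.ws
  np z hz u hu hn := by
    have h1 := (c.ti_of_np hz hu hn).mul_right c.w
    exact ⟨h1.inT, np_of_ti c.w h1⟩
  two_four s hs y hy x hx h1 h2 := by
    obtain ⟨hs1, S, hS⟩ := hs
    exact c.w.nc_in_or (an_of_tt c.w c.an S hS hs1) ⟨hy, h1⟩ ⟨hx, h2⟩
  two_five s hs y hy h1 n hn := by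
    obtain ⟨hs1, S, hS⟩ := hs
    by_cases h2 : n * y * n⁻¹ = y
    · exact Or.inl h2
    · exact Or.inr (c.w.nc_csw (an_of_tt c.w c.an S hS hs1) ⟨hy, h1⟩ hn h2)
  twin u hu v hv hs := c.toTC.twin hu hv hs
  five_eight u hu v hv hs := by
    rw [← c.toTC.tt_eq hu hv hs]
    exact c.toTC.tt_not_mem hu hv hs

theorem wone : WOne (Zs Om) (RZ Om) (fun z => zpowers (tz Om z)) where
  eqv z hz g := by
    change zpowers (tt (Zs Om) (RZ Om) (g * z * g⁻¹)) = cj g (zpowers (tz Om z))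
    rw [c.toTC.tt_conj hz g, cj_def, MonoidHom.map_zpowers]
    rfl
  ne z hz h1 := c.tz_ne hz (zpowers_eq_bot.1 h1)
  le z hz := by
    obtain ⟨v, hv, hs⟩ := c.ex hz
    obtain ⟨h1, h2⟩ := c.toTC.tt_prod hz hv hs
    rw [zpowers_le]
    change tt (Zs Om) (RZ Om) z ∈ _
    rw [h1]
    exact mul_mem (subset_closure (Tw.refl hz)) (subset_closure h2)
  np z hz x hx hn := by rw [c.tz_np hz hx hn]
  tw z hz x hx := by
    change zpowers (tt (Zs Om) (RZ Om) z) = zpowers (tt (Zs Om) (RZ Om) x)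
    rw [c.toTC.tt_tw hz hx]
  sw z hz x hx hs := by
    change zpowers (tt (Zs Om) (RZ Om) z) = zpowers (tt (Zs Om) (RZ Om) x)
    rw [c.toTC.tt_swap hz hx hs]

end LOne

end

end Cfsg.Agent.Cit.Nil.RTwoM.L1
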