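import Cfsg.Agent.Cit.Nil.RTwoM.L1.SwapW
import Cfsg.Agent.Cit.Nil.RTwoM.L1.GraphC
import Cfsg.Agent.Cit.Nil.ROne.TauIn

/-!
# S1309, (6b), `r = 2`: twins, (5.1) - (5.5) of helper545's text with (R+) (helper599, helper762)

* `RR Om z u` : (R+)(z,u): the elements of `C(R_z) ∩ C(u)` act on `R_u` as inner automorphisms (`Inn Om u g`);
* `ClS Om` : CLAIM S;
* `no_swap`, `comm_of_RR` (5.1); `CP_of_RR`, `cl_eq_of_RR` (5.2); `tw_of_RR` (5.3); `CS_of_tw` : `[z] ≤ C_S`;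
* `RR_of_swap`, `tw_of_swap` (5.5).
-/

set_option autoImplicit false
set_option linter.style.haveILetI false
set_option linter.unusedSectionVars false

namespace Cfsg.Agent.Cit.Nil.RTwoM.L1

open Subgroup Cfsg Cfsg.Agent.Cit
open ROne (CSw Cen NC cl Tw wt self_mem_NC conj_mem_NC OneCls CS TT)

variable {G : Type*} [Group G] {Om : Set (Subgroup G)} {K L M : Subgroup G} {z t u v g x y s n k a b : G}

/-- (R+)(z,u) -/
def RR (Om : Set (Subgroup G)) (z u : G) : Prop := ∀ g, g ∈ CX Om z → g * u = u * g → Inn Om u g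

/-- CLAIM S -/
def ClS (Om : Set (Subgroup G)) : Prop := ∀ u v M N, Mem Om u M → Mem Om v N → CSw (RZ Om) u v →
  ∀ f : ↥(M ⊔ N) →* ℤˣ, ∀ (x : G) (hx : x ∈ M), f ⟨x, mem_sup_left hx⟩ = 1

section

variable [Finite G]

theorem le_CX_of_cp (hc : ROne.CP (RZ Om) z u) (hM : Mem Om u M) : M ≤ CX Om z := by
  intro k hk
  rw [mem_CX]
  intro K hK a ha
  exact (hc.2 a (hK.le_RZ ha) k (hM.le_RZ hk)).symm

/-- **(5.1)** -/
theorem no_swap (h : WM Om) (cS : ClS Om) (hzu : ROne.CP (RZ Om) z u) (R : RR Om z u) (hu : u ∈ Zs Om)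
    (hv : v ∈ Zs Om) (hzv : ROne.CP (RZ Om) z v) (hs : CSw (RZ Om) u v) : False := by
  obtain ⟨M, hM⟩ : InZ Om u := hu
  obtain ⟨N, hN⟩ : InZ Om v := hv
  obtain ⟨q, hq⟩ := h.exists_q3 hM
  have hy : q 0 ∈ M := hq.mem 0
  have hyy : q 0 * q 0 = u := hq.sq 0
  have huu : u * u = 1 := hM.inZ.z2 h
  have hu1 : u ≠ 1 := hM.inZ.z1 h
  have hy4 : orderOf (q 0) = 4 := by
    have h1 : ¬ q 0 ^ 2 ^ 1 = 1 := by rw [pow_one, pow_two, hyy]; exact hu1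
    have h2 : q 0 ^ 2 ^ (1 + 1) = 1 := by
      have : q 0 ^ 2 ^ (1 + 1) = (q 0 * q 0) * (q 0 * q 0) := by
        rw [show (2 : ℕ) ^ (1 + 1) = 2 + 2 from rfl, pow_add, pow_two]
      rw [this, hyy, huu]
    exact orderOf_eq_prime_pow h1 h2
  obtain ⟨f, hf⟩ := Cit.ROne.tau_in h.hyp hM.1 (h.card M hM.1) (le_CX_of_cp hzu hM) hy hy4 (by
    intro g hgD hgN
    have hgu : g * u = u * g := hM.of_cj h (mem_normalizer_iff_cj.1 hgN)
    have h1 := R g hgD hgu M hM (q 0) hy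
    rw [mem_normalizer_iff_cj, cj_def, MonoidHom.map_zpowers]
    have e : (MulAut.conj g).toMonoidHom (q 0) = g * q 0 * g⁻¹ := rfl
    rw [e]
    rcases h1 with h1 | h1
    · rw [h1]
    · rw [h1, ← hM.inv_eq h hy hyy, zpowers_inv])
  have hle : M ⊔ N ≤ CX Om z := sup_le (le_CX_of_cp hzu hM) (le_CX_of_cp hzv hN)
  have h1 := cS u v M N hM hN hs (f.comp (Subgroup.inclusion hle))
  have h2 : M ≤ zpowers (q 0) := by
    intro x hx
    rw [← hf x hx]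
    exact h1 x hx
  have h3 := Subgroup.card_le_of_le h2
  rw [h.card M hM.1, Nat.card_zpowers, hy4] at h3
  omega

/-- **(5.1)** : the C-partners of `z` commute with `u` -/
theorem comm_of_RR (h : WM Om) (cS : ClS Om) (an : ANs Om z) (hz : z ∈ Zs Om) (hu : u ∈ Zs Om)
    (hzu : ROne.CP (RZ Om) z u) (R : RR Om z u) (hx : x ∈ Zs Om) (hzx : ROne.CP (RZ Om) z x) : x * u = u * x := by
  have c : S2 Om z u := ⟨h, an, hu, h.wg.cen_of_cp hz hzu.symm⟩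
  have hx' : x ∈ ZS Om z := ⟨hx, h.wg.cen_of_cp hz hzx.symm⟩
  by_contra hne
  have hxN := c.mem_of_ne hx' self_mem_NC hne
  have hnc : ¬ ∀ a ∈ NC z u, ∀ b ∈ NC z u, a * b = b * a := fun h1 => hne (h1 x hxN u self_mem_NC)
  obtain ⟨g, hg, hgy⟩ := c.exists_nc hnc
  have hx'Z : g * u * g⁻¹ ∈ Zs Om := h.wg.conjZ u hu g
  have hcs : CSw (RZ Om) u (g * u * g⁻¹) := c.csw (conj_mem_NC hg) (by rwa [Ne, mul_inv_eq_iff_eq_mul])
  have hzx' : ROne.CP (RZ Om) z (g * u * g⁻¹) := by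
    have := h.wg.cp_conj hz hu hzu g
    rwa [hg, mul_inv_cancel_right] at this
  exact no_swap h cS hzu R hu hx'Z hzx' hcs

/-- an element of `L`, over the type I partner `x` of `u`, which commutes with `u` and is not inner on `R_u` -/
theorem _root_.Cfsg.Agent.Cit.Nil.RTwoM.TI.exists_out (hti : TI Om u x) (h : WM Om) (hL : Mem Om x L) :
    ∃ b ∈ L, b * u = u * b ∧ ¬ Inn Om u b := by
  obtain ⟨M, hM⟩ := hti.inZ
  obtain ⟨y, hy, hyy⟩ := hti.exists_as h hM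
  obtain ⟨b, hb, hbb⟩ := (hti.symm h).exists_as h hL
  refine ⟨b, hb.1, hb.comm.symm, fun hI => ?_⟩
  obtain ⟨v, hv, hvv, hyv⟩ := hM.exists_nc h hy.1 hyy
  have huu : u * u = 1 := hM.inZ.z2 h
  have hu1 : u ≠ 1 := hM.inZ.z1 h
  have y1 : y ≠ 1 := by rintro rfl; rw [one_mul] at hyy; exact hu1 hyy.symm
  have yu : y ≠ u := by rintro rfl; rw [huu] at hyy; exact hu1 hyy.symm
  rcases ((hti.symm h).rot h hL hM hb hy).2.2 v hv hvv hyv with h1 | h1 <;> rcases hI M hM v hv with h2 | h2 <;>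
    rw [h1] at h2
  · exact y1 (mul_eq_right.1 h2)
  · exact yu (mul_right_cancel h2)
  · rw [← mul_assoc] at h2
    have h3 := mul_eq_right.1 h2
    apply yu
    calc y = u * (u * y) := by rw [← mul_assoc, huu, one_mul]
      _ = u := by rw [h3, mul_one]
  · exact y1 (mul_eq_right.1 (mul_left_cancel h2))

/-- **(5.2)** -/
theorem CP_of_RR (h : WM Om) (cS : ClS Om) (an : ANs Om z) (hz : z ∈ Zs Om) (hu : u ∈ Zs Om)
    (hzu : ROne.CP (RZ Om) z u) (R : RR Om z u) (hx : x ∈ Zs Om) (hzx : ROne.CP (RZ Om) z x) (hxu : x ≠ u) :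
    ROne.CP (RZ Om) u x := by
  have hc := comm_of_RR h cS an hz hu hzu R hx hzx
  have hxD : x ∈ CX Om z := cen_iff'.1 (h.wg.cen_of_cp hx hzx)
  rcases Inn.cases (R x hxD hc) h hu hx with h1 | h1 | h1
  · exact absurd h1.symm hxu
  · exact (cp_iff h hu hx).2 h1
  · exfalso
    obtain ⟨L, hL⟩ : InZ Om x := hx
    obtain ⟨b, hb, hbu, hbn⟩ := h1.exists_out h hL
    exact hbn (R b (le_CX_of_cp hzx hL hb) hbu)

/-- **(5.2)** : `(R+)(z,u)` implies `c[z] = c[u]` -/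
theorem cl_eq_of_RR (h : WM Om) (cS : ClS Om) (hone : OneCls (Zs Om)) (an : ANs Om z) (hz : z ∈ Zs Om)
    (hu : u ∈ Zs Om) (hzu : ROne.CP (RZ Om) z u) (R : RR Om z u) : cl (Zs Om) (RZ Om) z = cl (Zs Om) (RZ Om) u := by
  have h1 : cl (Zs Om) (RZ Om) z ⊆ cl (Zs Om) (RZ Om) u := by
    rintro x ⟨hx, h1 | h1⟩
    · refine ⟨hx, Or.inr ?_⟩
      rw [h1]; exact hzu.symm
    · by_cases h2 : x = u
      · exact ⟨hx, Or.inl h2⟩
      · exact ⟨hx, Or.inr (CP_of_RR h cS an hz hu hzu R hx h1 h2)⟩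
  refine Set.eq_of_subset_of_ncard_le h1 ?_ (Set.toFinite _)
  obtain ⟨g, hg⟩ := hone z hz u hu
  have h2 : cl (Zs Om) (RZ Om) u = (fun x => g * x * g⁻¹) '' cl (Zs Om) (RZ Om) z := by
    rw [← hg]
    ext y
    constructor
    · intro hy
      refine ⟨g⁻¹ * y * g, ?_, by group⟩
      rw [← h.wg.mem_cl_conj hz g]
      have e : g * (g⁻¹ * y * g) * g⁻¹ = y := by group
      rw [e]; exact hy
    · rintro ⟨x, hx, rfl⟩
      exact (h.wg.mem_cl_conj hz g).2 hx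
  rw [h2]
  exact Set.ncard_image_le (Set.toFinite _)

/-- **(5.3)** : `(R+)(z,u)` implies `u ∈ [z]` -/
theorem tw_of_RR (h : WM Om) (cS : ClS Om) (hone : OneCls (Zs Om)) (an : ANs Om z) (hz : z ∈ Zs Om)
    (hu : u ∈ Zs Om) (hzu : ROne.CP (RZ Om) z u) (R : RR Om z u) : Tw (Zs Om) (RZ Om) z u :=
  ⟨hu, cl_eq_of_RR h cS hone an hz hu hzu R⟩

/-- `[z] ≤ C_S` -/
theorem CS_of_tw (h : WM Om) (S : Sylow 2 G) (hz : z ∈ CS (Zs Om) (RZ Om) (S : Subgroup G))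
    (hu : Tw (Zs Om) (RZ Om) z u) : u ∈ CS (Zs Om) (RZ Om) (S : Subgroup G) := by
  refine h.wg.mem_CS_of_clique S hu.1 fun x hx => ?_
  by_cases hxu : x = u
  · exact Or.inl hxu
  right
  by_cases hxz : x = z
  · rw [hxz] at hxu ⊢
    exact Tw.cp hz.1 hu hxu
  · exact (Tw.cp_of hu hx.1 (h.wg.com hz.1 hx.1 S.isPGroup' hz.2 hx.2 (Ne.symm hxz)) hxu).symm

/-- AN(w) for a C-swap -/
theorem an_wt (h : WM Om) (ha : ANT Om) (hu : u ∈ Zs Om) (hv : v ∈ Zs Om) (hs : CSw (RZ Om) u v) :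
    ANs Om (wt u v) := by
  obtain ⟨S, -, -, h1⟩ := h.ws.wt_mem_TT hu hv hs
  exact an_of_tt h ha S h1 (h.wg.wt_ne hu hv hs)

theorem an_z (h : WM Om) (ha : ANT Om) (hz : z ∈ Zs Om) : ANs Om z := by
  obtain ⟨S, hS⟩ := h.wg.exists_sylow hz
  exact an_of_tt h ha S (subset_closure hS) (h.wg.ne z hz)

/-- the context of section 2 for a C-swap -/
theorem s2_of_swap (h : WM Om) (an : ANs Om (wt u v)) (hu : u ∈ Zs Om) (hv : v ∈ Zs Om) (hs : CSw (RZ Om) u v) :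
    S2 Om (wt u v) u ∧ v ∈ NC (wt u v) u ∧ ¬ ∀ a ∈ NC (wt u v) u, ∀ b ∈ NC (wt u v) u, a * b = b * a := by
  have c : S2 Om (wt u v) u := ⟨h, an, hu, h.ws.wt_cen_u hu hv hs⟩
  have hne : v * u ≠ u * v := (h.ws.csw_not_comm hu hv hs).symm
  have hvN : v ∈ NC (wt u v) u := c.mem_of_ne ⟨hv, h.ws.wt_cen_v hu hv hs⟩ self_mem_NC hne
  exact ⟨c, hvN, fun h1 => hne (h1 v hvN u self_mem_NC)⟩

/-- **(5.5)** -/
theorem RR_of_swap (h : WM Om) (an : ANs Om (wt u v)) (hu : u ∈ Zs Om) (hv : v ∈ Zs Om) (hs : CSw (RZ Om) u v) :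
    RR Om u (v * u * v⁻¹) := by
  obtain ⟨c, hvN, hnc⟩ := s2_of_swap h an hu hv hs
  have hu' := h.wg.conjZ u hu v
  have hwu : wt u v * u = u * wt u v := h.wg.wt_comm_u hu hv hs
  have hwv : wt u v * v = v * wt u v := h.wg.wt_comm_v hu hv hs
  have hwu' : Cen (RZ Om) (wt u v) (v * u * v⁻¹) := h.ws.wt_cen_u' hu hv hs
  intro g hg hgu'
  have hgu : g * u = u * g := CX_comm (h.wg.mem u hu) hg
  have hgw : g * wt u v = wt u v * g := by
    unfold wt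
    rw [← mul_assoc, hgu, mul_assoc, hgu', ← mul_assoc]
  -- `g` acts on `R_u'` as `n`
  obtain ⟨n, hn⟩ : ∃ n, n = g * v * g⁻¹ * v⁻¹ := ⟨_, rfl⟩
  have hnN : n ∈ NC (wt u v) u := by
    rw [hn]
    exact mul_mem (ROne.mem_NC_conj hgw hvN) (inv_mem hvN)
  have hact : ∀ M, Mem Om (v * u * v⁻¹) M → ∀ x ∈ M, g * x * g⁻¹ = n * x * n⁻¹ := by
    intro M hM x hx
    have h1 : g * (v⁻¹ * x * v) = (v⁻¹ * x * v) * g := by
      refine CX_comm ?_ hg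
      have h2 := (hM.cj h v⁻¹).le_RZ (conj_mem_cj (g := v⁻¹) hx)
      rwa [inv_inv, show v⁻¹ * (v * u * v⁻¹) * v = u by group] at h2
    have h2 : g * (v⁻¹ * x * v) * g⁻¹ = v⁻¹ * x * v := by rw [h1, mul_inv_cancel_right]
    symm
    calc n * x * n⁻¹ = g * v * g⁻¹ * (v⁻¹ * x * v) * (g * v * g⁻¹)⁻¹ := by rw [hn]; group
      _ = g * v * g⁻¹ * (g * (v⁻¹ * x * v) * g⁻¹) * (g * v * g⁻¹)⁻¹ := by rw [h2]
      _ = g * x * g⁻¹ := by group
  have hnu' : n * (v * u * v⁻¹) = v * u * v⁻¹ * n := by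
    obtain ⟨M, hM⟩ : InZ Om (v * u * v⁻¹) := hu'
    have h1 := hact M hM _ (hM.zmem h)
    rw [hgu', mul_inv_cancel_right] at h1
    exact (eq_mul_inv_iff_mul_eq.1 h1).symm
  intro M hM k hk
  rw [hact M hM k hk]
  exact c.inn hnc ⟨hu', hwu'⟩ hnN hnu' M hM k hk

/-- **(5.5)** : `u' = v u v⁻¹ ∈ [u]` for a C-swap `(u, v)` -/
theorem tw_of_swap (h : WM Om) (cS : ClS Om) (hone : OneCls (Zs Om)) (ha : ANT Om) (hu : u ∈ Zs Om)
    (hv : v ∈ Zs Om) (hs : CSw (RZ Om) u v) : Tw (Zs Om) (RZ Om) u (v * u * v⁻¹) :=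
  tw_of_RR h cS hone (an_z h ha hu) hu (h.wg.conjZ u hu v) hs (RR_of_swap h (an_wt h ha hu hv hs) hu hv hs)

end

end Cfsg.Agent.Cit.Nil.RTwoM.L1
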