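import Cfsg.Agent.Cit.Nil.RTwoM.L1.TwinA
import Cfsg.Agent.Cit.Nil.ROne.TwinB

/-!
# S1309, (6b), `r = 2`: (5.6), (5.7), (5.8) of helper545's text, the involutions `t_u`

`TC Om` : `WM Om`, AN, one class, CLAIM S. `ROne.tt (Zs Om) (RZ Om) u` is the common value of the `w(u, v)`.

* `TC.move` (5.6): `(u, v)` a C-swap, `y ∈ [u]`: `(y, v)` is a C-swap, `w(y, v) = w(u, v)`, `v y v⁻¹ = y w(u, v)`;
* `TC.wt_eq` (5.7): `w(u, v)` depends on `u` only;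
* `TC.tt_conj`, `tt_comm`, `tt_tw`, `tt_swap`, `tt_cen`, `tt_cen_of`, `tt_ne`, `tt_sq`, `tt_prod`;
* `TC.tt_not_mem` (5.8): `t_u ∉ Z`.
-/

set_option autoImplicit false
set_option linter.style.haveILetI false
set_option linter.unusedSectionVars false

namespace Cfsg.Agent.Cit.Nil.RTwoM.L1

open Subgroup Cfsg Cfsg.Agent.Cit
open ROne (CSw Cen NC cl Tw wt self_mem_NC conj_mem_NC OneCls CS TT tt tt_of_not)

variable {G : Type*} [Group G] {Om : Set (Subgroup G)} {K L M : Subgroup G} {z t u v g x y s n k a b : G}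

/-- the context of section 5 -/
structure TC (Om : Set (Subgroup G)) : Prop where
  w : WM Om
  an : ANT Om
  one : OneCls (Zs Om)
  cS : ClS Om

section

variable [Finite G]

theorem csw_ne_conj (hs : CSw (RZ Om) u v) : v * u * v⁻¹ ≠ u := fun h1 => hs.1 h1.symm

/-- `v u v⁻¹ = u w(u, v)` -/
theorem conj_eq (h : WM Om) (hu : u ∈ Zs Om) : v * u * v⁻¹ = u * wt u v := by
  unfold wt
  rw [← mul_assoc, h.wg.sq u hu, one_mul]

/-- `g` commutes with `z` if it centralises `R_z` -/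
theorem cen_comm (h : WM Om) (hz : z ∈ Zs Om) (hc : Cen (RZ Om) g z) : g * z = z * g := hc z (h.wg.mem z hz)

theorem cen_self (h : WM Om) (hu : u ∈ Zs Om) : Cen (RZ Om) u u := fun _ hk => (h.wg.cent hu hk).symm

/-- `R_y` commutes with the twins of `y` -/
theorem tw_cen (h : WM Om) (hz : z ∈ Zs Om) (hu : Tw (Zs Om) (RZ Om) z u) (hy : Tw (Zs Om) (RZ Om) z y) :
    Cen (RZ Om) u y := by
  by_cases h1 : y = u
  · rw [h1]; exact cen_self h hu.1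
  · exact h.wg.cen_of_cp hu.1 (Tw.cp hy.1 ((hy.symm hz).trans hu) h1)

namespace TC

variable (c : TC Om)

include c

theorem twin (hu : u ∈ Zs Om) (hv : v ∈ Zs Om) (hs : CSw (RZ Om) u v) : Tw (Zs Om) (RZ Om) u (v * u * v⁻¹) :=
  tw_of_swap c.w c.cS c.one c.an hu hv hs

theorem symm (hu : u ∈ Zs Om) (hv : v ∈ Zs Om) (hs : CSw (RZ Om) u v) : CSw (RZ Om) v u := c.w.ws.csw_symm hu hv hs

theorem wt_symm (hu : u ∈ Zs Om) (hv : v ∈ Zs Om) (hs : CSw (RZ Om) u v) : wt v u = wt u v :=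
  c.w.ws.wt_symm hu hv hs

theorem anw (hu : u ∈ Zs Om) (hv : v ∈ Zs Om) (hs : CSw (RZ Om) u v) : ANs Om (wt u v) := an_wt c.w c.an hu hv hs

theorem s2 (hu : u ∈ Zs Om) (hv : v ∈ Zs Om) (hs : CSw (RZ Om) u v) : S2 Om (wt u v) u :=
  (s2_of_swap c.w (c.anw hu hv hs) hu hv hs).1

/-- `v ∈ ⟨u ^ C(w)⟩` -/
theorem right_mem (hu : u ∈ Zs Om) (hv : v ∈ Zs Om) (hs : CSw (RZ Om) u v) : v ∈ NC (wt u v) u :=
  (s2_of_swap c.w (c.anw hu hv hs) hu hv hs).2.1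

theorem ncab (hu : u ∈ Zs Om) (hv : v ∈ Zs Om) (hs : CSw (RZ Om) u v) :
    ¬ ∀ a ∈ NC (wt u v) u, ∀ b ∈ NC (wt u v) u, a * b = b * a := (s2_of_swap c.w (c.anw hu hv hs) hu hv hs).2.2

theorem mem_or (hu : u ∈ Zs Om) (hv : v ∈ Zs Om) (hs : CSw (RZ Om) u v) (hx : x ∈ Zs Om)
    (hc : Cen (RZ Om) (wt u v) x) : x ∈ NC (wt u v) u ∨ ∀ n ∈ NC (wt u v) u, Cen (RZ Om) n x :=
  c.w.nc_in_or (c.anw hu hv hs) (c.s2 hu hv hs).mem ⟨hx, hc⟩

theorem act (hu : u ∈ Zs Om) (hv : v ∈ Zs Om) (hs : CSw (RZ Om) u v) (hn : n ∈ NC (wt u v) u) :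
    n * u * n⁻¹ = u ∨ n * u * n⁻¹ = u * wt u v := by
  by_cases h1 : n * u * n⁻¹ = u
  · exact Or.inl h1
  right
  rw [c.w.nc_uniq (c.anw hu hv hs) (c.s2 hu hv hs).mem hn (c.right_mem hu hv hs) h1 (csw_ne_conj hs), conj_eq c.w hu]

theorem cent (hu : u ∈ Zs Om) (hv : v ∈ Zs Om) (hs : CSw (RZ Om) u v) (hn : n ∈ NC (wt u v) u)
    (hc : ∀ m ∈ NC (wt u v) u, n * m = m * n) : Cen (RZ Om) n u :=
  c.w.nc_centre' (c.anw hu hv hs) (c.s2 hu hv hs).mem (c.ncab hu hv hs) hn hc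

theorem inn (hu : u ∈ Zs Om) (hv : v ∈ Zs Om) (hs : CSw (RZ Om) u v) (hx : x ∈ Zs Om)
    (hc : Cen (RZ Om) (wt u v) x) (hn : n ∈ NC (wt u v) u) (hnx : n * x = x * n) : Inn Om x n :=
  (c.s2 hu hv hs).inn (c.ncab hu hv hs) ⟨hx, hc⟩ hn hnx

/-- (3.3) -/
theorem tri {p q v' : G} (hp : p ∈ Zs Om) (hq : q ∈ Zs Om) (hpq : CSw (RZ Om) p q) (hu : u ∈ Zs Om)
    (hv : v ∈ Zs Om) (hv' : v' ∈ Zs Om) (hs : CSw (RZ Om) u v) (hs' : CSw (RZ Om) u v')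
    (h1 : Cen (RZ Om) (wt p q) u) (h2 : Cen (RZ Om) (wt p q) v) (h3 : Cen (RZ Om) (wt p q) v') :
    wt u v = wt u v' :=
  S2.wt_unique ⟨c.w, c.anw hp hq hpq, hu, h1⟩ ⟨hv, h2⟩ ⟨hv', h3⟩ (c.w.ws.csw_not_comm hu hv hs).symm
    (c.w.ws.csw_not_comm hu hv' hs').symm

theorem wt_cen_left (hu : u ∈ Zs Om) (hv : v ∈ Zs Om) (hs : CSw (RZ Om) u v) : Cen (RZ Om) (wt u v) u :=
  c.w.ws.wt_cen_u hu hv hs

theorem wt_cen_right (hu : u ∈ Zs Om) (hv : v ∈ Zs Om) (hs : CSw (RZ Om) u v) : Cen (RZ Om) (wt u v) v :=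
  c.w.ws.wt_cen_v hu hv hs

/-- `⟨u ^ C(w)⟩ = ⟨v ^ C(w)⟩` -/
theorem NC_eq (hu : u ∈ Zs Om) (hv : v ∈ Zs Om) (hs : CSw (RZ Om) u v) : NC (wt u v) v = NC (wt u v) u := by
  apply le_antisymm
  · exact ROne.NC_le_NC (c.right_mem hu hv hs)
  · apply ROne.NC_le_NC
    have h1 := c.right_mem hv hu (c.symm hu hv hs)
    rwa [c.wt_symm hu hv hs] at h1

/-- (5.6), the inverse direction `v ∉ C(y)` -/
theorem move_ne (hu : u ∈ Zs Om) (hv : v ∈ Zs Om) (hs : CSw (RZ Om) u v) (hy : Tw (Zs Om) (RZ Om) u y) :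
    v * y * v⁻¹ ≠ y := by
  intro hvy
  have hvy' : v * y = y * v := mul_inv_eq_iff_eq_mul.1 hvy
  have hyZ := hy.1
  -- `v` does not commute with `u`
  have hnc : v * u ≠ u * v := by
    intro h1
    apply csw_ne_conj hs
    rw [h1, mul_inv_cancel_right]
  have hcl : ∀ x ∈ cl (Zs Om) (RZ Om) y, x * u = u * x := by
    intro x hx
    rw [← hy.2] at hx
    rcases hx.2 with h1 | h1
    · rw [h1]
    · exact (c.w.wg.comm_of_cp hu hx.1 h1).symm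
  have hyv : y ≠ v := by
    intro h1
    exact hnc (hcl v (by rw [h1]; exact ROne.self_mem_cl hv))
  have hncp : ¬ ROne.CP (RZ Om) y v := fun h1 => hnc (hcl v ⟨hv, Or.inr h1⟩)
  have hu' := c.twin hu hv hs
  have hwy : Cen (RZ Om) (wt u v) y := (tw_cen c.w hu (Tw.refl hu) hy).mul (tw_cen c.w hu hu' hy)
  -- `y ∈ N`
  have hyN : y ∈ NC (wt u v) u := by
    rcases c.mem_or hu hv hs hyZ hwy with h1 | h1
    · exact h1
    · exact absurd (c.w.wg.csymm hyZ hv hyv (h1 v (c.right_mem hu hv hs))) hncp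
  have hs' := c.symm hu hv hs
  -- `y` acts on `R_v` as an inner automorphism
  have hI : Inn Om v y := c.inn hu hv hs hv (c.wt_cen_right hu hv hs) hyN hvy'.symm
  rcases Inn.cases hI c.w hv hyZ with h1 | h1 | h1
  · exact hyv h1.symm
  · exact hncp ((cp_iff c.w hv hyZ).2 h1).symm
  obtain ⟨N, hN⟩ : InZ Om v := hv
  obtain ⟨l, hl, hll⟩ := h1.exists_as c.w hN
  have hlN : l ∈ N := hl.1
  have hly : l * y * l⁻¹ = y := by rw [← hl.comm, mul_inv_cancel_right]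
  have hvZ : v ∈ Zs Om := ⟨N, hN⟩
  -- `l u l⁻¹ ∈ c[y] = c[u]`
  have h2 : l * u * l⁻¹ ∈ cl (Zs Om) (RZ Om) y := by
    have h3 : u ∈ cl (Zs Om) (RZ Om) y := by rw [← hy.2]; exact ROne.self_mem_cl hu
    have h4 := (c.w.wg.mem_cl_conj (x := u) hyZ l).2 h3
    rwa [hly] at h4
  have h3 := hcl _ h2
  have huu := c.w.wg.sq u hu
  have hsq : (l * (u * l⁻¹ * u)) * (l * (u * l⁻¹ * u)) = 1 := by
    have h4 : l * (u * l⁻¹ * u) = (l * u * l⁻¹) * u := by group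
    rw [h4]
    calc (l * u * l⁻¹) * u * ((l * u * l⁻¹) * u) = (l * u * l⁻¹) * u * (u * (l * u * l⁻¹)) := by rw [h3]
      _ = (l * u * l⁻¹) * (u * u) * (l * u * l⁻¹) := by group
      _ = 1 := by rw [huu, mul_one, c.w.wg.sq _ (c.w.wg.conjZ u hu l)]
  -- `l` commutes with `u l⁻¹ u ∈ R (u v u⁻¹)`
  have hcomm : l * (u * l⁻¹ * u) = (u * l⁻¹ * u) * l := by
    have h4 : u * l⁻¹ * u ∈ RZ Om (u * v * u⁻¹) := by
      have h5 := (hN.cj c.w u).le_RZ (conj_mem_cj (g := u) (inv_mem hlN))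
      rwa [show u * l⁻¹ * u⁻¹ = u * l⁻¹ * u by rw [c.w.wg.inv hu]] at h5
    exact hs'.2 l (hN.le_RZ hlN) _ h4
  have hl2 : l⁻¹ * l⁻¹ = v := by
    have := congrArg (fun t => t⁻¹) hll
    simp only [mul_inv_rev] at this
    rw [this, c.w.wg.inv hvZ]
  have h5 : (l * (u * l⁻¹ * u)) * (l * (u * l⁻¹ * u)) = v * (u * v * u) := by
    calc (l * (u * l⁻¹ * u)) * (l * (u * l⁻¹ * u)) = l * ((u * l⁻¹ * u) * l) * (u * l⁻¹ * u) := by group
      _ = l * (l * (u * l⁻¹ * u)) * (u * l⁻¹ * u) := by rw [hcomm]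
      _ = (l * l) * (u * (l⁻¹ * (u * u) * l⁻¹) * u) := by group
      _ = v * (u * v * u) := by rw [huu, mul_one, hl2, hll]
  rw [h5] at hsq
  apply c.w.wg.wt_ne hvZ hu hs'
  unfold wt
  rw [c.w.wg.inv hu]
  exact hsq

/-- (5.6) : `(u, v)` a C-swap, `y ∈ [u]` -/
theorem move (hu : u ∈ Zs Om) (hv : v ∈ Zs Om) (hs : CSw (RZ Om) u v) (hy : Tw (Zs Om) (RZ Om) u y) :
    CSw (RZ Om) y v ∧ wt y v = wt u v ∧ v * y * v⁻¹ = y * wt u v := by
  have hne := c.move_ne hu hv hs hy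
  have hu' := c.twin hu hv hs
  have h1 : Tw (Zs Om) (RZ Om) u (v * y * v⁻¹) := hu'.trans (c.w.wg.tw_conj hu hy v)
  have h2 : CSw (RZ Om) y v := Tw.cp hy.1 ((hy.symm hu).trans h1) hne.symm
  have h3 : Cen (RZ Om) (wt u v) y := (tw_cen c.w hu (Tw.refl hu) hy).mul (tw_cen c.w hu hu' hy)
  have h4 : wt y v = wt u v := by
    rw [← c.wt_symm hy.1 hv h2, ← c.wt_symm hu hv hs]
    exact c.tri hu hv hs hv hy.1 hu (c.symm hy.1 hv h2) (c.symm hu hv hs)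
      (c.wt_cen_right hu hv hs) h3 (c.wt_cen_left hu hv hs)
  exact ⟨h2, h4, by rw [conj_eq c.w hy.1, h4]⟩

/-- (5.7) -/
theorem wt_eq (hu : u ∈ Zs Om) (hv : v ∈ Zs Om) {v' : G} (hv' : v' ∈ Zs Om) (hs : CSw (RZ Om) u v)
    (hs' : CSw (RZ Om) u v') : wt u v = wt u v' := by
  obtain ⟨u1, hu1⟩ : ∃ u1, u1 = v' * u * v'⁻¹ := ⟨_, rfl⟩
  have hu1T : Tw (Zs Om) (RZ Om) u u1 := by rw [hu1]; exact c.twin hu hv' hs'
  have hu1Z := hu1T.1
  obtain ⟨hs1, hw1, hm1⟩ := c.move hu hv hs hu1T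
  -- `u1 ∈ N`
  have hN : ∀ {a : G}, a ∈ Zs Om → CSw (RZ Om) a v → wt a v = wt u v → a ∈ NC (wt u v) v := by
    intro a ha hsa hwa
    have h1 := c.right_mem hv ha (c.symm ha hv hsa)
    rwa [c.wt_symm ha hv hsa, hwa] at h1
  have huN : u ∈ NC (wt u v) v := hN hu hs rfl
  have hu1N : u1 ∈ NC (wt u v) v := hN hu1Z hs1 hw1
  -- every conjugate `x` of `v` under `C(w)` commutes with `u * u1`
  have hx : ∀ g, g * wt u v = wt u v * g → (g * v * g⁻¹) * (u * u1) = (u * u1) * (g * v * g⁻¹) := by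
    intro g hg
    obtain ⟨x, hxdef⟩ : ∃ x, x = g * v * g⁻¹ := ⟨_, rfl⟩
    rw [← hxdef]
    have hxZ : x ∈ Zs Om := hxdef ▸ c.w.wg.conjZ v hv g
    have hxN : x ∈ NC (wt u v) v := subset_closure ⟨g, hg, hxdef⟩
    have hxN1 : x ∈ NC (wt u v) u := by rw [← c.NC_eq hu hv hs]; exact hxN
    have hxN2 : x ∈ NC (wt u1 v) u1 := by rw [← c.NC_eq hu1Z hv hs1, hw1]; exact hxN
    by_cases hxu : x * u * x⁻¹ = u
    · by_cases hxu1 : x * u1 * x⁻¹ = u1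
      · have h1 : Commute x u := mul_inv_eq_iff_eq_mul.1 hxu
        have h2 : Commute x u1 := mul_inv_eq_iff_eq_mul.1 hxu1
        exact (h1.mul_right h2).eq
      · exfalso
        rcases c.act hu1Z hv hs1 hxN2 with h1 | h1
        · exact hxu1 h1
        have h2 : CSw (RZ Om) u1 x := by
          unfold CSw
          rw [h1, ← conj_eq c.w hu1Z]
          exact hs1
        exact c.move_ne hu1Z hxZ h2 (hu1T.symm hu) hxu
    · rcases c.act hu hv hs hxN1 with h1 | h1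
      · exact absurd h1 hxu
      have h2 : CSw (RZ Om) u x := by
        unfold CSw
        rw [h1, ← conj_eq c.w hu]
        exact hs
      have h3 : wt u x = wt u v := by
        have h4 : u * wt u x = u * wt u v := by rw [← conj_eq c.w hu, h1]
        exact mul_left_cancel h4
      have h4 := (c.move hu hxZ h2 hu1T).2.2
      rw [h3] at h4
      have h5 : x * (u * u1) * x⁻¹ = u * u1 := by
        calc x * (u * u1) * x⁻¹ = (x * u * x⁻¹) * (x * u1 * x⁻¹) := by group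
          _ = u * (wt u v * u1) * wt u v := by rw [h1, h4]; group
          _ = u * (u1 * wt u v) * wt u v := by
            have h6 := c.w.wg.wt_comm_u hu1Z hv hs1
            rw [hw1] at h6
            rw [h6]
          _ = u * u1 * (wt u v * wt u v) := by group
          _ = u * u1 := by rw [c.w.wg.wt_sq hu hv hs, mul_one]
      exact mul_inv_eq_iff_eq_mul.1 h5
  -- `w1 = u * u1` is central in `N`
  have hcen : ∀ m ∈ NC (wt u v) v, (u * u1) * m = m * (u * u1) :=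
    ROne.comm_of_gens fun g hg => (hx g hg).symm
  have hw1N : u * u1 ∈ NC (wt u v) u := by
    rw [← c.NC_eq hu hv hs]; exact mul_mem huN hu1N
  have hcu : Cen (RZ Om) (u * u1) u := c.cent hu hv hs hw1N (by
    intro m hm; rw [← c.NC_eq hu hv hs] at hm; exact hcen m hm)
  have hcv : Cen (RZ Om) (u * u1) v := by
    have hs2 := c.symm hu hv hs
    have hws := c.wt_symm hu hv hs
    refine c.cent hv hu hs2 ?_ ?_
    · rw [hws]; exact mul_mem huN hu1N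
    · intro m hm; rw [hws] at hm; exact hcen m hm
  have e : wt u v' = u * u1 := by rw [hu1]; rfl
  exact c.tri hu hv' hs' hu hv hv' hs hs' (by rw [e]; exact hcu) (by rw [e]; exact hcv)
    (c.wt_cen_right hu hv' hs')

/-! ### `t_u` -/

theorem tt_eq (hu : u ∈ Zs Om) (hv : v ∈ Zs Om) (hs : CSw (RZ Om) u v) : tt (Zs Om) (RZ Om) u = wt u v := by
  have h1 : ∃ v ∈ Zs Om, CSw (RZ Om) u v := ⟨v, hv, hs⟩
  rw [tt, dif_pos h1]
  exact c.wt_eq hu h1.choose_spec.1 hv h1.choose_spec.2 hs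

theorem tt_conj (hu : u ∈ Zs Om) (g : G) : tt (Zs Om) (RZ Om) (g * u * g⁻¹) = g * tt (Zs Om) (RZ Om) u * g⁻¹ := by
  by_cases h1 : ∃ v ∈ Zs Om, CSw (RZ Om) u v
  · obtain ⟨v, hv, hs⟩ := h1
    rw [c.tt_eq hu hv hs, c.tt_eq (c.w.wg.conjZ u hu g) (c.w.wg.conjZ v hv g) (c.w.wg.csw_conj hu hs g),
      ROne.wt_conj]
  · have h2 : ¬ ∃ v ∈ Zs Om, CSw (RZ Om) (g * u * g⁻¹) v := by
      rintro ⟨v, hv, hs⟩
      apply h1
      refine ⟨g⁻¹ * v * g, ?_, ?_⟩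
      · have := c.w.wg.conjZ v hv g⁻¹
        rwa [inv_inv] at this
      · have := c.w.wg.csw_conj (c.w.wg.conjZ u hu g) hs g⁻¹
        have e1 : g⁻¹ * (g * u * g⁻¹) * g⁻¹⁻¹ = u := by group
        have e2 : g⁻¹ * v * g⁻¹⁻¹ = g⁻¹ * v * g := by group
        rwa [e1, e2] at this
    rw [tt_of_not h1, tt_of_not h2]
    group

/-- `C(u) ≤ C(t_u)` -/
theorem tt_comm (hu : u ∈ Zs Om) (hg : g * u = u * g) : g * tt (Zs Om) (RZ Om) u = tt (Zs Om) (RZ Om) u * g := by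
  have h1 := c.tt_conj hu g
  rw [hg, mul_inv_cancel_right] at h1
  exact (eq_mul_inv_iff_mul_eq.1 h1).symm

/-- `t` is constant on twins -/
theorem tt_tw (hu : u ∈ Zs Om) (hy : Tw (Zs Om) (RZ Om) u y) : tt (Zs Om) (RZ Om) y = tt (Zs Om) (RZ Om) u := by
  by_cases h1 : ∃ v ∈ Zs Om, CSw (RZ Om) u v
  · obtain ⟨v, hv, hs⟩ := h1
    obtain ⟨h2, h3, -⟩ := c.move hu hv hs hy
    rw [c.tt_eq hu hv hs, c.tt_eq hy.1 hv h2, h3]
  · have h2 : ¬ ∃ v ∈ Zs Om, CSw (RZ Om) y v := by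
      rintro ⟨v, hv, hs⟩
      exact h1 ⟨v, hv, (c.move hy.1 hv hs (hy.symm hu)).1⟩
    rw [tt_of_not h1, tt_of_not h2]

/-- `t_u = t_v` on C-swaps -/
theorem tt_swap (hu : u ∈ Zs Om) (hv : v ∈ Zs Om) (hs : CSw (RZ Om) u v) :
    tt (Zs Om) (RZ Om) u = tt (Zs Om) (RZ Om) v := by
  rw [c.tt_eq hu hv hs, c.tt_eq hv hu (c.symm hu hv hs), c.wt_symm hu hv hs]

/-- `[R_u, t_u] = 1` -/
theorem tt_cen (hu : u ∈ Zs Om) : Cen (RZ Om) (tt (Zs Om) (RZ Om) u) u := by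
  by_cases h1 : ∃ v ∈ Zs Om, CSw (RZ Om) u v
  · obtain ⟨v, hv, hs⟩ := h1
    rw [c.tt_eq hu hv hs]
    exact c.wt_cen_left hu hv hs
  · rw [tt_of_not h1]
    intro k _
    simp

/-- if `R_x` centralises all twins of `u`, it centralises `t_u` -/
theorem tt_cen_of (hu : u ∈ Zs Om) (hx : ∀ y, Tw (Zs Om) (RZ Om) u y → Cen (RZ Om) y x) :
    Cen (RZ Om) (tt (Zs Om) (RZ Om) u) x := by
  by_cases h1 : ∃ v ∈ Zs Om, CSw (RZ Om) u v
  · obtain ⟨v, hv, hs⟩ := h1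
    rw [c.tt_eq hu hv hs]
    exact (hx u (Tw.refl hu)).mul (hx _ (c.twin hu hv hs))
  · rw [tt_of_not h1]
    intro k _
    simp

theorem tt_sq (hu : u ∈ Zs Om) : tt (Zs Om) (RZ Om) u * tt (Zs Om) (RZ Om) u = 1 := by
  by_cases h1 : ∃ v ∈ Zs Om, CSw (RZ Om) u v
  · obtain ⟨v, hv, hs⟩ := h1
    rw [c.tt_eq hu hv hs]
    exact c.w.wg.wt_sq hu hv hs
  · rw [tt, dif_neg h1, mul_one]

theorem tt_ne (hu : u ∈ Zs Om) (hv : v ∈ Zs Om) (hs : CSw (RZ Om) u v) : tt (Zs Om) (RZ Om) u ≠ 1 := by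
  rw [c.tt_eq hu hv hs]
  exact c.w.wg.wt_ne hu hv hs

/-- `t_u = u · v u v⁻¹` with `v u v⁻¹ ∈ [u]` -/
theorem tt_prod (hu : u ∈ Zs Om) (hv : v ∈ Zs Om) (hs : CSw (RZ Om) u v) :
    tt (Zs Om) (RZ Om) u = u * (v * u * v⁻¹) ∧ Tw (Zs Om) (RZ Om) u (v * u * v⁻¹) :=
  ⟨c.tt_eq hu hv hs, c.twin hu hv hs⟩

/-- one C-swap: every `u` is in a C-swap -/
theorem exists_swap (ha : a ∈ Zs Om) (hb : b ∈ Zs Om) (hs : CSw (RZ Om) a b) (hu : u ∈ Zs Om) :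
    ∃ v ∈ Zs Om, CSw (RZ Om) u v := by
  obtain ⟨g, rfl⟩ := c.one a ha u hu
  exact ⟨_, c.w.wg.conjZ b hb g, c.w.wg.csw_conj ha hs g⟩

/-- (5.8) -/
theorem tt_not_mem (hu : u ∈ Zs Om) (hv : v ∈ Zs Om) (hs : CSw (RZ Om) u v) : tt (Zs Om) (RZ Om) u ∉ Zs Om := by
  intro hsZ
  obtain ⟨s, hsdef⟩ : ∃ s, s = tt (Zs Om) (RZ Om) u := ⟨_, rfl⟩
  rw [← hsdef] at hsZ
  have hwe : s = wt u v := hsdef.trans (c.tt_eq hu hv hs)
  -- `C(u) = C(s)`
  have hle : centralizer {u} ≤ centralizer {s} := by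
    intro g hg
    rw [mem_centralizer_singleton_iff] at hg ⊢
    rw [hsdef]
    exact c.tt_comm hu hg
  have heq : centralizer {u} = centralizer {s} := by
    obtain ⟨g, hg⟩ := c.one u hu s hsZ
    refine eq_of_le_of_card_ge hle ?_
    rw [← hg, ← cj_centralizer, card_cj]
  -- `c[u] ⊆ c[s]`
  have hsub : cl (Zs Om) (RZ Om) u ⊆ cl (Zs Om) (RZ Om) s := by
    intro y hy
    refine ⟨hy.1, ?_⟩
    by_cases hys : y = s
    · exact Or.inl hys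
    right
    have h1 : Cen (RZ Om) s y := by
      intro k hk
      have h2 : k ∈ centralizer {u} := by
        rw [mem_centralizer_singleton_iff]
        rcases hy.2 with h3 | h3
        · rw [h3] at hk; exact c.w.wg.cent hu hk
        · exact (h3.2 u (c.w.wg.mem u hu) k hk).symm
      rw [heq, mem_centralizer_singleton_iff] at h2
      exact h2.symm
    exact (c.w.wg.csymm hy.1 hsZ hys h1).symm
  have hcl : cl (Zs Om) (RZ Om) u = cl (Zs Om) (RZ Om) s := by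
    obtain ⟨g, hg⟩ := c.one u hu s hsZ
    have h1 : cl (Zs Om) (RZ Om) s = (fun x => g * x * g⁻¹) '' cl (Zs Om) (RZ Om) u := by
      ext x
      constructor
      · intro hx
        refine ⟨g⁻¹ * x * g, ?_, by group⟩
        rw [← c.w.wg.mem_cl_conj hu g, hg]
        have e : g * (g⁻¹ * x * g) * g⁻¹ = x := by group
        rwa [e]
      · rintro ⟨y, hy, rfl⟩
        rw [← hg]
        exact (c.w.wg.mem_cl_conj hu g).2 hy
    refine Set.eq_of_subset_of_ncard_le hsub ?_ (Set.toFinite _)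
    rw [h1]
    exact Set.ncard_image_le (Set.toFinite _)
  have hT : Tw (Zs Om) (RZ Om) u s := ⟨hsZ, hcl⟩
  apply c.move_ne hu hv hs hT
  have h2 := cen_comm c.w hv (c.wt_cen_right hu hv hs)
  rw [← hwe] at h2
  rw [← h2, mul_inv_cancel_right]

end TC

end

end Cfsg.Agent.Cit.Nil.RTwoM.L1
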